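import Cfsg.Agent.Lib.FT.Route.StepB
import Cfsg.Agent.Lib.FT.PF13.Facts
import Cfsg.Agent.Lib.Coprime.Action2

/-!
# The field data read off Step B

For a pair of sides: `U` is cyclic, acts without fixed points on `S_F`, has order
`(p ^ q - 1) / (p - 1)`, and that number is coprime to `p - 1`.
-/

set_option autoImplicit false
set_option linter.style.haveILetI false

namespace CfsgLib.FT.Route

open _root_.Subgroup Cfsg CfsgLib.FT.PF13 CfsgLib.OddOrder

universe u

variable {G : Type u} [Group G] [Finite G]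

/-- `gcd ((p ^ q - 1) / (p - 1), p - 1)` is `1` once `q` does not divide the first number. -/
theorem coprime_geom {p q N : ℕ} (hp : 2 ≤ p) (hq : q.Prime) (hN : N * (p - 1) = p ^ q - 1)
    (hqN : ¬ q ∣ N) : ((p ^ q - 1) / (p - 1)).Coprime (p - 1) := by
  rw [← hN, Nat.mul_div_cancel _ (show 0 < p - 1 by omega)]
  have hsum : N = ∑ i ∈ Finset.range q, p ^ i :=
    Nat.eq_of_mul_eq_mul_right (show 0 < p - 1 by omega)
      (hN.trans (geom_sum_mul_of_one_le (by omega : 1 ≤ p) q).symm)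
  refine Nat.coprime_of_dvd fun r hr hrN hrp => hqN ?_
  haveI := Fact.mk hr
  have h1 : (p : ZMod r) = 1 := by
    have h := (ZMod.natCast_eq_zero_iff (p - 1) r).mpr hrp
    rwa [Nat.cast_sub (by omega : 1 ≤ p), Nat.cast_one, sub_eq_zero] at h
  have h2 : (q : ZMod r) = 0 := by
    have h := (ZMod.natCast_eq_zero_iff N r).mpr hrN
    rw [hsum, Nat.cast_sum] at h
    simpa [h1] using h
  rwa [← (Nat.prime_dvd_prime_iff_eq hr hq).mp ((ZMod.natCast_eq_zero_iff q r).mp h2)]

theorem field_data {S T W₁ W₂ U V : Subgroup G} (F : Facts S W₁ U W₂) (E : Facts T W₂ V W₁) :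
    IsCyclic U ∧ Nat.card U * (Nat.card W₂ - 1) = Nat.card W₂ ^ Nat.card W₁ - 1 ∧
      (∀ u ∈ U, u ≠ 1 → ∀ x ∈ fittingHallOf S, u * x = x * u → x = 1) ∧
      Nat.Coprime ((Nat.card W₂ ^ Nat.card W₁ - 1) / (Nat.card W₂ - 1)) (Nat.card W₂ - 1) := by
  obtain ⟨hC, hu⟩ := step_B_side F.side E.side
  have hC' : F.loc.C = ⊥ := hC
  have hu' : F.loc.u * (F.loc.p - 1) = F.loc.p ^ F.loc.q - 1 := hu
  have hcardU : Nat.card U * (Nat.card W₂ - 1) = Nat.card W₂ ^ Nat.card W₁ - 1 := by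
    have h : F.loc.u = Nat.card U := by
      rw [LocalS.u, hC', relIndex_bot_left]
      exact Nat.card_congr (subgroupOfEquivOfLe (U_le F.hP)).toEquiv
    rw [h] at hu'
    exact hu'
  have hp2 := F.prime_p.two_le
  have hirr : F.loc.Irred := by
    by_contra hn
    have h := F.loc.u_bound_of_not_irred hn
    rw [hu'] at h
    have : 1 < F.loc.p ^ F.loc.q := Nat.one_lt_pow F.prime_q.ne_zero F.prime_p.one_lt
    omega
  have hfpf : ∀ u ∈ U, u ≠ 1 → ∀ x ∈ fittingHallOf S, u * x = x * u → x = 1 := by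
    intro v hv hv1 x hx hc
    by_contra hx1
    have hmem := F.loc.mem_C_of_irred hirr (v := ⟨v, U_le F.hP hv⟩) (a := ⟨x, F.H_le hx⟩) hv hx
      (fun e => hx1 (congrArg Subtype.val e)) (Subtype.ext hc)
    rw [hC', mem_bot] at hmem
    exact hv1 (congrArg Subtype.val hmem)
  refine ⟨?_, hcardU, hfpf, coprime_geom hp2 F.prime_q hcardU F.q_coprime_U⟩
  by_contra hnc
  haveI : IsMulCommutative U := ⟨⟨fun a b => Subtype.ext (F.U_comm a a.2 b b.2)⟩⟩
  have h := CfsgLib.Coprime.le_of_centralizer_le_of_not_isCyclic (R := (⊥ : Subgroup G)) hnc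
    ((U_le F.hP).trans (le_normalizer_fittingHallOf S)) (coprime_U_H F.hP) fun a ha ha1 x hx =>
      mem_bot.mpr (hfpf a ha ha1 x hx.1 (mem_centralizer_iff.mp hx.2 a rfl))
  have h2 : Nat.card (fittingHallOf S) = 1 := card_eq_one.mpr (le_bot_iff.mp h)
  rw [F.card_H] at h2
  exact (Nat.one_lt_pow F.prime_q.ne_zero F.prime_p.one_lt).ne' h2

end CfsgLib.FT.Route
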