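import Cfsg.Agent.Lib.FT.PF13.Centralizer
import Cfsg.Agent.Lib.FT.FrobeniusFormula
import Cfsg.Agent.Lib.OddOrder.FixedPoints

/-!
# The index `u = |U : C_U(P)|` is either `(p ^ q - 1) / (p - 1)` or at most a third of it

Either `U` is irreducible on `P`, so acts semiregularly and `u` divides `(p ^ q - 1) / (p - 1)`, or
`P` is the product of lines permuted by `W₁` and `u` is at most `((p - 1) / 2) ^ (q - 1)`.
-/

set_option autoImplicit false
set_option linter.style.haveILetI false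
set_option linter.unusedSectionVars false

namespace CfsgLib.FT.PF13.LocalS

open _root_.Subgroup
open scoped IsMulCommutative

universe u

variable {L : Type u} [Group L] [Finite L] (T : LocalS L)

/-- `A` is normalised by `U`. -/
def Invariant (A : Subgroup L) : Prop := ∀ v ∈ T.U, ∀ a ∈ A, v * a * v⁻¹ ∈ A

/-- `U` is irreducible on `P`. -/
def Irred : Prop := ∀ A : Subgroup L, A ≤ T.P → A ≠ ⊥ → T.Invariant A → A = T.P

theorem C_normal_W₁ {x v : L} (hx : x ∈ T.W₁) (hv : v ∈ T.C) : x⁻¹ * v * x ∈ T.C := by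
  simpa using T.W₁_conj_mem_C (T.W₁.inv_mem hx) hv

theorem conj_mem_U {x v : L} (hx : x ∈ T.W₁) (hv : v ∈ T.U) : x⁻¹ * v * x ∈ T.U := by
  simpa using T.W₁_norm x⁻¹ (T.W₁.inv_mem hx) v hv

theorem mem_C_of_fixed_point {v y : L} (hv : v ∈ T.U) (hy : y ∈ T.W₂) (hy1 : y ≠ 1)
    (h : v * y = y * v) : v ∈ T.C := by
  haveI := Fact.mk T.prime_p
  refine T.mem_C_of_norm_W₂ hv fun w hw => ?_
  have hne : (⟨y, hy⟩ : T.W₂) ≠ 1 := fun e => hy1 (congrArg Subtype.val e)
  obtain ⟨k, hk⟩ := Subgroup.mem_zpowers_iff.mp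
    (mem_zpowers_of_prime_card (g' := (⟨w, hw⟩ : T.W₂)) T.card_W₂ hne)
  rw [← show y ^ k = w from congrArg Subtype.val hk,
    ((show Commute v y from h).zpow_right k).eq, mul_inv_cancel_right]
  exact T.W₂.zpow_mem hy k

/-- A subgroup of `P` invariant under `U` and `W₁` is trivial or all of `P`. -/
theorem eq_P_of_invariant {X : Subgroup L} (hXP : X ≤ T.P) (hX : X ≠ ⊥) (hU : T.Invariant X)
    (hW : ∀ x ∈ T.W₁, ∀ a ∈ X, x * a * x⁻¹ ∈ X) : X = T.P := by
  haveI := T.normal_P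
  obtain ⟨x₀, hx₀, hx₀1⟩ := T.exists_W₁_ne_one
  have hW₁ne : T.W₁ ≠ ⊥ := fun e => T.prime_q.one_lt.ne (by
    rw [← T.card_W₁, e, Subgroup.card_bot])
  have formula : ∀ Y : Subgroup L, Y ≤ T.P → T.Invariant Y → (∀ x ∈ T.W₁, ∀ a ∈ Y, x * a * x⁻¹ ∈ Y) →
      Nat.card ↥(Y ⊓ centralizer ((T.U ⊔ T.W₁ : Subgroup L) : Set L)) ^ T.q * Nat.card Y =
        Nat.card ↥(Y ⊓ centralizer (T.W₁ : Set L)) ^ T.q *
          Nat.card ↥(Y ⊓ centralizer (T.U : Set L)) := by
    intro Y hYP hYU hYW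
    rw [← T.card_W₁]
    refine CfsgLib.FT.card_centralizer_formula hW₁ne T.W₁_norm
      (fun e he he1 v hv h => T.fpf_U he he1 hv (by rw [h, mul_inv_cancel_right])) Y ?_ ?_ ?_
    · refine sup_le (fun v hv => mem_normalizer_iff.mpr fun a => ⟨hYU v hv a, fun h => ?_⟩)
        fun x hx => mem_normalizer_iff.mpr fun a => ⟨hYW x hx a, fun h => ?_⟩
      · simpa [mul_assoc] using hYU v⁻¹ (T.U.inv_mem hv) _ h
      · simpa [mul_assoc] using hYW x⁻¹ (T.W₁.inv_mem hx) _ h
    · haveI : IsMulCommutative Y := ⟨⟨fun a b => Subtype.ext (T.comm_P a (hYP a.2) b (hYP b.2))⟩⟩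
      exact Group.isSolvable_of_comm fun a b => mul_comm' a b
    · have h1 : (Nat.card T.W₁ * Nat.card T.U).Coprime (Nat.card T.P) := by
        rw [T.card_W₁, T.card_P]
        exact Nat.Coprime.mul_left (((Nat.coprime_primes T.prime_q T.prime_p).mpr T.ne.symm).pow_right _)
          ((T.prime_p.coprime_iff_not_dvd.mpr T.p_coprime).symm.pow_right _)
      refine (h1.symm.coprime_dvd_left (Subgroup.card_dvd_of_le hYP)).coprime_dvd_right ?_
      rw [sup_comm]
      exact CfsgLib.Coprime.card_sup_dvd (fun x hx => mem_normalizer_iff.mpr fun v =>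
        ⟨T.W₁_norm x hx v, fun h => by simpa [mul_assoc] using T.W₁_norm x⁻¹ (T.W₁.inv_mem hx) _ h⟩)
  have hfix : T.P ⊓ centralizer (T.W₁ : Set L) = T.W₂ := by
    refine le_antisymm (fun y hy => ?_) fun y hy => ⟨T.W₂_le hy,
      mem_centralizer_iff.mpr fun x hx => T.commute_W₁_W₂ hx hy⟩
    rw [← T.fix x₀ hx₀ hx₀1]
    exact ⟨mem_sup_left hy.1, mem_centralizer_singleton_iff.mpr (mem_centralizer_iff.mp hy.2 x₀ hx₀).symm⟩
  have hcU : T.P ⊓ centralizer (T.U : Set L) = ⊥ := by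
    have hbot : T.P ⊓ centralizer ((T.U ⊔ T.W₁ : Subgroup L) : Set L) = ⊥ := by
      refine (Subgroup.eq_bot_iff_forall _).mpr fun y hy => ?_
      have hy2 : y ∈ T.W₂ := hfix ▸ (⟨hy.1, mem_centralizer_iff.mpr fun x hx =>
        mem_centralizer_iff.mp hy.2 x (SetLike.mem_coe.mpr (mem_sup_right hx))⟩ :
          y ∈ T.P ⊓ centralizer (T.W₁ : Set L))
      by_contra hy1
      refine T.U_act fun v hv => ?_
      have hvC : v ∈ T.C := T.mem_C_of_fixed_point hv hy2 hy1
        (mem_centralizer_iff.mp hy.2 v (SetLike.mem_coe.mpr (mem_sup_left hv)))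
      exact hvC.2
    have h := formula T.P le_rfl (fun v hv a ha => T.normal_P.conj_mem a ha v)
      fun x _ a ha => T.normal_P.conj_mem a ha x
    rw [hbot, hfix, Subgroup.card_bot, one_pow, one_mul, T.card_W₂, T.card_P] at h
    have h1 : Nat.card ↥(T.P ⊓ centralizer (T.U : Set L)) = 1 :=
      Nat.eq_of_mul_eq_mul_left (pow_pos T.prime_p.pos T.q) (by rw [mul_one]; exact h.symm)
    exact Subgroup.eq_bot_of_card_eq _ h1
  have h := formula X hXP hU hW
  have hb : X ⊓ centralizer (T.U : Set L) = ⊥ :=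
    le_bot_iff.mp ((inf_le_inf_right _ hXP).trans hcU.le)
  have hb' : X ⊓ centralizer ((T.U ⊔ T.W₁ : Subgroup L) : Set L) = ⊥ := le_bot_iff.mp
    ((inf_le_inf_left X (Subgroup.centralizer_le (show (T.U : Set L) ⊆ ((T.U ⊔ T.W₁ : Subgroup L) : Set L)
      from SetLike.coe_subset_coe.mpr le_sup_left))).trans hb.le)
  rw [hb, hb', Subgroup.card_bot, one_pow, one_mul, mul_one] at h
  refine Subgroup.eq_of_le_of_card_ge hXP ?_
  have hle : X ⊓ centralizer (T.W₁ : Set L) ≤ T.W₂ := hfix ▸ inf_le_inf_right _ hXP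
  have hd := Subgroup.card_dvd_of_le hle
  rw [T.card_W₂] at hd
  rcases (Nat.dvd_prime T.prime_p).mp hd with h1 | h1
  · rw [h1, one_pow] at h
    exact absurd (Subgroup.eq_bot_of_card_eq _ h) hX
  · rw [h, h1, T.card_P]

theorem exists_minimal_invariant :
    ∃ A : Subgroup L, A ≤ T.P ∧ A ≠ ⊥ ∧ T.Invariant A ∧
      ∀ B : Subgroup L, B ≤ A → B ≠ ⊥ → T.Invariant B → B = A := by
  have hP : T.P ≠ ⊥ := fun e => T.prime_p.one_lt.ne (by
    have h := T.card_P
    rw [e, Subgroup.card_bot] at h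
    exact absurd h.symm (Nat.one_lt_pow T.prime_q.ne_zero T.prime_p.one_lt).ne')
  obtain ⟨A, ⟨hA1, hA2, hA3⟩, hmin⟩ := (Set.toFinite {A : Subgroup L | A ≤ T.P ∧ A ≠ ⊥ ∧ T.Invariant A}).exists_minimal
    ⟨T.P, le_rfl, hP, fun v _ a ha => T.normal_P.conj_mem a ha v⟩
  exact ⟨A, hA1, hA2, hA3, fun B hB hB1 hB2 => le_antisymm hB
    (hmin ⟨hB.trans hA1, hB1, hB2⟩ hB)⟩

/-- The reducible case, in the precise form. -/
theorem u_le_of_not_irred (h : ¬ T.Irred) : T.u ≤ ((T.p - 1) / 2) ^ (T.q - 1) := by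
  classical
  haveI : Fintype T.W₁ := Fintype.ofFinite _
  haveI : IsMulCommutative T.U := ⟨⟨fun a b => Subtype.ext (T.comm_U a a.2 b b.2)⟩⟩
  obtain ⟨A, hAP, hA1, hAU, hmin⟩ := T.exists_minimal_invariant
  have hAne : A ≠ T.P := fun e => h fun B hB hB1 hB2 => (hmin B (hB.trans e.ge) hB1 hB2).trans e
  let f : T.W₁ → Subgroup L := fun x => A.map (MulAut.conj (x : L)).toMonoidHom
  have hmemf : ∀ x : T.W₁, ∀ a : L, a ∈ f x ↔ (x : L)⁻¹ * a * x ∈ A := fun x a => by
    constructor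
    · rintro ⟨b, hb, rfl⟩
      simpa [mul_assoc] using hb
    · exact fun hb => ⟨_, hb, by simp [mul_assoc]⟩
  have hfP : ∀ x, f x ≤ T.P := fun x a ha => by
    simpa [mul_assoc] using T.normal_P.conj_mem _ (hAP ((hmemf x a).mp ha)) (x : L)
  have hfU : ∀ x, T.Invariant (f x) := fun x v hv a ha => by
    rw [hmemf] at ha ⊢
    simpa [mul_assoc] using hAU _ (T.conj_mem_U x.2 hv) _ ha
  have hfmin : ∀ x, ∀ B, B ≤ f x → B ≠ ⊥ → T.Invariant B → B = f x := by
    intro x B hB hB1 hBU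
    have hB' : B.map (MulAut.conj (x : L)⁻¹).toMonoidHom = A := by
      refine hmin _ ?_ ?_ ?_
      · rintro _ ⟨b, hb, rfl⟩
        simpa [mul_assoc] using (hmemf x b).mp (hB hb)
      · rwa [Ne, Subgroup.map_eq_bot_iff_of_injective _ (MulEquiv.injective _)]
      · rintro v hv _ ⟨b, hb, rfl⟩
        exact ⟨((x : L) * v * (x : L)⁻¹) * b * ((x : L) * v * (x : L)⁻¹)⁻¹,
          hBU _ (T.W₁_norm x x.2 v hv) b hb, by simp [mul_assoc]⟩
    refine Subgroup.eq_of_le_of_card_ge hB (le_of_eq ?_)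
    rw [show Nat.card B = Nat.card A by
      rw [← hB']; exact (Subgroup.card_map_of_injective (MulAut.conj (x : L)⁻¹).injective).symm]
    exact Subgroup.card_map_of_injective (MulAut.conj (x : L)).injective
  have hcard : ∀ s : Finset T.W₁, s.sup f ≤ T.P ∧ T.Invariant (s.sup f) ∧
      ∃ k : ℕ, Nat.card ↥(s.sup f) = Nat.card A ^ k := by
    intro s
    induction s using Finset.induction with
    | empty => exact ⟨by simp, fun v _ a ha => by
        rw [Finset.sup_empty, mem_bot] at ha ⊢; subst ha; simp, 0, by simp⟩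
    | insert x s hxs ih =>
      obtain ⟨hsP, hsU, k, hk⟩ := ih
      rw [Finset.sup_insert]
      have hcomm : f x ≤ normalizer ((s.sup f : Subgroup L) : Set L) := fun a ha =>
        centralizer_le_normalizer _ (mem_centralizer_iff.mpr fun b hb =>
          T.comm_P b (hsP hb) a (hfP x ha))
      have hU' : T.Invariant (f x ⊔ s.sup f) := by
        intro v hv a ha
        obtain ⟨b, hb, c, hc, rfl⟩ := (CfsgLib.Coprime.mem_sup_iff_of_le_normalizer hcomm).mp ha
        rw [show v * (b * c) * v⁻¹ = (v * b * v⁻¹) * (v * c * v⁻¹) by group]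
        exact mul_mem_sup (hfU x v hv b hb) (hsU v hv c hc)
      refine ⟨sup_le (hfP x) hsP, hU', ?_⟩
      by_cases hint : f x ⊓ s.sup f = ⊥
      · refine ⟨k + 1, ?_⟩
        rw [CfsgLib.Coprime.card_sup_of_inf_eq_bot hcomm hint, hk, pow_succ, mul_comm,
          show Nat.card (f x) = Nat.card A from Subgroup.card_map_of_injective (MulEquiv.injective _)]
      · refine ⟨k, ?_⟩
        have hle : f x ≤ s.sup f := by
          rw [← hfmin x _ inf_le_left hint fun v hv a ha => ⟨hfU x v hv a ha.1, hsU v hv a ha.2⟩]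
          exact inf_le_right
        rw [sup_eq_right.mpr hle, hk]
  obtain ⟨hXP, hXU, k, hk⟩ := hcard Finset.univ
  have hone : A ≤ (Finset.univ : Finset T.W₁).sup f := by
    refine le_trans (fun a ha => (hmemf 1 a).mpr (by simpa using ha)) (Finset.le_sup (Finset.mem_univ _))
  have hX : (Finset.univ : Finset T.W₁).sup f = T.P := by
    refine T.eq_P_of_invariant hXP (fun e => hA1 (le_bot_iff.mp (hone.trans e.le))) hXU ?_
    intro x hx
    suffices hle : (Finset.univ : Finset T.W₁).sup f ≤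
        ((Finset.univ : Finset T.W₁).sup f).comap (MulAut.conj x).toMonoidHom from fun a ha => hle ha
    refine Finset.sup_le fun z _ a ha => ?_
    refine Finset.le_sup (f := f) (Finset.mem_univ (⟨x, hx⟩ * z : T.W₁)) ?_
    rw [hmemf]
    simpa [mul_assoc] using (hmemf z a).mp ha
  rw [hX, T.card_P] at hk
  have hAp : Nat.card A = T.p := by
    obtain ⟨d, hdq, hd⟩ := (Nat.dvd_prime_pow T.prime_p).mp (T.card_P ▸ Subgroup.card_dvd_of_le hAP)
    rw [hd, ← pow_mul] at hk
    have hqk := Nat.pow_right_injective T.prime_p.two_le hk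
    rcases (Nat.dvd_prime T.prime_q).mp ⟨k, hqk⟩ with h1 | h1
    · rw [hd, h1, pow_one]
    · exact absurd (Subgroup.eq_of_le_of_card_ge hAP (by rw [hd, h1, T.card_P])) hAne
  haveI := Fact.mk T.prime_p
  haveI : IsCyclic A := isCyclic_of_prime_card hAp
  have hUN : T.U ≤ normalizer (A : Set L) := fun v hv => mem_normalizer_iff.mpr fun a =>
    ⟨hAU v hv a, fun ha => by simpa [mul_assoc] using hAU v⁻¹ (T.U.inv_mem hv) _ ha⟩
  let χ : T.U →* MulAut A := A.normalizerMonoidHom.comp (Subgroup.inclusion hUN)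
  have hχ : ∀ (v : T.U) (a : A), ((χ v a : A) : L) = (v : L) * a * (v : L)⁻¹ := fun v a => rfl
  set R := χ.range
  let cj : T.W₁ → T.U →* T.U := fun x =>
    { toFun := fun v => ⟨(x : L)⁻¹ * v * x, T.conj_mem_U x.2 v.2⟩
      map_one' := Subtype.ext (by simp)
      map_mul' := fun a b => Subtype.ext (by simp [mul_assoc]) }
  have hprod : ∀ v : T.U, ∏ x : T.W₁, cj x v = 1 := by
    intro v
    set z := ∏ x : T.W₁, cj x v with hz
    obtain ⟨x₀, hx₀, hx₀1⟩ := T.exists_W₁_ne_one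
    have h1 : cj ⟨x₀, hx₀⟩ z = z := by
      rw [hz, map_prod]
      exact Fintype.prod_equiv (Equiv.mulRight ⟨x₀, hx₀⟩) _ _ fun x => Subtype.ext (by
        simp [cj, mul_assoc])
    refine Subtype.ext (T.fpf_U hx₀ hx₀1 z.2 ?_)
    have h2 : x₀⁻¹ * (z : L) * x₀ = (z : L) := congrArg Subtype.val h1
    calc x₀ * (z : L) * x₀⁻¹ = x₀ * (x₀⁻¹ * (z : L) * x₀) * x₀⁻¹ := by rw [h2]
      _ = (z : L) := by group
  let Ψ : T.U →* ({x : T.W₁ // x ≠ 1} → R) := MonoidHom.pi fun x => χ.rangeRestrict.comp (cj x.1)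
  have hker : Ψ.ker = T.C.subgroupOf T.U := by
    ext v
    rw [MonoidHom.mem_ker, mem_subgroupOf]
    constructor
    · intro hv
      refine ⟨v.2, mem_centralizer_iff.mpr fun a ha => ?_⟩
      have hne : ∀ x : T.W₁, x ≠ 1 → χ (cj x v) = 1 := fun x hx =>
        congrArg Subtype.val (congrFun hv ⟨x, hx⟩)
      have hall : ∀ x : T.W₁, χ (cj x v) = 1 := by
        intro x
        rcases eq_or_ne x 1 with rfl | hx
        · have h := congrArg χ (hprod v)
          rw [← Finset.mul_prod_erase _ _ (Finset.mem_univ (1 : T.W₁)), map_mul, map_one] at h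
          have h0 : χ (∏ x ∈ (Finset.univ : Finset T.W₁).erase 1, cj x v) = 1 := by
            refine Finset.prod_induction (fun x => cj x v) (fun w => χ w = 1)
              (fun a b ha hb => by rw [map_mul, ha, hb, one_mul]) (map_one χ) fun x hx => ?_
            exact hne x (Finset.ne_of_mem_erase hx)
          rwa [h0, mul_one] at h
        · exact hne x hx
      have hle : (Finset.univ : Finset T.W₁).sup f ≤ centralizer ({(v : L)} : Set L) := by
        refine Finset.sup_le fun x _ b hb => mem_centralizer_singleton_iff.mpr ?_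
        have h := congrArg Subtype.val (DFunLike.congr_fun (hall x) ⟨_, (hmemf x b).mp hb⟩)
        rw [hχ] at h
        simp only [cj, MonoidHom.coe_mk, OneHom.coe_mk, MulAut.one_apply] at h
        have h' : (x : L)⁻¹ * ((v : L) * b * (v : L)⁻¹) * x = (x : L)⁻¹ * b * x := by
          simpa [mul_assoc] using h
        have h'' := mul_left_cancel (mul_right_cancel h')
        exact (mul_inv_eq_iff_eq_mul.mp h'').symm
      rw [hX] at hle
      exact mem_centralizer_singleton_iff.mp (hle ha)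
    · intro hv
      funext x
      refine Subtype.ext (MulEquiv.ext fun a => Subtype.ext ?_)
      show ((χ (cj x.1 v) a : A) : L) = (a : L)
      rw [hχ]
      show ((x.1 : L)⁻¹ * v * x.1) * (a : L) * ((x.1 : L)⁻¹ * v * x.1)⁻¹ = a
      have := mem_centralizer_iff.mp (T.C_normal_W₁ x.1.2 hv).2 (a : L) (hAP a.2)
      rw [← this, mul_inv_cancel_right]
  have hu : T.u ≤ Nat.card R ^ (T.q - 1) := by
    have h1 : T.u = Nat.card Ψ.range := by
      rw [u, Subgroup.relIndex, ← hker]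
      exact Subgroup.index_ker Ψ
    rw [h1]
    refine le_trans (Nat.card_le_card_of_injective Subtype.val Subtype.val_injective) (le_of_eq ?_)
    rw [Nat.card_fun, Nat.card_eq_fintype_card (α := {x : T.W₁ // x ≠ 1}), Fintype.card_subtype_compl,
      Fintype.card_subtype_eq, ← Nat.card_eq_fintype_card, T.card_W₁]
  have hR : 2 * Nat.card R ≤ T.p - 1 := by
    have hodd : Odd (Nat.card R) := (T.odd.of_dvd_nat (Subgroup.card_subgroup_dvd_card T.U)).of_dvd_nat
      (Subgroup.card_range_dvd χ)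
    have hdvd : Nat.card R ∣ T.p - 1 := by
      have h1 := Subgroup.card_subgroup_dvd_card R
      rw [Nat.card_congr (IsCyclic.mulAutMulEquiv A).toEquiv, hAp, Nat.card_eq_fintype_card (α := (ZMod T.p)ˣ),
        ZMod.card_units_eq_totient, Nat.totient_prime T.prime_p] at h1
      exact h1
    obtain ⟨e, he⟩ := hdvd
    rcases e with _ | _ | e
    · have := T.prime_p.two_le; omega
    · exfalso
      obtain ⟨j, hj⟩ := T.prime_p.odd_of_ne_two (by have := T.two_lt_p; omega)
      obtain ⟨i, hi⟩ := hodd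
      omega
    · rw [he]; nlinarith
  exact hu.trans (Nat.pow_le_pow_left (by omega) _)

/-- The reducible case. -/
theorem u_bound_of_not_irred (h : ¬ T.Irred) : 3 * (T.u * (T.p - 1)) ≤ T.p ^ T.q - 1 := by
  have hu := T.u_le_of_not_irred h
  have hp1 : 1 ≤ T.p := T.prime_p.pos
  have hq1 : T.q - 1 + 1 = T.q := Nat.succ_pred_eq_of_pos T.prime_q.pos
  have h4 : 4 ≤ 2 ^ (T.q - 1) := by
    have := T.two_lt_q
    calc 4 = 2 ^ 2 := rfl
      _ ≤ _ := Nat.pow_le_pow_right (by norm_num) (by omega)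
  have hlt : (T.p - 1) ^ T.q < T.p ^ T.q :=
    Nat.pow_lt_pow_left (by omega) T.prime_q.ne_zero
  have h5 : 3 * T.u ≤ (T.p - 1) ^ (T.q - 1) := by
    calc 3 * T.u ≤ 2 ^ (T.q - 1) * ((T.p - 1) / 2) ^ (T.q - 1) := Nat.mul_le_mul (by omega) hu
      _ = (2 * ((T.p - 1) / 2)) ^ (T.q - 1) := (mul_pow _ _ _).symm
      _ ≤ _ := Nat.pow_le_pow_left (Nat.mul_div_le _ _) _
  have h6 := Nat.mul_le_mul_right (T.p - 1) h5
  rw [← pow_succ, hq1] at h6
  rw [← mul_assoc]
  omega

/-- In the irreducible case only `C` fixes a nontrivial element of `P`. -/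
theorem mem_C_of_irred (h : T.Irred) {v a : L} (hv : v ∈ T.U) (ha : a ∈ T.P) (ha1 : a ≠ 1)
    (hva : v * a = a * v) : v ∈ T.C := by
  refine ⟨hv, mem_centralizer_iff.mpr fun b hb => ?_⟩
  have hX : T.P ⊓ centralizer ({v} : Set L) = T.P := by
    refine h _ inf_le_left ?_ fun w hw c hc => ⟨T.normal_P.conj_mem c hc.1 w, ?_⟩
    · intro e
      have h' : a ∈ T.P ⊓ centralizer ({v} : Set L) :=
        ⟨ha, mem_centralizer_singleton_iff.mpr hva.symm⟩
      rw [e, mem_bot] at h'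
      exact ha1 h'
    · show w * c * w⁻¹ ∈ centralizer ({v} : Set L)
      rw [mem_centralizer_singleton_iff]
      have hc' := mem_centralizer_singleton_iff.mp hc.2
      have hvw := T.comm_U v hv w hw
      calc w * c * w⁻¹ * v = w * c * (w⁻¹ * v) := by group
        _ = w * (c * v) * w⁻¹ := by
            rw [T.comm_U w⁻¹ (T.U.inv_mem hw) v hv]; group
        _ = w * (v * c) * w⁻¹ := by rw [hc']
        _ = v * (w * c * w⁻¹) := by rw [← mul_assoc, ← hvw]; group
  exact mem_centralizer_singleton_iff.mp (hX.ge hb).2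

/-- The irreducible case: `u` divides `1 + p + ⋯ + p ^ (q - 1)`. -/
theorem u_dvd_of_irred (h : T.Irred) : T.u ∣ ∑ i ∈ Finset.range T.q, T.p ^ i := by
  classical
  haveI : Fintype L := Fintype.ofFinite _
  set N := ∑ i ∈ Finset.range T.q, T.p ^ i with hN
  have hNp : N * (T.p - 1) = T.p ^ T.q - 1 := geom_sum_mul_of_one_le T.prime_p.pos _
  -- `u` divides `p ^ q - 1`
  have hdvd : T.u ∣ T.p ^ T.q - 1 := by
    let X := {a : L // a ∈ T.P ∧ a ≠ 1}
    letI : MulAction T.U X :=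
      { smul := fun v a => ⟨(v : L) * a.1 * (v : L)⁻¹, T.normal_P.conj_mem _ a.2.1 _,
          fun e => a.2.2 (conj_eq_one_iff.mp e)⟩
        one_smul := fun a => Subtype.ext (by show ((1 : T.U) : L) * a.1 * ((1 : T.U) : L)⁻¹ = a.1; simp)
        mul_smul := fun v w a => Subtype.ext (by
          show ((v * w : T.U) : L) * a.1 * ((v * w : T.U) : L)⁻¹ =
            (v : L) * ((w : L) * a.1 * (w : L)⁻¹) * (v : L)⁻¹
          simp [mul_assoc]) }
    haveI : Fintype X := Fintype.ofFinite _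
    haveI : Fintype (Quotient (MulAction.orbitRel T.U X)) := Fintype.ofFinite _
    have hst : ∀ a : X, MulAction.stabilizer T.U a = T.C.subgroupOf T.U := by
      intro a
      ext v
      rw [MulAction.mem_stabilizer_iff, mem_subgroupOf, Subtype.ext_iff]
      show (v : L) * a.1 * (v : L)⁻¹ = a.1 ↔ _
      rw [mul_inv_eq_iff_eq_mul]
      exact ⟨fun e => T.mem_C_of_irred h v.2 a.2.1 a.2.2 e, fun hv => T.C_comm_P hv a.2.1⟩
    have hc := Nat.card_congr (MulAction.selfEquivSigmaOrbitsQuotientStabilizer T.U X)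
    rw [Nat.card_sigma, Finset.sum_congr rfl fun ω _ => show _ = T.u by
      rw [hst, ← Subgroup.index_eq_card]; rfl, Finset.sum_const, smul_eq_mul] at hc
    have hX : Nat.card X = T.p ^ T.q - 1 := by
      haveI : Fintype T.P := Fintype.ofFinite _
      rw [← T.card_P, Nat.card_eq_fintype_card (α := T.P), ← Finset.card_univ,
        ← Finset.card_erase_of_mem (Finset.mem_univ (1 : T.P)), Nat.card_eq_fintype_card]
      refine Fintype.card_of_subtype (((Finset.univ : Finset T.P).erase 1).map ⟨Subtype.val, Subtype.val_injective⟩) ?_ |>.trans (Finset.card_map _)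
      intro a
      simp only [Finset.mem_map, Finset.mem_erase, Finset.mem_univ, and_true, Function.Embedding.coeFn_mk]
      exact ⟨fun ⟨b, hb, e⟩ => e ▸ ⟨b.2, fun e' => hb (Subtype.ext e')⟩,
        fun ⟨h1, h2⟩ => ⟨⟨a, h1⟩, fun e => h2 (congrArg Subtype.val e), rfl⟩⟩
    rw [hX] at hc
    exact ⟨_, by rw [hc, mul_comm]⟩
  rw [← hNp] at hdvd
  refine Nat.Coprime.dvd_of_dvd_mul_right ?_ hdvd
  refine Nat.coprime_of_dvd fun r hr hru hrp => ?_
  haveI := Fact.mk hr
  haveI := Fact.mk T.prime_p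
  have hrq : r ≠ T.q := by
    rintro rfl
    exact T.q_coprime (hru.trans (Dvd.intro _ T.u_mul_card_C))
  -- an element of order `r` modulo `C`
  haveI : IsMulCommutative T.U := ⟨⟨fun a b => Subtype.ext (T.comm_U a a.2 b b.2)⟩⟩
  haveI : (T.C.subgroupOf T.U).Normal := ⟨fun a ha g => by rwa [mul_comm g, mul_inv_cancel_right]⟩
  haveI : Fintype (T.U ⧸ T.C.subgroupOf T.U) := Fintype.ofFinite _
  obtain ⟨w, hw⟩ := exists_prime_orderOf_dvd_card' (G := T.U ⧸ T.C.subgroupOf T.U) r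
    (by rw [← Subgroup.index_eq_card]; exact hru)
  obtain ⟨v, rfl⟩ := QuotientGroup.mk_surjective w
  have hvC : (v : L) ∉ T.C := fun hc => hr.one_lt.ne' (by
    rw [← hw, (QuotientGroup.eq_one_iff v).mpr hc, orderOf_one])
  have hvr : (v : L) ^ r ∈ T.C := by
    have h1 := pow_orderOf_eq_one (v : T.U ⧸ T.C.subgroupOf T.U)
    rw [hw, ← QuotientGroup.mk_pow, QuotientGroup.eq_one_iff, mem_subgroupOf] at h1
    simpa using h1
  -- it fixes a line
  set Pf : Finset L := Finset.univ.filter fun a => a ∈ T.P ∧ a ≠ 1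
  set Lines : Finset (Subgroup L) := Pf.image fun a => zpowers a
  have hline : ∀ a ∈ T.P, a ≠ 1 → Nat.card (zpowers a) = T.p := fun a ha ha1 => by
    rw [Nat.card_zpowers]
    exact ((Nat.dvd_prime T.prime_p).mp (orderOf_dvd_of_pow_eq_one (T.exp_P a ha))).resolve_left
      fun e => ha1 (orderOf_eq_one_iff.mp e)
  have hPf : Pf.card = T.p ^ T.q - 1 := by
    rw [show Pf = (Finset.univ.filter fun a => a ∈ T.P).erase 1 by
      ext a; simp [Pf, and_comm], Finset.card_erase_of_mem (by simp [T.P.one_mem]),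
      ← Fintype.card_subtype, ← Nat.card_eq_fintype_card]
    exact congrArg (· - 1) T.card_P
  have hLines : Lines.card = N := by
    have hfib : ∀ Y ∈ Lines, (Pf.filter fun a => zpowers a = Y).card = T.p - 1 := by
      intro Y hY
      obtain ⟨a, ha, rfl⟩ := Finset.mem_image.mp hY
      obtain ⟨-, haP, ha1⟩ := Finset.mem_filter.mp ha
      rw [show (Pf.filter fun b => zpowers b = zpowers a) =
          (Finset.univ.filter fun b => b ∈ zpowers a).erase 1 from ?_,
        Finset.card_erase_of_mem (by simp [(zpowers a).one_mem]), ← Fintype.card_subtype,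
        ← Nat.card_eq_fintype_card, hline a haP ha1]
      ext b
      simp only [Pf, Finset.mem_filter, Finset.mem_univ, true_and, Finset.mem_erase]
      refine ⟨fun ⟨⟨_, hb1⟩, e⟩ => ⟨hb1, e ▸ mem_zpowers b⟩, fun ⟨hb1, hb⟩ => ?_⟩
      have hbP : b ∈ T.P := zpowers_le.mpr haP hb
      exact ⟨⟨hbP, hb1⟩, Subgroup.eq_of_le_of_card_ge (zpowers_le.mpr hb)
        (by rw [hline a haP ha1, hline b hbP hb1])⟩
    have h1 := Finset.card_eq_sum_card_image (fun a => zpowers a) Pf
    rw [Finset.sum_congr rfl hfib, Finset.sum_const, smul_eq_mul, hPf, ← hNp] at h1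
    exact (Nat.eq_of_mul_eq_mul_right (by have := T.two_lt_p; omega) h1).symm
  have hconjL : ∀ g ∈ T.U, ∀ Y ∈ Lines, Y.map (MulAut.conj g).toMonoidHom ∈ Lines := by
    intro g hg Y hY
    obtain ⟨a, ha, rfl⟩ := Finset.mem_image.mp hY
    obtain ⟨-, haP, ha1⟩ := Finset.mem_filter.mp ha
    refine Finset.mem_image.mpr ⟨g * a * g⁻¹, Finset.mem_filter.mpr
      ⟨Finset.mem_univ _, T.normal_P.conj_mem a haP g, fun e => ha1 (conj_eq_one_iff.mp e)⟩, ?_⟩
    rw [MonoidHom.map_zpowers]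
    rfl
  have hcomp : ∀ (g k : L) (Y : Subgroup L),
      (Y.map (MulAut.conj k).toMonoidHom).map (MulAut.conj g).toMonoidHom =
        Y.map (MulAut.conj (g * k)).toMonoidHom := fun g k Y => by
    rw [Subgroup.map_map]
    congr 1
    ext a
    simp [mul_assoc]
  have hid : ∀ Y : Subgroup L, Y.map (MulAut.conj (1 : L)).toMonoidHom = Y := fun Y => by
    conv_rhs => rw [← Subgroup.map_id Y]
    congr 1
    ext a
    simp
  let σ : Equiv.Perm Lines :=
    { toFun := fun Y => ⟨_, hconjL v v.2 Y.1 Y.2⟩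
      invFun := fun Y => ⟨_, hconjL _ (T.U.inv_mem v.2) Y.1 Y.2⟩
      left_inv := fun Y => Subtype.ext (by
        show (Y.1.map _).map _ = Y.1
        rw [hcomp, inv_mul_cancel, hid])
      right_inv := fun Y => Subtype.ext (by
        show (Y.1.map _).map _ = Y.1
        rw [hcomp, mul_inv_cancel, hid]) }
  have hσn : ∀ n : ℕ, ∀ Y : Lines, ((σ ^ n) Y).1 = Y.1.map (MulAut.conj ((v : L) ^ n)).toMonoidHom := by
    intro n
    induction n with
    | zero => intro Y; rw [pow_zero, pow_zero, hid]; rfl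
    | succ n ih =>
      intro Y
      rw [pow_succ', Equiv.Perm.mul_apply]
      show ((σ ^ n) Y).1.map _ = _
      rw [ih, hcomp, ← pow_succ']
  have hσr : σ ^ r ^ 1 = 1 := by
    refine Equiv.ext fun Y => Subtype.ext ?_
    rw [pow_one, hσn]
    obtain ⟨a, ha, e⟩ := Finset.mem_image.mp Y.2
    obtain ⟨-, haP, -⟩ := Finset.mem_filter.mp ha
    rw [Equiv.Perm.one_apply, ← e, MonoidHom.map_zpowers]
    congr 1
    show (v : L) ^ r * a * ((v : L) ^ r)⁻¹ = a
    rw [T.C_comm_P hvr haP, mul_inv_cancel_right]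
  have hNr : ¬ r ∣ Fintype.card Lines := by
    rw [Fintype.card_coe, hLines, ← ZMod.natCast_eq_zero_iff _ r]
    have hp1 : (T.p : ZMod r) = 1 := by
      have h1 : ((T.p - 1 : ℕ) : ZMod r) = 0 := (ZMod.natCast_eq_zero_iff _ r).mpr hrp
      rwa [Nat.cast_sub T.prime_p.pos, Nat.cast_one, sub_eq_zero] at h1
    rw [hN, Nat.cast_sum]
    simp only [Nat.cast_pow, hp1, one_pow, Finset.sum_const, Finset.card_range, nsmul_one]
    rw [ZMod.natCast_eq_zero_iff]
    exact fun h' => hrq ((Nat.prime_dvd_prime_iff_eq hr T.prime_q).mp h')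
  obtain ⟨⟨Y, hY⟩, hfixY⟩ := Equiv.Perm.exists_fixed_point_of_prime hNr hσr
  obtain ⟨a, ha, rfl⟩ := Finset.mem_image.mp hY
  obtain ⟨-, haP, ha1⟩ := Finset.mem_filter.mp ha
  have hva : (v : L) * a * (v : L)⁻¹ ∈ zpowers a := by
    have h1 : (zpowers a).map (MulAut.conj (v : L)).toMonoidHom = zpowers a := congrArg Subtype.val hfixY
    exact h1 ▸ mem_map_of_mem _ (mem_zpowers a)
  obtain ⟨k, hk⟩ := mem_zpowers_iff.mp hva
  -- all of `P` is scaled by `k`
  have hvv := v.2
  let E : Subgroup L :=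
    { carrier := {b | b ∈ T.P ∧ (v : L) * b * (v : L)⁻¹ = b ^ k}
      one_mem' := ⟨T.P.one_mem, by simp⟩
      mul_mem' := fun {b c} hb hc => ⟨T.P.mul_mem hb.1 hc.1, by
        rw [(show Commute b c from T.comm_P b hb.1 c hc.1).mul_zpow, ← hb.2, ← hc.2]; group⟩
      inv_mem' := fun {b} hb => ⟨T.P.inv_mem hb.1, by rw [inv_zpow, ← hb.2]; group⟩ }
  have hE : E = T.P := by
    refine h E (fun b hb => hb.1) (fun e => ha1 (by
      have h1 : a ∈ E := ⟨haP, hk.symm⟩
      rwa [e, mem_bot] at h1)) fun g hg b hb => ⟨T.normal_P.conj_mem b hb.1 g, ?_⟩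
    rw [conj_zpow, ← hb.2,
      show (v : L) * (g * b * g⁻¹) * (v : L)⁻¹ = ((v : L) * g) * b * ((v : L) * g)⁻¹ by group,
      T.comm_U v v.2 g hg]
    group
  obtain ⟨x, hx, hx1⟩ := T.exists_W₁_ne_one
  refine hvC (T.fpf_quot hx hx1 v.2 ⟨T.U.mul_mem (T.W₁_norm x hx v v.2) (T.U.inv_mem v.2),
    mem_centralizer_iff.mpr fun b hb => ?_⟩)
  have h1 : ∀ c ∈ T.P, (v : L) * c * (v : L)⁻¹ = c ^ k := fun c hc => (hE.ge hc).2
  have hb' : (v : L)⁻¹ * b * v ∈ T.P := by simpa using T.normal_P.conj_mem b hb (v : L)⁻¹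
  have hc : x⁻¹ * ((v : L)⁻¹ * b * v) * x ∈ T.P := by
    simpa [mul_assoc] using T.normal_P.conj_mem _ hb' x⁻¹
  have e1 : x * (v : L) * x⁻¹ * (v : L)⁻¹ * b * (x * (v : L) * x⁻¹ * (v : L)⁻¹)⁻¹ = b := by
    calc x * (v : L) * x⁻¹ * (v : L)⁻¹ * b * (x * (v : L) * x⁻¹ * (v : L)⁻¹)⁻¹
        = x * ((v : L) * (x⁻¹ * ((v : L)⁻¹ * b * v) * x) * (v : L)⁻¹) * x⁻¹ := by group
      _ = x * (x⁻¹ * ((v : L)⁻¹ * b * v) * x) ^ k * x⁻¹ := by rw [h1 _ hc]
      _ = ((v : L)⁻¹ * b * v) ^ k := by rw [← conj_zpow]; congr 1; group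
      _ = b := by rw [← h1 _ hb']; group
  exact (mul_inv_eq_iff_eq_mul.mp e1).symm

/-- `u` is `1 + p + ⋯ + p ^ (q - 1)` or at most a third of it. -/
theorem u_cases :
    T.u * (T.p - 1) = T.p ^ T.q - 1 ∨ 3 * (T.u * (T.p - 1)) ≤ T.p ^ T.q - 1 := by
  classical
  by_cases h : T.Irred
  · obtain ⟨e, he⟩ := T.u_dvd_of_irred h
    have hNp : (∑ i ∈ Finset.range T.q, T.p ^ i) * (T.p - 1) = T.p ^ T.q - 1 :=
      geom_sum_mul_of_one_le T.prime_p.pos _
    rw [he] at hNp
    have hodd : Odd (∑ i ∈ Finset.range T.q, T.p ^ i) := by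
      rw [← ZMod.natCast_eq_one_iff_odd, Nat.cast_sum]
      have hp : (T.p : ZMod 2) = 1 := ZMod.natCast_eq_one_iff_odd.mpr
        (T.prime_p.odd_of_ne_two (by have := T.two_lt_p; omega))
      simp only [Nat.cast_pow, hp, one_pow, Finset.sum_const, Finset.card_range, nsmul_one]
      exact ZMod.natCast_eq_one_iff_odd.mpr (T.prime_q.odd_of_ne_two (by have := T.two_lt_q; omega))
    rw [he] at hodd
    rcases e with _ | _ | _ | e
    · simp at hodd
    · exact Or.inl (by rw [← hNp]; ring)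
    · exact absurd (Nat.odd_mul.mp hodd).2 (by decide)
    · refine Or.inr ?_
      rw [← hNp, mul_right_comm T.u, mul_comm 3]
      exact Nat.mul_le_mul_left _ (by omega)
  · exact Or.inr (T.u_bound_of_not_irred h)

end CfsgLib.FT.PF13.LocalS
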