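import Cfsg.Agent.Lib.FT.Route.SideMass
import Cfsg.Agent.Lib.FT.Route.Divisor

/-!
# Step B: for two sides, `C_U(P) = 1` and `u = (p ^ q - 1) / (p - 1)` on both sides
-/

set_option autoImplicit false
set_option linter.style.haveILetI false
set_option linter.unusedSectionVars false

namespace CfsgLib.FT.Route

open _root_.Subgroup Cfsg CfsgLib.FT.PF13

universe u

/-- One side: `p (2 u + 1) ^ 2 ≤ 4 u m (k p / (p - 1) + 13 / 12 * e)`. -/
theorem side_arith {p u m P k e r : ℝ} (hp : 3 ≤ p) (hu : 3 ≤ u) (hk : 0 ≤ k) (hr : p / (p - 1) ≤ r)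
    (hP : 0 < P) (hPm : P ≤ m) (huk : u * (p - 1) ≤ k * m) (he : p ≤ e * P) :
    p * (2 * u + 1) ^ 2 ≤ 4 * u * m * (k * r + 13 / 12 * e) := by
  have h1 : (2 * u + 1) ^ 2 ≤ 4 * u * (u + 13 / 12) := by nlinarith
  have hr' : p ≤ r * (p - 1) := (div_le_iff₀ (by linarith)).mp hr
  have hr0 : 0 ≤ r := le_trans (div_nonneg (by linarith) (by linarith)) hr
  have he0 : 0 ≤ e := by
    by_contra h
    nlinarith
  have hm : 0 < m := lt_of_lt_of_le hP hPm
  have h2 : p * u ≤ k * r * m := by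
    have h := mul_le_mul_of_nonneg_right hr' (show (0 : ℝ) ≤ u by linarith)
    have h' := mul_le_mul_of_nonneg_left huk hr0
    linarith
  have h3 : p ≤ e * m := he.trans (mul_le_mul_of_nonneg_left hPm he0)
  have h4 := mul_le_mul_of_nonneg_left h1 (show (0 : ℝ) ≤ p by linarith)
  have h5 := mul_le_mul_of_nonneg_left (add_le_add h2 (mul_le_mul_of_nonneg_left h3
    (show (0 : ℝ) ≤ 13 / 12 by norm_num))) (show (0 : ℝ) ≤ 4 * u by linarith)
  linarith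

variable {G : Type u} [Group G] [Finite G] {S T W₁ W₂ : Subgroup G}

theorem step_B_side (D : Side S W₁ W₂) (E : Side T W₂ W₁) :
    D.loc.C = ⊥ ∧ D.loc.u * (D.loc.p - 1) = D.loc.p ^ D.loc.q - 1 := by
  classical
  haveI := Fintype.ofFinite G
  by_contra hcon
  have hEp : E.loc.p = D.loc.q := by rw [← E.card_W₂, D.card_W₁]
  have hEq : E.loc.q = D.loc.p := by rw [← E.card_W₁, D.card_W₂]
  have hu3 : ∀ {X : Type u} [Group X] [Finite X] (L : LocalS X), 3 ≤ L.u := fun L => by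
    obtain ⟨j, hj⟩ := L.u_odd
    have := L.one_lt_u
    omega
  have hDu := D.loc.u_mul_le
  have hEu := E.loc.u_mul_le
  have hDm : Nat.card D.loc.H = D.loc.p ^ D.loc.q * Nat.card D.loc.C := D.loc.card_H
  have hEm : Nat.card E.loc.H = E.loc.p ^ E.loc.q * Nat.card E.loc.C := E.loc.card_H
  -- the bound `1 / 3`
  have h3 : 3 * (D.loc.u * (D.loc.p - 1)) ≤ Nat.card D.loc.H := by
    rw [hDm]
    by_cases hC : D.loc.C = ⊥
    · rcases D.loc.u_cases with h | h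
      · exact absurd ⟨hC, h⟩ hcon
      · have : 1 ≤ Nat.card D.loc.C := Nat.card_pos
        calc 3 * (D.loc.u * (D.loc.p - 1)) ≤ D.loc.p ^ D.loc.q - 1 := h
          _ ≤ D.loc.p ^ D.loc.q * 1 := by omega
          _ ≤ _ := Nat.mul_le_mul_left _ this
    · have hc1 : Nat.card D.loc.C ≠ 1 := fun h => hC (Subgroup.eq_bot_of_card_eq _ h)
      obtain ⟨j, hj⟩ := D.loc.odd.of_dvd_nat (Subgroup.card_subgroup_dvd_card D.loc.C)
      calc 3 * (D.loc.u * (D.loc.p - 1)) ≤ 3 * (D.loc.p ^ D.loc.q) := by omega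
        _ = D.loc.p ^ D.loc.q * 3 := mul_comm _ _
        _ ≤ _ := Nat.mul_le_mul_left _ (by omega)
  have hE1 : E.loc.u * (E.loc.p - 1) ≤ Nat.card E.loc.H := by
    rw [hEm]
    have : 1 ≤ Nat.card E.loc.C := Nat.card_pos
    calc E.loc.u * (E.loc.p - 1) ≤ E.loc.p ^ E.loc.q * 1 := by omega
      _ ≤ _ := Nat.mul_le_mul_left _ this
  have hPmD : D.loc.p ^ D.loc.q ≤ Nat.card D.loc.H := by
    rw [hDm]
    exact Nat.le_mul_of_pos_right _ Nat.card_pos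
  have hPmE : E.loc.p ^ E.loc.q ≤ Nat.card E.loc.H := by
    rw [hEm]
    exact Nat.le_mul_of_pos_right _ Nat.card_pos
  have hpair := pair_bound D E
  have hp3 : 3 ≤ D.loc.p := D.loc.two_lt_p
  have hq3 : 3 ≤ D.loc.q := D.loc.two_lt_q
  rw [hEp, hEq] at hPmE
  rw [hEp] at hE1
  have hpr : (3 : ℝ) ≤ D.loc.p := by exact_mod_cast hp3
  have hqr : (3 : ℝ) ≤ D.loc.q := by exact_mod_cast hq3
  have hur : (3 : ℝ) ≤ D.loc.u := by exact_mod_cast hu3 D.loc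
  have hvr : (3 : ℝ) ≤ E.loc.u := by exact_mod_cast hu3 E.loc
  have h3r : (D.loc.u : ℝ) * ((D.loc.p : ℝ) - 1) ≤ 1 / 3 * (Nat.card D.loc.H : ℝ) := by
    have h : ((3 * (D.loc.u * (D.loc.p - 1)) : ℕ) : ℝ) ≤ (Nat.card D.loc.H : ℝ) := by exact_mod_cast h3
    rw [Nat.cast_mul, Nat.cast_mul, Nat.cast_sub (by omega)] at h
    push_cast at h
    linarith
  have hEr : (E.loc.u : ℝ) * ((D.loc.q : ℝ) - 1) ≤ 1 * (Nat.card E.loc.H : ℝ) := by
    have h : ((E.loc.u * (D.loc.q - 1) : ℕ) : ℝ) ≤ (Nat.card E.loc.H : ℝ) := by exact_mod_cast hE1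
    rw [Nat.cast_mul, Nat.cast_sub (by omega)] at h
    push_cast at h
    linarith
  have hPD : ((D.loc.p : ℝ) ^ D.loc.q) ≤ (Nat.card D.loc.H : ℝ) := by exact_mod_cast hPmD
  have hPE : ((D.loc.q : ℝ) ^ D.loc.p) ≤ (Nat.card E.loc.H : ℝ) := by exact_mod_cast hPmE
  have hDH : (0 : ℝ) < Nat.card D.loc.H := by exact_mod_cast Nat.card_pos
  have hEH : (0 : ℝ) < Nat.card E.loc.H := by exact_mod_cast Nat.card_pos
  have key : ∀ {r r' e e' : ℝ}, (D.loc.p : ℝ) / ((D.loc.p : ℝ) - 1) ≤ r →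
      (D.loc.q : ℝ) / ((D.loc.q : ℝ) - 1) ≤ r' → (D.loc.p : ℝ) ≤ e * (D.loc.p : ℝ) ^ D.loc.q →
      (D.loc.q : ℝ) ≤ e' * (D.loc.q : ℝ) ^ D.loc.p →
      1 / 3 * r + 13 / 12 * e + (1 * r' + 13 / 12 * e') < 2 → False := by
    intro r r' e e' hr hr' he he' hsum
    have hA := side_arith hpr hur (by norm_num) hr (by positivity) hPD h3r he
    have hB := side_arith hqr hvr (by norm_num) hr' (by positivity) hPE hEr he'
    have hA' := mul_le_mul_of_nonneg_right hA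
      (show (0 : ℝ) ≤ (E.loc.u : ℝ) * Nat.card E.loc.H by positivity)
    have hB' := mul_le_mul_of_nonneg_right hB
      (show (0 : ℝ) ≤ (D.loc.u : ℝ) * Nat.card D.loc.H by positivity)
    have hlt := mul_lt_mul_of_pos_left hsum
      (show (0 : ℝ) < 4 * ((D.loc.u : ℝ) * Nat.card D.loc.H) * ((E.loc.u : ℝ) * Nat.card E.loc.H) by
        positivity)
    linarith
  have hdiv3 : ∀ x : ℝ, 3 ≤ x → x / (x - 1) ≤ 3 / 2 := fun x hx => by
    rw [div_le_iff₀ (by linarith)]; linarith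
  have hdiv5 : ∀ x : ℝ, 5 ≤ x → x / (x - 1) ≤ 5 / 4 := fun x hx => by
    rw [div_le_iff₀ (by linarith)]; linarith
  have hpow : ∀ (a b B : ℕ), B * a ≤ a ^ b → 0 < B → (a : ℝ) ≤ (B : ℝ)⁻¹ * (a : ℝ) ^ b := by
    intro a b B h hB
    rw [inv_mul_eq_div, le_div_iff₀ (by exact_mod_cast hB)]
    have h' : ((B * a : ℕ) : ℝ) ≤ ((a ^ b : ℕ) : ℝ) := by exact_mod_cast h
    push_cast at h'
    linarith
  have hbig : ∀ (a b : ℕ) (a₀ b₀ : ℕ), a₀ ≤ a → b₀ ≤ b → 1 ≤ a₀ → 1 ≤ b₀ →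
      a₀ ^ (b₀ - 1) * a ≤ a ^ b := by
    intro a b a₀ b₀ ha hb ha1 hb1
    calc a₀ ^ (b₀ - 1) * a ≤ a ^ (b₀ - 1) * a := Nat.mul_le_mul_right _ (Nat.pow_le_pow_left ha _)
      _ = a ^ (b₀ - 1 + 1) := (pow_succ _ _).symm
      _ ≤ a ^ b := Nat.pow_le_pow_right (by omega) (by omega)
  rcases le_or_gt 5 D.loc.p with hp5 | hp5
  · refine key (hdiv5 _ (by exact_mod_cast hp5)) (hdiv3 _ hqr)
      (hpow _ _ _ (hbig _ _ 5 3 hp5 hq3 (by norm_num) (by norm_num)) (by norm_num))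
      (hpow _ _ _ (hbig _ _ 3 5 hq3 hp5 (by norm_num) (by norm_num)) (by norm_num)) (by norm_num)
  · have hp : D.loc.p = 3 := by
      rcases eq_or_ne D.loc.p 4 with h | h
      · exact absurd (h ▸ D.loc.prime_p) (by norm_num)
      · omega
    have hq5 : 5 ≤ D.loc.q := by
      rcases eq_or_ne D.loc.q 4 with h | h
      · exact absurd (h ▸ D.loc.prime_q) (by norm_num)
      · have := D.loc.ne
        omega
    refine key (hdiv3 _ hpr) (hdiv5 _ (by exact_mod_cast hq5))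
      (hpow _ _ _ (hbig _ _ 3 5 hp3 hq5 (by norm_num) (by norm_num)) (by norm_num))
      (hpow _ _ _ (hbig _ _ 5 3 hq5 hp3 (by norm_num) (by norm_num)) (by norm_num)) (by norm_num)

/-- Step B for both sides. -/
theorem step_B (D : Side S W₁ W₂) (E : Side T W₂ W₁) :
    (D.loc.C = ⊥ ∧ D.loc.u * (D.loc.p - 1) = D.loc.p ^ D.loc.q - 1) ∧
      (E.loc.C = ⊥ ∧ E.loc.u * (E.loc.p - 1) = E.loc.p ^ E.loc.q - 1) :=
  ⟨step_B_side D E, step_B_side E D⟩

end CfsgLib.FT.Route
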