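import Cfsg.Agent.Lib.FT.Route.FactsII
import Cfsg.Agent.Lib.FT.Route.StepB

/-!
# A pair of maximal subgroups of Type II: both sides, and Step B for them
-/

set_option autoImplicit false
set_option linter.style.haveILetI false
set_option linter.unusedSectionVars false

namespace CfsgLib.FT.Route

open _root_.Subgroup Cfsg CfsgLib.FT.PF13

universe u

variable {G : Type u} [Group G] [Finite G] {S T W₁ W₂ U V : Subgroup G}

theorem prime_card_W₁ (hP : IsTypePWith S W₁ U W₂) (hII : IsOfTypeII S) :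
    (Nat.card W₁).Prime := by
  obtain ⟨W₁', U', W₂', hP', -, h3, -⟩ := hII
  exact (card_compl_eq hP hP').1 ▸ h3

theorem facts_pair_typeII (hG : IsMinSimpleOddOrder G) (hS : IsCoatom S) (hT : IsCoatom T)
    (hSP : IsTypePWith S W₁ U W₂) (hTP : IsTypePWith T W₂ V W₁) (hSII : IsOfTypeII S)
    (hTII : IsOfTypeII T) : Facts S W₁ U W₂ ∧ Facts T W₂ V W₁ :=
  ⟨facts_of_typeII hG hS hSP hSII (prime_card_W₁ hTP hTII),
    facts_of_typeII hG hT hTP hTII (prime_card_W₁ hSP hSII)⟩

variable (F : Facts S W₁ U W₂) (F' : Facts T W₂ V W₁)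

include F' in
theorem loc_C_eq_bot : F.loc.C = ⊥ := (step_B_side F.side F'.side).1

include F' in
theorem loc_u_eq : F.loc.u * (Nat.card W₂ - 1) = Nat.card W₂ ^ Nat.card W₁ - 1 :=
  (step_B_side F.side F'.side).2

include F F' in
theorem centralizer_U_H_eq_bot : U ⊓ centralizer (fittingHallOf S : Set G) = ⊥ := by
  refine (Subgroup.eq_bot_iff_forall _).mpr fun z hz => ?_
  have h : (⟨z, U_le F.hP hz.1⟩ : S) ∈ F.loc.C := F.mem_loc_C.mpr hz
  rw [loc_C_eq_bot F F', mem_bot] at h
  exact congrArg Subtype.val h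

include F F' in
theorem card_U_eq : Nat.card U * (Nat.card W₂ - 1) = Nat.card W₂ ^ Nat.card W₁ - 1 := by
  have h : F.loc.u * Nat.card F.loc.C = Nat.card F.loc.U := F.loc.u_mul_card_C
  rw [loc_C_eq_bot F F', Subgroup.card_bot, mul_one] at h
  rw [← Nat.card_congr (Subgroup.subgroupOfEquivOfLe (U_le F.hP)).toEquiv,
    show Nat.card (U.subgroupOf S) = F.loc.u from h.symm]
  exact loc_u_eq F F'

include F' in
theorem loc_irred : F.loc.Irred := by
  by_contra h
  have h3 := F.loc.u_bound_of_not_irred h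
  have e : F.loc.u * (F.loc.p - 1) = F.loc.p ^ F.loc.q - 1 := loc_u_eq F F'
  have hp := F.loc.two_lt_p
  have hpos : 0 < F.loc.u * (F.loc.p - 1) :=
    Nat.mul_pos (by have := F.loc.one_lt_u; omega) (by omega)
  omega

include F F' in
theorem normalizer_W₁_eq :
    normalizer (W₁ : Set G) = centralizer (W₁ : Set G) ∧
      centralizer (W₁ : Set G) = fittingHallOf T ⊔ W₂ :=
  normalizer_W₁ F F' (centralizer_U_H_eq_bot F' F)

end CfsgLib.FT.Route
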