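import Cfsg.Agent.Lib.FT.Route.BridgeS
import Cfsg.Agent.Lib.FT.PF14.StepBC

/-!
# Step C: a conjugate of `W₂` under `T_F` normalizes `U`
-/

set_option autoImplicit false
set_option linter.style.haveILetI false
set_option linter.unusedSectionVars false

namespace CfsgLib.FT.Route

open _root_.Subgroup Cfsg CfsgLib.OddOrder CfsgLib.FT.BG15 CfsgLib.FT.PF13 CfsgLib.Techniques
  CfsgLib.Chars

universe u

/-- The congruence fixing the order of the kernel. -/
theorem eq_of_cong {h u n : ℕ} (hdvd : u ∣ h) (hh : h % n = 1) (hu : u % n = 1) (hn : Odd n)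
    (hodd : Odd h) (hlt : h < (2 * n + 1) * u) : h = u := by
  obtain ⟨k, rfl⟩ := hdvd
  have hk : k % n = 1 := by
    have h1 := Nat.mul_mod u k n
    rw [hh, hu, one_mul, Nat.mod_mod] at h1
    exact h1.symm
  have hk2 : k % 2 = 1 := Nat.odd_iff.mp (Nat.Odd.of_mul_right hodd)
  have hkl : k < 2 * n + 1 := Nat.lt_of_mul_lt_mul_left (a := u) (by rwa [mul_comm u (2 * n + 1)])
  obtain ⟨i, hi⟩ : ∃ i, k = n * i + 1 := ⟨k / n, by have := Nat.div_add_mod k n; omega⟩
  have hi2 : i < 2 := by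
    by_contra hc
    have : n * 2 ≤ n * i := Nat.mul_le_mul_left _ (not_lt.mp hc)
    omega
  rcases (show i = 0 ∨ i = 1 by omega) with rfl | rfl
  · rw [hi, mul_zero, zero_add, mul_one]
  · exfalso
    obtain ⟨j, rfl⟩ := hn
    omega

theorem pow_three_bound {p : ℕ} (hp : 7 ≤ p) : p * p + 1 < 3 ^ (p - 3) := by
  induction p, hp using Nat.le_induction with
  | base => decide
  | succ m hm ih =>
    rw [show m + 1 - 3 = (m - 3) + 1 by omega, pow_succ]
    nlinarith

/-- The only small case of the second bound. -/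
theorem small_case {p q v h u : ℕ} (hp : p.Prime) (hq : q.Prime) (hp2 : 2 < p) (hq2 : 2 < q)
    (hqp : q < p) (hv : v * (q - 1) + 1 = q ^ p) (hu : u * (p - 1) + 1 = p ^ q)
    (hvb : v ≤ p * p * (q * q) + 1) (hh : h ≤ q * (v - 1) + 1) : h < (2 * (p * q) + 1) * u := by
  have h1 : q ^ p ≤ q * (p * p * (q * q) + 1) := by
    rw [← hv]
    calc v * (q - 1) + 1 ≤ (p * p * (q * q) + 1) * (q - 1) + 1 := by gcongr
      _ ≤ (p * p * (q * q) + 1) * (q - 1) + (p * p * (q * q) + 1) := by omega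
      _ = (p * p * (q * q) + 1) * ((q - 1) + 1) := by ring
      _ = q * (p * p * (q * q) + 1) := by rw [Nat.sub_add_cancel (by omega), mul_comm]
  have hp5 : p = 5 := by
    by_contra hne
    have hp7 : 7 ≤ p := by
      rcases (show p = 4 ∨ p = 6 ∨ 7 ≤ p by omega) with rfl | rfl | h
      · exact absurd hp (by norm_num)
      · exact absurd hp (by norm_num)
      · exact h
    have h2 : q ^ p = q ^ (p - 3) * (q * q * q) := by
      rw [show q * q * q = q ^ 3 by ring, ← pow_add, Nat.sub_add_cancel (by omega)]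
    have h3 : 3 ^ (p - 3) ≤ q ^ (p - 3) := Nat.pow_le_pow_left (by omega) _
    have h4 := pow_three_bound hp7
    have h5 : (p * p + 2) * (q * q * q) ≤ q ^ p := by
      rw [h2]
      exact Nat.mul_le_mul_right _ (by omega)
    have h6 : q ≤ q * q * q := by
      have : 1 ≤ q * q := Nat.mul_pos (by omega) (by omega)
      exact Nat.le_mul_of_pos_left _ (by omega)
    nlinarith
  subst hp5
  have hq3 : q = 3 := by
    rcases (show q = 3 ∨ q = 4 by omega) with h | h
    · exact h
    · exact absurd (h ▸ hq) (by norm_num)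
  subst hq3
  norm_num at hv hu hh ⊢
  omega

variable {G : Type u} [Group G]

theorem le_normalizer_of_cyclic [Finite G] {K U L : Subgroup G} (hK : IsCyclic K) (hU : U ≤ K)
    (hL : L ≤ normalizer (K : Set G)) : L ≤ normalizer (U : Set G) := by
  obtain ⟨k, hk⟩ := hK.exists_zpow_surjective
  refine le_normalizer_iff_cj.mpr fun g hg => ?_
  refine Subgroup.eq_of_le_of_card_ge (cj_le_iff.mpr fun x hx => ?_) (card_cj g U).ge
  obtain ⟨j, hj⟩ := hk ⟨x, hU hx⟩
  obtain ⟨m, hm⟩ := hk ⟨g * (k : G) * g⁻¹, (mem_normalizer_iff.mp (hL hg) _).mp k.2⟩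
  have hx' : (k : G) ^ j = x := congrArg Subtype.val hj
  have hm' : (k : G) ^ m = g * (k : G) * g⁻¹ := congrArg Subtype.val hm
  rw [← hx', ← conj_zpow, ← hm', zpow_comm, hx']
  exact U.zpow_mem hx m

variable [Fintype G] {S T W₁ W₂ U V : Subgroup G}

/-- The numbers attached to a side. -/
theorem side_facts (F : Facts S W₁ U W₂) (F' : Facts T W₂ V W₁) :
    F.side.loc.C = ⊥ ∧ F.side.loc.u = Nat.card U ∧
      F.side.loc.u * (F.side.loc.p - 1) + 1 = Nat.card F.side.loc.H ∧
      Nat.card U * (Nat.card W₂ - 1) + 1 = Nat.card W₂ ^ Nat.card W₁ ∧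
      Nat.card U % (Nat.card W₂ * Nat.card W₁) = 1 ∧
      Nat.card W₂ * Nat.card W₂ + Nat.card W₂ + 1 ≤ Nat.card U := by
  have hC : F.loc.C = ⊥ := loc_C_eq_bot F F'
  have hp2 : 2 < Nat.card W₂ := F.loc.two_lt_p
  have hq2 : 2 < Nat.card W₁ := F.loc.two_lt_q
  have hcard := card_U_eq F F'
  have hu : F.loc.u = Nat.card U :=
    Nat.eq_of_mul_eq_mul_right (show 0 < Nat.card W₂ - 1 by omega)
      ((loc_u_eq F F').trans hcard.symm)
  have hpos : 1 ≤ Nat.card W₂ ^ Nat.card W₁ := Nat.one_le_pow _ _ (by omega)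
  have hU1 : Nat.card U * (Nat.card W₂ - 1) + 1 = Nat.card W₂ ^ Nat.card W₁ := by omega
  have hp_mod : Nat.card U % Nat.card W₂ = 1 := by
    have h1 : Nat.card U * Nat.card W₂ + 1 = Nat.card W₂ ^ Nat.card W₁ + Nat.card U := by
      rw [← hU1, show Nat.card U * Nat.card W₂ = Nat.card U * (Nat.card W₂ - 1) + Nat.card U by
        conv_lhs => rw [show Nat.card W₂ = Nat.card W₂ - 1 + 1 by omega, mul_add, mul_one]]
      omega
    obtain ⟨d, hd⟩ : Nat.card W₂ ∣ Nat.card W₂ ^ Nat.card W₁ :=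
      dvd_pow_self _ F.prime_q.ne_zero
    have h2 := congrArg (· % Nat.card W₂) h1
    simp only [hd, Nat.mul_add_mod_self_left, mul_comm (Nat.card U) (Nat.card W₂)] at h2
    rw [← h2, Nat.one_mod_eq_one.mpr (by omega)]
  have hq_mod : Nat.card U % Nat.card W₁ = 1 := hu ▸ F.loc.u_mod
  refine ⟨hC, hu, ?_, hU1, ?_, ?_⟩
  · show F.loc.u * (F.loc.p - 1) + 1 = Nat.card F.loc.H
    rw [hu, F.loc.card_H, hC, Subgroup.card_bot, mul_one]
    exact hU1
  · have h1 := (Nat.modEq_and_modEq_iff_modEq_mul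
      ((Nat.coprime_primes F.prime_p F.prime_q).mpr F.ne) (a := Nat.card U) (b := 1)).mp
      ⟨by rw [Nat.ModEq, hp_mod, Nat.one_mod_eq_one.mpr (by omega)],
        by rw [Nat.ModEq, hq_mod, Nat.one_mod_eq_one.mpr (by omega)]⟩
    rwa [Nat.ModEq, Nat.one_mod_eq_one.mpr (by nlinarith)] at h1
  · refine Nat.le_of_mul_le_mul_right ?_ (show 0 < Nat.card W₂ - 1 by omega)
    have h1 : Nat.card W₂ ^ 3 ≤ Nat.card W₂ ^ Nat.card W₁ := Nat.pow_le_pow_right (by omega) hq2
    obtain ⟨p', hp'⟩ : ∃ p', Nat.card W₂ = p' + 1 := ⟨Nat.card W₂ - 1, by omega⟩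
    rw [hp'] at h1 hU1 ⊢
    simp only [Nat.add_sub_cancel] at hU1 ⊢
    nlinarith

theorem FrobMax.index_eq {L E : Subgroup G} (hE : IsComplIn (fittingHallOf L) E L) :
    (fittingHall L).index = Nat.card E := by
  refine Nat.eq_of_mul_eq_mul_left (Nat.card_pos (α := fittingHall L)) ?_
  rw [(fittingHall L).card_mul_index, card_fittingHall, card_mul_card_of_isComplIn hE]

theorem FrobMax.kernel_mod {L E : Subgroup G} (hL : FrobMax L)
    (hE : IsComplIn (fittingHallOf L) E L) (he : 1 < Nat.card E) :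
    Nat.card (fittingHallOf L) % Nat.card E = 1 := by
  have h := (hL.fpf hE).card_dvd
  have hpos := Nat.card_pos (α := fittingHallOf L)
  obtain ⟨d, hd⟩ := h
  rw [show Nat.card (fittingHallOf L) = 1 + Nat.card E * d by omega, Nat.add_mul_mod_self_left,
    Nat.mod_eq_of_lt he]

theorem card_sup_compl (P : PairData S T W₁ W₂ U V) {E : Subgroup G} {y : G}
    (hE : E = W₁ ⊔ cj y W₂) (hy : y ∈ fittingHallOf T) :
    Nat.card E = Nat.card W₁ * Nat.card W₂ := by
  have hc : W₁ ≤ normalizer (cj y W₂ : Set G) := by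
    intro x hx
    refine centralizer_le_normalizer _ (mem_centralizer_iff.mpr fun z hz => ?_)
    have hyW : y ∈ centralizer (W₁ : Set G) := P.TF_le_centralizer hy
    have hzc : z ∈ centralizer (W₁ : Set G) := by
      have h1 : y⁻¹ * z * y ∈ centralizer (W₁ : Set G) := by
        rw [P.centralizer_W₁.2]
        exact mem_sup_right (mem_cj.mp hz)
      have := mul_mem (mul_mem hyW h1) (inv_mem hyW)
      simpa [mul_assoc] using this
    exact (mem_centralizer_iff.mp hzc x hx).symm
  rw [hE, CfsgLib.Coprime.card_sup_of_inf_eq_bot hc ?_, card_cj]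
  refine CfsgLib.Coprime.inf_eq_bot_of_coprime ?_
  rw [card_cj]
  exact (Nat.coprime_primes P.facts.prime_q P.facts.prime_p).mpr P.facts.ne.symm

/-- Step C for a pair. -/
theorem PairData.exists_conj_le_normalizer (P : PairData S T W₁ W₂ U V)
    (hlt : Nat.card W₁ < Nat.card W₂) :
    ∃ y ∈ fittingHallOf T, cj y W₂ ≤ normalizer (U : Set G) := by
  classical
  haveI : Fintype S := Fintype.ofFinite _
  haveI : Fintype T := Fintype.ofFinite _
  haveI : Fintype (W₁ →* ℂˣ) := Fintype.ofFinite _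
  haveI : Fintype (W₂ →* ℂˣ) := Fintype.ofFinite _
  haveI := Fact.mk P.facts.prime_q
  have hG := P.minimal
  obtain ⟨hCD, huD, hmD, hU1, hUmod, hUlow⟩ := side_facts P.facts P.facts'
  obtain ⟨hCE, huE, hmE, hV1, hVmod, hVlow⟩ := side_facts P.facts' P.facts
  set D := P.facts.side with hDdef
  set E' := P.facts'.side with hE'def
  have hDp : D.loc.p = Nat.card W₂ := rfl
  have hDq : D.loc.q = Nat.card W₁ := rfl
  have hp2 : 2 < Nat.card W₂ := hDp ▸ D.loc.two_lt_p
  have hq2 : 2 < Nat.card W₁ := hDq ▸ D.loc.two_lt_q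
  -- the maximal subgroup over `N(U)`
  obtain ⟨L, hL, hNL, hUK⟩ := P.exists_over_U
  have hW₁L : W₁ ≤ L := le_trans P.facts.hP.U_normal hNL
  have hqh : ¬ Nat.card W₁ ∣ Nat.card (fittingHallOf L) :=
    (P.U_le_kernel hL.coatom hL.typeI (sup_le (Subgroup.le_normalizer.trans hNL) hW₁L)).2
  have hph : ¬ Nat.card W₂ ∣ Nat.card (fittingHallOf L) := P.not_dvd_kernel hL
  obtain ⟨E, hE, hWE⟩ := hL.exists_compl (IsPGroup.of_card (pow_one _).symm : IsPGroup (Nat.card W₁) W₁)
    hW₁L hqh
  have hEcases := P.compl_cases (hL.fpf hE) hL.ne_bot hWE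
  set h := Nat.card (fittingHallOf L) with hh
  have hUh : Nat.card U ∣ h := Subgroup.card_dvd_of_le hUK
  have hhpos : 0 < h := Nat.card_pos
  have hUle : Nat.card U ≤ h := Nat.le_of_dvd hhpos hUh
  have hodd : Odd h :=
    (minSimple_odd hG).of_dvd_nat (Subgroup.card_subgroup_dvd_card (fittingHallOf L))
  haveI : Fintype L := Fintype.ofFinite _
  obtain ⟨Ts, ν, ζ, F⟩ := exists_family hG hL
  have he : (fittingHall L).index = Nat.card E := FrobMax.index_eq hE
  have he2 : Nat.card E = Nat.card W₁ ∨ Nat.card E = Nat.card W₁ * Nat.card W₂ := by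
    rcases hEcases with h | ⟨y, hy, -, h⟩
    · exact Or.inl (by rw [h])
    · exact Or.inr (card_sup_compl P h hy)
  have hepq : (fittingHall L).index ≤ D.loc.p * D.loc.q := by
    rw [he, hDp, hDq]
    rcases he2 with h | h <;> rw [h]
    · exact Nat.le_mul_of_pos_left _ (by omega)
    · exact le_of_eq (mul_comm _ _)
  have hAD : Apart D L := ⟨hCD, hph, hqh⟩
  have hAE : Apart E' L := ⟨hCE, hqh, hph⟩
  obtain ⟨η, hη⟩ := exists_grid D.selfNorm
    ((minSimple_odd hG).of_dvd_nat (Subgroup.card_subgroup_dvd_card _))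
  have hη' := hη.swap D.selfNorm.2.2.2.1
  obtain ⟨a₀, ha₀⟩ : ∃ a : W₁ →* ℂˣ, a ≠ 1 :=
    Fintype.exists_ne_of_one_lt_card (by rw [D.card_hom_W₁]; exact D.loc.prime_q.one_lt) 1
  -- either the bound with `u` or the bound with `v`
  have hbound : Nat.card W₁ * (h - 1) ≤ Nat.card E * (Nat.card U - 1) ∨
      (Nat.card E = Nat.card W₁ * Nat.card W₂ ∧
        Nat.card W₂ * (h - 1) ≤ Nat.card E * (Nat.card V - 1)) := by
    by_cases hn : ∃ b : W₂ →* ℂˣ, b ≠ 1 ∧ classInner (η 1 b) (beta F) = 0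
    · obtain ⟨b, hb, hb0⟩ := hn
      have := F.side_bound D hAD hη hb hb0
      rw [he, huD] at this
      exact Or.inl this
    push Not at hn
    have hone : ∀ b : W₂ →* ℂˣ, b ≠ 1 → classInner (η 1 b) (beta F) = 1 := fun b hb =>
      (F.coef_col D hAD hη (by rw [huD]; nlinarith) hmD hepq (by nlinarith) hb).resolve_left (hn b hb)
    obtain ⟨b₀, hb₀⟩ : ∃ b : W₂ →* ℂˣ, b ≠ 1 :=
      Fintype.exists_ne_of_one_lt_card (by rw [D.card_hom_W₂]; exact D.loc.prime_p.one_lt) 1
    refine Or.inr ⟨?_, ?_⟩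
    · refine he2.resolve_left fun hEq => ?_
      have hc : ∀ b : W₂ →* ℂˣ, classInner (beta F) (η 1 b) = ((1 : ℤ) : ℂ) := by
        intro b
        rw [Int.cast_one]
        by_cases hb : b = 1
        · rw [hb, hη.map_one]
          exact F.setup.inner_beta_one
        · rw [← inner_conj, hone b hb, map_one]
      have hb := (bessel (Finset.univ : Finset (W₂ →* ℂˣ)) (fun b => η 1 b)
        (fun i _ j _ => by rw [hη.orth]; simp) (beta F) (fun _ => 1) (fun b _ => hc b)
        (n := ((fittingHall L).index : ℤ) + 1)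
        (by rw [show classInner (beta F) (beta F) = _ from F.setup.inner_beta_self]; push_cast; rfl)).1
      rw [Finset.sum_const, Finset.card_univ, D.card_hom_W₂, nsmul_eq_mul, hDp, he, hEq] at hb
      push_cast at hb
      obtain ⟨i, hi⟩ := P.facts.prime_p.odd_of_ne_two (by omega)
      obtain ⟨j, hj⟩ := P.facts.prime_q.odd_of_ne_two (by omega)
      omega
    · have hm : classInner (η a₀ 1) (beta F) = 0 := by
        refine (F.coef_col E' hAE hη' (by rw [huE]; nlinarith) hmE ?_ (by nlinarith)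
          ha₀).resolve_right fun h1 => ?_
        · show (fittingHall L).index ≤ Nat.card W₁ * Nat.card W₂
          rw [mul_comm]; exact hepq
        · exact F.coef_not_both D E' hAD hAE hη (by rw [huD]; nlinarith) (by rw [huE]; nlinarith) hmD
            hmE hepq (by nlinarith) ha₀ hb₀ h1 (hone b₀ hb₀)
      have := F.side_bound E' hAE hη' ha₀ hm
      rw [he, huE] at this
      exact this
  -- `e = p q`
  have hepq' : Nat.card E = Nat.card W₁ * Nat.card W₂ := by
    rcases hbound with hb | ⟨hb, -⟩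
    · refine he2.resolve_left fun hEq => ?_
      rw [hEq] at hb
      have h1 := Nat.le_of_mul_le_mul_left hb (by omega)
      have hKU : U = fittingHallOf L := Subgroup.eq_of_le_of_card_ge hUK (by omega)
      have hEW : E = W₁ := (Subgroup.eq_of_le_of_card_ge hWE hEq.le).symm
      have hLS : L ≤ S := by
        rw [← sup_eq_of_isComplIn hE, ← hKU, hEW]
        exact sup_le (U_le P.facts.hP) P.facts.W₁_le
      have e := (hL.coatom.le_iff.mp hLS).resolve_left P.facts.coatom.1
      exact not_typeI_of_typeII hG P.facts.coatom P.typeII (e ▸ hL.typeI)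
    · exact hb
  obtain ⟨y, hy, hyE, -⟩ := hEcases.resolve_left fun h => by
    rw [h] at hepq'
    have : Nat.card W₁ * 1 = Nat.card W₁ * Nat.card W₂ := by rw [mul_one, ← hepq']
    have := Nat.eq_of_mul_eq_mul_left (by omega) this
    omega
  refine ⟨y, hy, (hyE.trans hE.2.1).trans ?_⟩
  -- `L` normalizes `U`
  have hmod : h % (Nat.card W₂ * Nat.card W₁) = 1 := by
    have := hL.kernel_mod hE (by rw [hepq']; nlinarith)
    rwa [hepq', mul_comm] at this
  have hoddpq : Odd (Nat.card W₂ * Nat.card W₁) :=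
    (P.facts.prime_p.odd_of_ne_two (by omega)).mul (P.facts.prime_q.odd_of_ne_two (by omega))
  suffices hfin : h < (2 * (Nat.card W₂ * Nat.card W₁) + 1) * Nat.card U ∨
      IsCyclic (fittingHallOf L) by
    rcases hfin with hlt' | hcyc
    · have := eq_of_cong hUh hmod hUmod hoddpq hodd hlt'
      rw [Subgroup.eq_of_le_of_card_ge hUK (le_of_eq this)]
      exact le_normalizer_fittingHallOf L
    · exact le_normalizer_of_cyclic hcyc hUK (le_normalizer_fittingHallOf L)
  have hUpos : 0 < Nat.card U := Nat.card_pos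
  rcases hbound with hb | ⟨-, hb⟩
  · left
    rw [hepq', mul_assoc] at hb
    have := Nat.le_of_mul_le_mul_left hb (by omega)
    have h2 : (Nat.card W₂ + 1) * Nat.card U ≤ (2 * (Nat.card W₂ * Nat.card W₁) + 1) * Nat.card U :=
      Nat.mul_le_mul_right _ (by nlinarith)
    have h3 : Nat.card W₂ * (Nat.card U - 1) ≤ Nat.card W₂ * Nat.card U :=
      Nat.mul_le_mul_left _ (Nat.sub_le _ _)
    rw [add_mul, one_mul] at h2
    by_contra hc
    push Not at hc
    nlinarith [Nat.sub_add_cancel hhpos]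
  -- the maximal subgroup over `N(V)`
  rw [hepq', mul_comm (Nat.card W₁), mul_assoc] at hb
  have hb' : h - 1 ≤ Nat.card W₁ * (Nat.card V - 1) := Nat.le_of_mul_le_mul_left hb (by omega)
  obtain ⟨M, hM, hNM, hVK⟩ := P.symm.exists_over_U
  haveI := Fact.mk P.facts.prime_p
  have hW₂M : W₂ ≤ M := le_trans P.facts'.hP.U_normal hNM
  have hpM : ¬ Nat.card W₂ ∣ Nat.card (fittingHallOf M) :=
    (P.symm.U_le_kernel hM.coatom hM.typeI (sup_le (Subgroup.le_normalizer.trans hNM) hW₂M)).2
  obtain ⟨E₂, hE₂, hWE₂⟩ := hM.exists_compl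
    (IsPGroup.of_card (pow_one _).symm : IsPGroup (Nat.card W₂) W₂) hW₂M hpM
  have heM : (fittingHall M).index ≤ Nat.card W₁ * Nat.card W₂ := by
    rw [FrobMax.index_eq hE₂]
    rcases P.symm.compl_cases (hM.fpf hE₂) hM.ne_bot hWE₂ with h | ⟨z, hz, -, h⟩
    · rw [h]; exact Nat.le_mul_of_pos_left _ (by omega)
    · rw [card_sup_compl P.symm h hz, mul_comm]
  by_cases hconj : ∃ x : G, cj x M = L
  · -- `K` is a conjugate of `V`
    obtain ⟨x, hx⟩ := hconj
    right
    have hVL : cj x V ≤ fittingHallOf L := by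
      rw [← hx, show fittingHallOf (cj x M) = cj x (fittingHallOf M) from map_fittingHallOf _ M]
      exact cj_mono hVK
    have hcardV : h = Nat.card V := by
      refine eq_of_cong (card_cj x V ▸ Subgroup.card_dvd_of_le hVL) hmod
        (by rw [mul_comm]; exact hVmod) hoddpq hodd ?_
      have hVpos : 0 < Nat.card V := Nat.card_pos
      calc h ≤ Nat.card W₁ * (Nat.card V - 1) + 1 := by omega
        _ ≤ Nat.card W₁ * Nat.card V + Nat.card V := by
            have := Nat.mul_le_mul_left (Nat.card W₁) (Nat.sub_le (Nat.card V) 1)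
            omega
        _ = (Nat.card W₁ + 1) * Nat.card V := by ring
        _ < _ := Nat.mul_lt_mul_of_pos_right (by nlinarith) hVpos
    rw [← Subgroup.eq_of_le_of_card_ge hVL (by rw [card_cj, ← hcardV])]
    haveI := (field_data P.facts' P.facts).1
    exact isCyclic_of_surjective (V.equivMapOfInjective _ (MulAut.conj x).injective).toMonoidHom
      (V.equivMapOfInjective _ (MulAut.conj x).injective).surjective
  -- the bridge
  push Not at hconj
  left
  haveI : Fintype M := Fintype.ofFinite _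
  obtain ⟨Ts', ν', ζ', F'⟩ := exists_family hG hM
  have hbr := F.bridge F' (disjoint_dadeSupp hL hM hG
    (fun x => P.frobMax (isCoatom_cj hM.coatom x) ((isOfTypeI_map _ M).mpr hM.typeI)) hconj)
  have hpp : (fittingHall L).index * (fittingHall M).index ≤
      Nat.card W₂ * Nat.card W₂ * (Nat.card W₁ * Nat.card W₁) :=
    calc _ ≤ (Nat.card W₂ * Nat.card W₁) * (Nat.card W₁ * Nat.card W₂) :=
          Nat.mul_le_mul (by rw [he, hepq', mul_comm]) heM
      _ = _ := by ring
  rcases hbr with hb1 | hb2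
  · have h1 : h ≤ Nat.card W₂ * Nat.card W₂ * (Nat.card W₁ * Nat.card W₁) + 1 := by
      have h0 : (h : ℤ) - 1 ≤ ((Nat.card W₂ * Nat.card W₂ * (Nat.card W₁ * Nat.card W₁) : ℕ) : ℤ) :=
        hb1.trans (by exact_mod_cast hpp)
      omega
    refine lt_of_le_of_lt h1 (lt_of_lt_of_le ?_ (Nat.mul_le_mul_left _ hUlow))
    nlinarith
  · have h1 : Nat.card V ≤ Nat.card W₂ * Nat.card W₂ * (Nat.card W₁ * Nat.card W₁) + 1 := by
      have h0 : (Nat.card (fittingHallOf M) : ℤ) - 1 ≤
          ((Nat.card W₂ * Nat.card W₂ * (Nat.card W₁ * Nat.card W₁) : ℕ) : ℤ) :=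
        hb2.trans (by exact_mod_cast hpp)
      have hVM : Nat.card V ≤ Nat.card (fittingHallOf M) :=
        Nat.le_of_dvd Nat.card_pos (Subgroup.card_dvd_of_le hVK)
      omega
    exact small_case P.facts.prime_p P.facts.prime_q hp2 hq2 hlt hV1 hU1 h1 (by omega)

end CfsgLib.FT.Route

namespace CfsgLib.FT.PF14

universe u

open Cfsg Subgroup

/-- Step C. -/
theorem stepC : StepC.{u} := by
  intro G _ _ hG S T W₁ W₂ U V hS hT hSP hTP _ hSII hTII hlt
  haveI := Fintype.ofFinite G
  obtain ⟨F, E⟩ := Route.facts_pair_typeII hG hS hT hSP hTP hSII hTII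
  exact Route.PairData.exists_conj_le_normalizer ⟨F, E, hSII, hTII⟩ hlt

/-- Steps B and C. -/
theorem stepBC : StepBC.{u} := stepBC_of_stepC stepC

end CfsgLib.FT.PF14
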