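import Cfsg.Agent.Lib.FT.Route.LGrid

/-!
# The bound from a side on which `⟨η 1 b, β⟩ = 0`

`γ = Ind_K 1 - ν 1 b` with `K = H W₁` gives, through coherence, `q (h - 1) ≤ e (u - 1)`.
-/

set_option autoImplicit false
set_option linter.style.haveILetI false
set_option linter.unusedSectionVars false

namespace CfsgLib.FT.PF13

open _root_.Subgroup Cfsg CfsgLib.Chars
open scoped ComplexConjugate

universe u

namespace LocalS

variable {L : Type u} [Group L] [Fintype L] (T : LocalS L)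

theorem indK_one_apply_H {h : L} (hh : h ∈ T.H) :
    indFun T.K (fun _ => (1 : ℂ)) h = (T.u : ℂ) := by
  classical
  rw [indFun_apply, Finset.sum_congr rfl fun g _ => extendByZero_of_mem _ _
      (mem_sup_left (by simpa using T.normal_H.conj_mem h hh g⁻¹) : g⁻¹ * h * g ∈ T.K),
    Finset.sum_const, Finset.card_univ, nsmul_eq_mul, mul_one, ← Nat.card_eq_fintype_card, T.card_K,
    T.card_L']
  have h1 : (Nat.card T.H : ℂ) ≠ 0 := Nat.cast_ne_zero.mpr Nat.card_pos.ne'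
  have h2 : (T.q : ℂ) ≠ 0 := Nat.cast_ne_zero.mpr T.prime_q.pos.ne'
  push_cast
  field_simp

theorem indK_one_apply_K {k : L} (hk : k ∈ T.K) (hkH : k ∉ T.H) :
    indFun T.K (fun _ => (1 : ℂ)) k = 1 := by
  classical
  have hterm : ∀ g : L, extendByZero T.K (fun _ => (1 : ℂ)) (g⁻¹ * k * g) =
      if g ∈ T.K then 1 else 0 := by
    intro g
    by_cases hg : g ∈ T.K
    · rw [if_pos hg, extendByZero_of_mem _ _ (T.K.mul_mem (T.K.mul_mem (T.K.inv_mem hg) hk) hg)]
    · rw [if_neg hg, extendByZero_of_not_mem]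
      intro hm
      exact hg (by simpa using T.K.inv_mem (T.mem_K_of_conj (g := g⁻¹) hk hkH (by simpa using hm)))
  rw [indFun_apply, Finset.sum_congr rfl fun g _ => hterm g, Finset.sum_boole,
    show (Finset.univ.filter fun g => g ∈ T.K).card = Nat.card T.K by
      rw [Nat.card_eq_fintype_card, Fintype.card_subtype],
    inv_mul_cancel₀ (Nat.cast_ne_zero.mpr Nat.card_pos.ne')]

theorem indK_one_apply_D {g : L} (hg : g ∈ T.P ⊔ T.U) (hgH : g ∉ T.H) :
    indFun T.K (fun _ => (1 : ℂ)) g = 0 := by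
  classical
  rw [indFun_apply, Finset.sum_eq_zero fun x _ => extendByZero_of_not_mem _ _ ?_, mul_zero]
  intro hm
  have hd : x⁻¹ * g * x ∈ T.P ⊔ T.U := by simpa using T.normal_D.conj_mem g hg x⁻¹
  have hH : x⁻¹ * g * x ∈ T.H := T.K_inf_D ▸ ⟨hm, hd⟩
  exact hgH (by simpa [mul_assoc] using T.normal_H.conj_mem _ hH x)

/-- `⟨f, Ind_K 1⟩` for a function on `K`. -/
theorem inner_K_indK_one [Fintype T.K] [Fintype T.H] (f : T.K → ℂ) :
    classInner f (fun k : T.K => indFun T.K (fun _ => (1 : ℂ)) (k : L)) =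
      classInner f (fun _ => 1) + ((T.u : ℂ) - 1) * (Nat.card T.K : ℂ)⁻¹ *
        ∑ h : T.H, f ⟨h, mem_sup_left h.2⟩ := by
  classical
  have hval : ∀ k : T.K, conj (indFun T.K (fun _ => (1 : ℂ)) (k : L)) =
      1 + if (k : L) ∈ T.H then ((T.u : ℂ) - 1) else 0 := by
    intro k
    by_cases hk : (k : L) ∈ T.H
    · rw [T.indK_one_apply_H hk, if_pos hk, Complex.conj_natCast]; ring
    · rw [T.indK_one_apply_K k.2 hk, if_neg hk, map_one, add_zero]
  rw [Chars.inner_def, Chars.inner_def, Finset.sum_congr rfl fun k _ => by rw [hval k]]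
  simp only [mul_add, Finset.sum_add_distrib, map_one]
  congr 1
  rw [Finset.sum_congr rfl fun (k : T.K) _ => mul_ite ((k : L) ∈ T.H) (f k) ((T.u : ℂ) - 1) 0]
  simp only [mul_zero, ← Finset.sum_filter, ← Finset.sum_mul]
  rw [show ∑ k ∈ Finset.univ.filter (fun k : T.K => (k : L) ∈ T.H), f k =
      ∑ h : T.H, f ⟨h, mem_sup_left h.2⟩ from ?_]
  · ring
  · refine (Finset.sum_bij (fun (h : T.H) _ => (⟨h, mem_sup_left h.2⟩ : T.K))
      (fun h _ => by simp) (fun a _ b _ e => Subtype.ext (congrArg (fun k : T.K => (k : L)) e :))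
      (fun k hk => ⟨⟨k, (Finset.mem_filter.mp hk).2⟩, Finset.mem_univ _, rfl⟩) fun h _ => rfl).symm

theorem inner_indK_one :
    classInner (indFun T.K fun _ => (1 : ℂ)) (indFun T.K fun _ => (1 : ℂ)) =
      1 + ((T.u : ℂ) - 1) / T.q := by
  classical
  haveI : Fintype T.K := Fintype.ofFinite _
  haveI : Fintype T.H := Fintype.ofFinite _
  rw [inner_indFun T.K _ (isClassFunction_indFun T.K _), T.inner_K_indK_one, inner_one_one,
    Finset.sum_const, Finset.card_univ, nsmul_eq_mul, mul_one, ← Nat.card_eq_fintype_card, T.card_K]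
  have h1 : (Nat.card T.H : ℂ) ≠ 0 := Nat.cast_ne_zero.mpr Nat.card_pos.ne'
  have h2 : (T.q : ℂ) ≠ 0 := Nat.cast_ne_zero.mpr T.prime_q.pos.ne'
  push_cast
  field_simp

theorem inner_nu_indK_one {θ : T.H →* ℂˣ} (hθ : T.Fixed θ) (a : T.W₁ →* ℂˣ) :
    classInner (T.nu a θ) (indFun T.K fun _ => (1 : ℂ)) = 0 := by
  classical
  haveI : Fintype T.K := Fintype.ofFinite _
  haveI : Fintype T.H := Fintype.ofFinite _
  have hone := T.inner_nu_one hθ a
  rw [nu, dif_pos hθ.1] at hone ⊢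
  rw [inner_indFun T.K _ (χ := fun _ : L => (1 : ℂ)) (fun _ _ => rfl)] at hone
  rw [inner_indFun T.K _ (isClassFunction_indFun T.K _), T.inner_K_indK_one, hone, zero_add]
  have h1 : ∀ h : T.H, (((T.exists_ext a hθ.1).choose ⟨h, mem_sup_left h.2⟩ : ℂˣ) : ℂ) = (θ h : ℂ) := by
    intro h
    have hm : (h : L) * 1 ∈ T.K := by rw [mul_one]; exact mem_sup_left h.2
    refine congrArg Units.val ?_
    rw [show (⟨(h : L), mem_sup_left h.2⟩ : T.K) = ⟨(h : L) * 1, hm⟩ from Subtype.ext (mul_one _).symm,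
      (T.exists_ext a hθ.1).choose_spec _ h.2 1 T.W₁.one_mem hm,
      show a ⟨1, T.W₁.one_mem⟩ = 1 from map_one a, mul_one]
  have hne : θ ≠ 1 := fun e => by
    obtain ⟨z, hzP, hz⟩ := hθ.2
    exact hz (by rw [e]; rfl)
  have h2 := inner_lin θ 1
  rw [if_neg hne, Chars.inner_def, mul_eq_zero] at h2
  have h3 := h2.resolve_left (inv_ne_zero (Nat.cast_ne_zero.mpr Nat.card_pos.ne'))
  simp only [MonoidHom.one_apply, Units.val_one, map_one, mul_one] at h3
  rw [Finset.sum_congr rfl fun h _ => h1 h, h3, mul_zero]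

end LocalS

end CfsgLib.FT.PF13

namespace CfsgLib.FT.Route

open _root_.Subgroup Cfsg CfsgLib.OddOrder CfsgLib.FT.PF13 CfsgLib.Chars CfsgLib.CharsMore
  CfsgLib.Techniques
open scoped ComplexConjugate

universe u

variable {G : Type u} [Group G] [Fintype G] {S W₁ W₂ : Subgroup G} (D : Side S W₁ W₂) [Fintype S]

theorem one_inv_hom {X : Type*} [MulOneClass X] : (1 : X →* ℂˣ)⁻¹ = 1 :=
  MonoidHom.ext fun _ => inv_one

theorem res₁_one : D.res₁ (1 : W₁ →* ℂˣ) = 1 := MonoidHom.ext fun _ => rfl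

theorem lam_inv (hC : D.loc.C = ⊥) {b : W₂ →* ℂˣ} : D.lam b⁻¹ = (D.lam b)⁻¹ := by
  set T := D.loc with hT
  haveI : Fintype T.W₁ := Fintype.ofFinite _
  obtain ⟨θ, hθ⟩ : ∃ θ : T.H →* ℂˣ, θ = D.lam b⁻¹ * D.lam b := ⟨_, rfl⟩
  suffices h : θ = 1 by
    refine MonoidHom.ext fun z => ?_
    have h2 := DFunLike.congr_fun (hθ.symm.trans h) z
    exact eq_inv_of_mul_eq_one_left h2
  have hfix : ∀ x ∈ T.W₁, T.conjH x θ = θ := by
    intro x hx
    rw [hθ]
    refine MonoidHom.ext fun z => ?_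
    show D.lam b⁻¹ _ * D.lam b _ = D.lam b⁻¹ z * D.lam b z
    have e1 := DFunLike.congr_fun (T.lamB_W₁ (D.res₂ b⁻¹) x hx) z
    have e2 := DFunLike.congr_fun (T.lamB_W₁ (D.res₂ b) x hx) z
    exact congrArg₂ (· * ·) e1 e2
  have hW : ∀ y, ∀ hy : y ∈ T.W₂, θ ⟨y, T.P_le_H (T.W₂_le hy)⟩ = 1 := by
    intro y hy
    rw [hθ, MonoidHom.mul_apply,
      show D.lam b⁻¹ ⟨y, T.P_le_H (T.W₂_le hy)⟩ = D.res₂ b⁻¹ ⟨y, hy⟩ from T.lamB_W₂ _ hy,
      show D.lam b ⟨y, T.P_le_H (T.W₂_le hy)⟩ = D.res₂ b ⟨y, hy⟩ from T.lamB_W₂ _ hy]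
    exact inv_mul_cancel _
  refine MonoidHom.ext fun z => ?_
  obtain ⟨w, hw, c, hc, e⟩ := T.mem_H_iff.mp z.2
  rw [show T.C = ⊥ from hC, mem_bot] at hc
  rw [hc, mul_one] at e
  rw [show z = (⟨w, T.P_le_H hw⟩ : T.H) from Subtype.ext e.symm]
  by_contra hne
  obtain ⟨v, hv, hv1⟩ : ∃ v, ∃ hv : v ∈ T.W₂, θ ⟨v, T.P_le_H (T.W₂_le hv)⟩ ≠ 1 := by
    by_contra hcon
    push Not at hcon
    exact hne (T.eq_one_on_P hfix hcon w hw)
  exact hv1 (hW v hv)

theorem inv_hom_ne {X : Type*} [MulOneClass X] {θ : X →* ℂˣ} (hθ : θ ≠ 1) : θ⁻¹ ≠ 1 := fun e =>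
  hθ (MonoidHom.ext fun x => inv_eq_one.mp (DFunLike.congr_fun e x))

theorem conj_hom {X : Type*} [Group X] [Finite X] (θ : X →* ℂˣ) (x : X) :
    conj (θ x : ℂ) = ((θ⁻¹ x : ℂˣ) : ℂ) := by
  rw [MonoidHom.inv_apply, ← map_inv]
  exact (char_inv (isCharacter_of_irr (isIrrCharacter_linear θ)) x).symm

theorem conj_zeta (θ : D.loc.H →* ℂˣ) (g : S) :
    conj (D.loc.zeta θ g) = D.loc.zeta θ⁻¹ g := by
  simp only [LocalS.zeta, indFun_apply, map_mul, map_inv₀, Complex.conj_natCast, map_sum]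
  congr 1
  refine Finset.sum_congr rfl fun y _ => ?_
  by_cases h : y⁻¹ * g * y ∈ D.loc.H
  · rw [extendByZero_of_mem _ _ h, extendByZero_of_mem _ _ h]
    exact conj_hom θ _
  · rw [extendByZero_of_not_mem _ _ h, extendByZero_of_not_mem _ _ h, map_zero]

theorem conj_nu (hC : D.loc.C = ⊥) {b : W₂ →* ℂˣ} (hb : b ≠ 1) :
    conjFun (D.nu 1 b) = D.nu 1 b⁻¹ := by
  have hb' : b⁻¹ ≠ 1 := inv_hom_ne hb
  funext g
  show conj (D.nu 1 b g) = D.nu 1 b⁻¹ g
  rw [Side.nu, Side.nu, res₁_one]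
  have hf := D.lam_fixed hb
  have hf' := D.lam_fixed hb'
  by_cases hgD : g ∈ D.loc.P ⊔ D.loc.U
  · by_cases hgH : g ∈ D.loc.H
    · rw [show g = ((⟨g, hgH⟩ : D.loc.H) : S) from rfl, D.loc.nu_apply_H hf, D.loc.nu_apply_H hf',
        map_mul, map_inv₀, Complex.conj_natCast, conj_zeta, lam_inv D hC]
    · rw [D.loc.nu_apply_D hf 1 hgD hgH, D.loc.nu_apply_D hf' 1 hgD hgH, map_zero]
  · obtain ⟨k, x, hx, hx1, y, hy, e⟩ := D.loc.conj_regular hgD
    rw [← isClassFunction_of_isCharacter (D.loc.isCharacter_nu hf 1) g k,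
      ← isClassFunction_of_isCharacter (D.loc.isCharacter_nu hf' 1) g k, e,
      D.loc.nu_regular hf 1 hx hx1 hy, D.loc.nu_regular hf' 1 hx hx1 hy, MonoidHom.one_apply,
      Units.val_one, one_mul, one_mul, lam_inv D hC]
    exact conj_hom _ _

/-- `γ = Ind_K 1 - ν 1 b`. -/
noncomputable def gammaB (b : W₂ →* ℂˣ) : S → ℂ :=
  indFun D.loc.K (fun _ => (1 : ℂ)) - D.nu 1 b

theorem gamma_gen {b : W₂ →* ℂˣ} (hb : b ≠ 1) : IsGeneralizedCharacter S (gammaB D b) :=
  isGeneralized_sub (mem_genChar.mp (genChar_of_isCharacter (isCharacter_indFun D.loc.K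
    isCharacter_one))) (D.gen_nu 1 hb)

theorem gamma_regular {b : W₂ →* ℂˣ} (hb : b ≠ 1) {x y : S} (hx : x ∈ D.loc.W₁) (hx1 : x ≠ 1)
    (hy : y ∈ D.loc.W₂) : gammaB D b (x * y) = 1 - (D.res₂ b ⟨y, hy⟩ : ℂ) := by
  have hk : x * y ∈ D.loc.K :=
    D.loc.K.mul_mem (mem_sup_right hx) (mem_sup_left (D.loc.P_le_H (D.loc.W₂_le hy)))
  show indFun D.loc.K (fun _ => (1 : ℂ)) (x * y) - D.nu 1 b (x * y) = _
  rw [D.loc.indK_one_apply_K hk (D.loc.reg_notMem_H hx hx1 hy), Side.nu,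
    D.loc.nu_regular (D.lam_fixed hb) _ hx hx1 hy, res₁_one, MonoidHom.one_apply, Units.val_one,
    one_mul, show D.lam b ⟨y, D.loc.P_le_H (D.loc.W₂_le hy)⟩ = D.res₂ b ⟨y, hy⟩ from
      D.loc.lamB_W₂ _ hy]

theorem gamma_vanish {b : W₂ →* ℂˣ} (hb : b ≠ 1) (s : S) (hs : (s : G) ∉ D.A) :
    gammaB D b s = 0 := by
  by_cases hsD : s ∈ D.loc.P ⊔ D.loc.U
  · by_cases hsH : s ∈ D.loc.H
    · have hs1 : s = 1 := by
        by_contra h
        exact hs ⟨s.2, Or.inl ⟨hsH, fun e => h (Subtype.ext e)⟩⟩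
      show indFun D.loc.K (fun _ => (1 : ℂ)) s - D.nu 1 b s = 0
      rw [hs1, D.loc.indK_one_apply_H D.loc.H.one_mem, Side.nu,
        show (1 : S) = ((1 : D.loc.H) : S) from rfl, D.loc.nu_apply_H (D.lam_fixed hb),
        OneMemClass.coe_one, D.loc.zeta_one, Nat.cast_mul]
      have : (D.loc.q : ℂ) ≠ 0 := Nat.cast_ne_zero.mpr D.loc.prime_q.pos.ne'
      field_simp
      ring
    · show indFun D.loc.K (fun _ => (1 : ℂ)) s - D.nu 1 b s = 0
      rw [D.loc.indK_one_apply_D hsD hsH, Side.nu, D.loc.nu_apply_D (D.lam_fixed hb) _ hsD hsH,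
        sub_zero]
  · obtain ⟨k, x, hx, hx1, y, hy, e⟩ := D.loc.conj_regular hsD
    rw [← isClassFunction_of_isGeneralized (gamma_gen D hb) s k, e, gamma_regular D hb hx hx1 hy]
    by_cases hy1 : y = 1
    · subst hy1
      rw [show (⟨1, hy⟩ : D.loc.W₂) = 1 from rfl, map_one, Units.val_one, sub_self]
    · exact absurd ⟨s.2, Or.inr ⟨k, x, hx, hx1, y, hy, hy1, e⟩⟩ hs

theorem gamma_inner_one {b : W₂ →* ℂˣ} (hb : b ≠ 1) :
    classInner (gammaB D b) (fun _ => 1) = 1 := by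
  haveI : Fintype D.loc.K := Fintype.ofFinite _
  rw [gammaB, Chars.inner_sub_left, Side.nu, D.loc.inner_nu_one (D.lam_fixed hb), sub_zero,
    inner_indFun D.loc.K _ (χ := fun _ : S => (1 : ℂ)) (fun _ _ => rfl), inner_one_one]

theorem gamma_norm {b : W₂ →* ℂˣ} (hb : b ≠ 1) :
    classInner (gammaB D b) (gammaB D b) = 2 + ((D.loc.u : ℂ) - 1) / D.loc.q := by
  classical
  rw [gammaB, Chars.inner_sub_left, Chars.inner_sub_right, Chars.inner_sub_right,
    D.loc.inner_indK_one, Side.nu, ← inner_conj (φ := D.loc.nu _ _), D.loc.inner_nu_indK_one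
      (D.lam_fixed hb), D.loc.inner_nu (D.lam_fixed hb) _ (D.lam_fixed hb), if_pos ⟨rfl, rfl⟩,
    map_zero]
  ring

/-- Off the conjugates of `A` an induced function supported on `A` vanishes. -/
theorem ind_eq_zero {ψ : S → ℂ} (hψ : ∀ s : S, (s : G) ∉ D.A → ψ s = 0) {g : G}
    (hg : ∀ x : G, x⁻¹ * g * x ∉ D.A) : indFun S ψ g = 0 := by
  rw [indFun_apply, Finset.sum_eq_zero fun x _ => ?_, mul_zero]
  by_cases hx : x⁻¹ * g * x ∈ S
  · rw [extendByZero_of_mem _ _ hx, hψ _ (hg x)]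
  · rw [extendByZero_of_not_mem _ _ hx]

theorem notMem_A_of_kerSet {L : Subgroup G} (hD : Apart D L) {g : G} (hg : g ∈ kerSet L) (x : G) :
    x⁻¹ * g * x ∉ D.A := by
  set h := Nat.card (fittingHallOf L)
  have hpow : (x⁻¹ * g * x) ^ h = 1 := by
    have e := conj_pow (i := h) (a := x⁻¹) (b := g)
    rw [inv_inv] at e
    rw [e, pow_eq_one_of_mem_kerSet hg, mul_one, inv_mul_cancel]
  rintro ⟨hS, ⟨hH, h1⟩ | ⟨k, x', hx', hx1', y, hy, -, e⟩⟩
  · refine h1 ?_
    have h2 : (x⁻¹ * g * x) ^ Nat.card D.loc.H = 1 := congrArg (fun z : D.loc.H => ((z : S) : G))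
      (pow_card_eq_one' (x := (⟨⟨_, hS⟩, hH⟩ : D.loc.H)))
    rw [D.loc.card_H, hD.C_bot, Subgroup.card_bot, mul_one] at h2
    exact orderOf_eq_one_iff.mp (Nat.eq_one_of_dvd_coprimes
      ((D.loc.prime_p.coprime_iff_not_dvd.mpr hD.not_p).pow_left D.loc.q)
      (orderOf_dvd_of_pow_eq_one h2) (orderOf_dvd_of_pow_eq_one hpow))
  · refine D.loc.reg_pow_ne hx' hx1' hy (D.loc.prime_q.coprime_iff_not_dvd.mpr hD.not_q) ?_
    rw [← e, conj_pow, show (⟨x⁻¹ * g * x, hS⟩ : S) ^ h = 1 from Subtype.ext hpow, mul_one,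
      mul_inv_cancel]

/-- `τ γ - 1 + η 1 b`. -/
noncomputable def remB (η : (W₁ →* ℂˣ) → (W₂ →* ℂˣ) → G → ℂ) (b : W₂ →* ℂˣ) : G → ℂ :=
  indFun S (gammaB D b) - (fun _ => 1) + η 1 b

variable {η : (W₁ →* ℂˣ) → (W₂ →* ℂˣ) → G → ℂ}

theorem rem_gen (hη : Grid W₁ W₂ η) {b : W₂ →* ℂˣ} (hb : b ≠ 1) :
    IsGeneralizedCharacter G (remB D η b) :=
  mem_genChar.mp ((genChar G).add_mem (mem_genChar.mpr (isGeneralized_sub
    (isGeneralized_indFun S (gamma_gen D hb))
    (mem_genChar.mp (genChar_of_isCharacter isCharacter_one)))) (mem_genChar.mpr (hη.gen 1 b)))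

theorem rem_indep (hη : Grid W₁ W₂ η) {b b' : W₂ →* ℂˣ} (hb : b ≠ 1) (hb' : b' ≠ 1) :
    remB D η b = remB D η b' := by
  rcases eq_or_ne b b' with rfl | hne
  · rfl
  have h := D.ind_nu_sub hη 1 hb hb' hne
  rw [indFun_sub] at h
  simp only [remB, gammaB, indFun_sub]
  linear_combination -h

theorem conjFun_indFun' {X : Type*} [Group X] [Fintype X] (H : Subgroup X) (θ : H → ℂ) :
    conjFun (indFun H θ) = indFun H (conjFun θ) := by
  funext g
  simp only [conjFun, indFun_apply, map_mul, map_inv₀, Complex.conj_natCast, map_sum]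
  congr 1
  refine Finset.sum_congr rfl fun y _ => ?_
  by_cases h : y⁻¹ * g * y ∈ H
  · rw [extendByZero_of_mem _ _ h, extendByZero_of_mem _ _ h]; rfl
  · rw [extendByZero_of_not_mem _ _ h, extendByZero_of_not_mem _ _ h, map_zero]

theorem conjFun_gamma (hC : D.loc.C = ⊥) {b : W₂ →* ℂˣ} (hb : b ≠ 1) :
    conjFun (gammaB D b) = gammaB D b⁻¹ := by
  funext g
  show conj (indFun D.loc.K (fun _ => (1 : ℂ)) g - D.nu 1 b g) =
    indFun D.loc.K (fun _ => (1 : ℂ)) g - D.nu 1 b⁻¹ g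
  have e1 := congrFun (conjFun_indFun' D.loc.K fun _ => (1 : ℂ)) g
  have e2 := congrFun (conj_nu D hC hb) g
  simp only [conjFun] at e1 e2
  rw [map_sub, e1, e2, show conjFun (fun _ : D.loc.K => (1 : ℂ)) = fun _ => 1 from
    funext fun _ => map_one _]

/-- `R` is real. -/
theorem conj_rem (hC : D.loc.C = ⊥) (hη : Grid W₁ W₂ η) {b : W₂ →* ℂˣ} (hb : b ≠ 1) :
    conjFun (remB D η b) = remB D η b := by
  conv_rhs => rw [rem_indep D hη hb (inv_hom_ne hb)]
  funext g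
  show conj (indFun S (gammaB D b) g - 1 + η 1 b g) = indFun S (gammaB D b⁻¹) g - 1 + η 1 b⁻¹ g
  have e1 := congrFun (conjFun_indFun' S (gammaB D b)) g
  rw [conjFun_gamma D hC hb] at e1
  have e2 := congrFun (conj_eta hη 1 b) g
  rw [one_inv_hom] at e2
  simp only [conjFun] at e1 e2
  rw [map_add, map_sub, map_one, e1, e2]

/-- Peterfalvi's bound: `q (h - 1) ≤ e (u - 1)`. -/
theorem Family.side_bound {L : Subgroup G} [Fintype L] {Ts : Finset (L → ℂ)}
    {ν : (L → ℂ) → G → ℂ} {ζ : L → ℂ} (F : Family L Ts ν ζ) (hD : Apart D L)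
    (hη : Grid W₁ W₂ η) {b : W₂ →* ℂˣ} (hb : b ≠ 1)
    (hn : classInner (η 1 b) (beta F) = 0) :
    D.loc.q * (Nat.card (fittingHallOf L) - 1) ≤ (fittingHall L).index * (D.loc.u - 1) := by
  classical
  set τ := indFun S (gammaB D b) with hτ
  set R := remB D η b with hR
  have hRdef : R = τ - (fun _ => 1) + η 1 b := rfl
  have hgτ : IsGeneralizedCharacter G τ := isGeneralized_indFun S (gamma_gen D hb)
  have hgR := rem_gen D hη hb
  have hb' : b⁻¹ ≠ 1 := inv_hom_ne hb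
  have hbb : b ≠ b⁻¹ := by
    intro e
    have h2 : b * b = 1 := MonoidHom.ext fun z =>
      eq_inv_iff_mul_eq_one.mp (DFunLike.congr_fun e z)
    haveI : Fintype (W₂ →* ℂˣ) := Fintype.ofFinite _
    have h3 : orderOf b ∣ 2 := orderOf_dvd_of_pow_eq_one (by rw [pow_two]; exact h2)
    have h4 : orderOf b ∣ D.loc.p := D.card_hom_W₂ ▸ orderOf_dvd_card
    have h5 := Nat.dvd_gcd h3 h4
    rw [show Nat.gcd 2 D.loc.p = 1 from (Nat.coprime_primes Nat.prime_two D.loc.prime_p).mpr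
      (by have := D.loc.two_lt_p; omega), Nat.dvd_one, orderOf_eq_one_iff] at h5
    exact hb h5
  have hτ1 : classInner τ (fun _ => 1) = 1 := by
    rw [hτ, inner_indFun S _ (χ := fun _ : G => (1 : ℂ)) (fun _ _ => rfl)]
    exact gamma_inner_one D hb
  have hη1 : classInner (η 1 b) (fun _ => 1) = 0 := by
    rw [← hη.map_one, hη.orth, if_neg fun e => hb e.2]
  have hR1 : classInner R (fun _ => 1) = 0 := by
    rw [hRdef, Chars.inner_add_left, Chars.inner_sub_left, hτ1, inner_one_one, hη1]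
    ring
  obtain ⟨n₀, hn₀⟩ := inner_int hgR (hη.gen 1 b)
  have hn₀' : classInner R (η 1 b⁻¹) = n₀ := by
    have h := inner_conjFun R (η 1 b)
    rw [conj_rem D hD.C_bot hη hb, conj_eta hη, one_inv_hom, hn₀, map_intCast] at h
    exact h
  have hτη : classInner τ (η 1 b) = (n₀ : ℂ) - 1 := by
    have h : classInner R (η 1 b) = classInner τ (η 1 b) - 0 + 1 := by
      rw [hRdef, Chars.inner_add_left, Chars.inner_sub_left,
        show classInner (fun _ => (1 : ℂ)) (η 1 b) = 0 by rw [← inner_conj, hη1, map_zero],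
        hη.orth, if_pos ⟨rfl, rfl⟩]
    rw [hn₀] at h
    linear_combination -h
  have hττ : classInner τ τ = 2 + ((D.loc.u : ℂ) - 1) / D.loc.q := by
    rw [hτ, D.inner_ind (isClassFunction_of_isGeneralized (gamma_gen D hb)) (gamma_vanish D hb)
      (gamma_vanish D hb), gamma_norm D hb]
  obtain ⟨d, hd⟩ : D.loc.q ∣ D.loc.u - 1 := by
    have := D.loc.u_mod
    exact Nat.dvd_of_mod_eq_zero (Nat.sub_mod_eq_zero_of_mod_eq
      (by rw [this, Nat.one_mod_eq_one.mpr D.loc.prime_q.ne_one]))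
  have hdq : ((D.loc.u : ℂ) - 1) / D.loc.q = (d : ℂ) := by
    rw [div_eq_iff (Nat.cast_ne_zero.mpr D.loc.prime_q.pos.ne'), ← Nat.cast_one,
      ← Nat.cast_sub (le_of_lt D.loc.one_lt_u), hd]
    push_cast
    ring
  have hRR : classInner R R = ((d + 2 * n₀ : ℤ) : ℂ) := by
    have e1 : classInner (η 1 b) τ = (n₀ : ℂ) - 1 := by
      rw [← inner_conj, hτη, map_sub, map_intCast, map_one]
    have e2 : classInner (fun _ => (1 : ℂ)) τ = 1 := by rw [← inner_conj, hτ1, map_one]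
    have e3 : classInner (fun _ => (1 : ℂ)) (η 1 b) = 0 := by rw [← inner_conj, hη1, map_zero]
    rw [hRdef]
    simp only [Chars.inner_add_left, Chars.inner_add_right, Chars.inner_sub_left,
      Chars.inner_sub_right, hττ, e1, e2, e3, hτ1, hη1, hτη, inner_one_one, hdq, hη.orth,
      and_self, if_true]
    push_cast
    ring
  -- the part off the grid
  set F' := R - (n₀ : ℂ) • (η 1 b + η 1 b⁻¹) with hF'
  have hgF : IsGeneralizedCharacter G F' := by
    refine mem_genChar.mp ((genChar G).sub_mem (mem_genChar.mpr hgR) ?_)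
    rw [← zsmul_eq_cast]
    exact (genChar G).smul_mem _ ((genChar G).add_mem (mem_genChar.mpr (hη.gen 1 b))
      (mem_genChar.mpr (hη.gen 1 b⁻¹)))
  have hFF : classInner F' F' = ((d + 2 * n₀ - 2 * n₀ ^ 2 : ℤ) : ℂ) := by
    have e1 : classInner (η 1 b) R = (n₀ : ℂ) := by rw [← inner_conj, hn₀, map_intCast]
    have e2 : classInner (η 1 b⁻¹) R = (n₀ : ℂ) := by rw [← inner_conj, hn₀', map_intCast]
    rw [hF']
    simp only [Chars.inner_sub_left, Chars.inner_sub_right, Chars.inner_smul_left,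
      Chars.inner_smul_right, Chars.inner_add_left, Chars.inner_add_right, e1, e2, hn₀, hn₀', hRR,
      map_intCast, hη.orth, hbb, hbb.symm, show classInner R (η 1 b) = (n₀ : ℂ) from hn₀,
      and_false, and_self, if_true, if_false]
    push_cast
    ring
  have hF1 : ∀ φ ∈ Ts, classInner F' (ν φ) = classInner τ (ν φ) := by
    intro φ hφ
    rw [hF', hRdef, Chars.inner_sub_left, Chars.inner_add_left, Chars.inner_sub_left,
      Chars.inner_smul_left, Chars.inner_add_left, F.inner_grid' D hD hη hφ,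
      F.inner_grid' D hD hη hφ,
      show classInner (fun _ => (1 : ℂ)) (ν φ) = 0 by rw [← inner_conj, F.nu_inner_one hφ, map_zero]]
    ring
  have hτker : ∀ g ∈ kerSet L, τ g = 0 := fun g hg =>
    ind_eq_zero D (gamma_vanish D hb) (notMem_A_of_kerSet D hD hg)
  have hβR : classInner R (beta F) = -1 := by
    rw [hRdef, Chars.inner_add_left, Chars.inner_sub_left, F.inner_beta_zero hτker, hn,
      ← inner_conj (φ := beta F),
      show classInner (beta F) (fun _ => (1 : ℂ)) = 1 from F.setup.inner_beta_one, map_one]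
    ring
  have hc : classInner F' (ν ζ) ≠ 0 := by
    intro h0
    have hz : classInner R (ν ζ) = 0 := by
      rw [hRdef, Chars.inner_add_left, Chars.inner_sub_left, ← hF1 ζ F.setup.zeta_mem, h0,
        F.inner_grid' D hD hη F.setup.zeta_mem,
        show classInner (fun _ => (1 : ℂ)) (ν ζ) = 0 by
          rw [← inner_conj, F.nu_inner_one F.setup.zeta_mem, map_zero]]
      ring
    obtain ⟨k, hk⟩ := even_inner_of_real F.odd
      (mem_genChar.mp ((genChar G).add_mem (mem_genChar.mpr F.gen_beta)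
        (mem_genChar.mpr (F.setup.nu_gen F.setup.zeta_mem)))) hgR F.conj_beta_add
      (conj_rem D hD.C_bot hη hb) hR1
    rw [Chars.inner_add_left, ← inner_conj, hβR, ← inner_conj (φ := R), hz, map_neg, map_one,
      map_zero, add_zero] at hk
    have hk' : (-1 : ℤ) = 2 * k := by exact_mod_cast hk
    omega
  have hle := F.card_le hgF hFF (fun φ hφ => by
    rw [hF1 φ hφ, hF1 ζ F.setup.zeta_mem]
    exact F.coef_eq (fun α => F.inner_dade_zero hτker α) hφ) hc
  have hn0 : (d : ℤ) + 2 * n₀ - 2 * n₀ ^ 2 ≤ d := by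
    rcases le_or_gt n₀ 0 with h | h <;> nlinarith
  have hh : (Nat.card (fittingHallOf L) : ℤ) - 1 ≤ ((fittingHall L).index : ℤ) * d :=
    hle.trans (mul_le_mul_of_nonneg_left hn0 (Nat.cast_nonneg _))
  have hh' : Nat.card (fittingHallOf L) - 1 ≤ (fittingHall L).index * d := by
    have := Nat.card_pos (α := fittingHallOf L)
    zify [this]
    exact hh
  calc D.loc.q * (Nat.card (fittingHallOf L) - 1) ≤ D.loc.q * ((fittingHall L).index * d) :=
        Nat.mul_le_mul_left _ hh'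
    _ = _ := by rw [hd]; ring

end CfsgLib.FT.Route
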