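import Cfsg.Agent.Lib.FT.PF13.Facts
import Cfsg.Agent.Lib.FT.FrobeniusFormula
import Cfsg.Agent.Lib.OddOrder.FixedPoints
import Cfsg.Agent.Lib.Base.Fitting

/-!
# The side data of a maximal subgroup of Type II, without (13.1)

For Type II with `p = |W₂|` prime the Fitting Hall subgroup `H` is elementary abelian of order `p ^ q`:
`U` has no fixed points on `H`, so `|X| = |C_X(W₁)| ^ q` for every invariant `X ≤ H`.
-/

set_option autoImplicit false
set_option linter.style.haveILetI false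
set_option linter.unusedSectionVars false

namespace CfsgLib.FT.Route

open _root_.Subgroup Cfsg CfsgLib.OddOrder CfsgLib.FT.BG15 CfsgLib.FT.PF13
open scoped Pointwise

universe u

variable {G : Type u} [Group G] [Finite G]

/-- In Type II the complement `U` has no fixed points on the Fitting Hall subgroup. -/
theorem centralizer_U_eq_bot_of_typeII {S W₁ U W₂ : Subgroup G} (hG : IsMinSimpleOddOrder G)
    (hS : IsCoatom S) (hP : IsTypePWith S W₁ U W₂) (hII : IsOfTypeII S) :
    fittingHallOf S ⊓ centralizer (U : Set G) = ⊥ := by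
  obtain ⟨W₁', U', W₂', hP', hU', -, -, -, -, ⟨-, -, -, -, Uc, hUc1, hUc, -, U₀, hU₀le, hexp, hfpf⟩, hM'⟩ := hII
  -- a fixed point free element in the complement of the derived subgroup
  have hU₀ : U₀ ≠ ⊥ := by
    intro e
    refine hUc1 ((Subgroup.eq_bot_iff_forall _).mpr fun x hx => ?_)
    have h1 : Monoid.exponent U₀ = 1 := by
      rw [Monoid.exp_eq_one_iff]
      exact e ▸ (inferInstance : Subsingleton (⊥ : Subgroup ↥⁅S, S⁆))
    have h2 : (⟨x, hx⟩ : Uc) ^ Monoid.exponent Uc = 1 := Monoid.pow_exponent_eq_one _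
    rw [← hexp, h1, pow_one] at h2
    exact congrArg Subtype.val h2
  obtain ⟨v₀, hv₀, hv₀1⟩ := (Subgroup.bot_or_exists_ne_one U₀).resolve_left hU₀
  set Ucg : Subgroup G := Uc.map ⁅S, S⁆.subtype
  have hUle : Ucg ≤ ⁅S, S⁆ := Subgroup.map_subtype_le _
  have hHle : fittingHallOf S ≤ ⁅S, S⁆ := hP.U_compl.1
  have hsup : fittingHallOf S ⊔ U = ⁅S, S⁆ := derived_sup hP
  have hcard : Nat.card Ucg = Nat.card U := by
    rw [Subgroup.card_map_of_injective (Subgroup.subtype_injective _)]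
    refine Nat.eq_of_mul_eq_mul_left (Nat.card_pos (α := fittingHallOf S)) ?_
    rw [card_mul_card_of_isComplIn hP.U_compl, ← hUc.card_mul_card]
    congr 1
    rw [← hM']
    exact Subgroup.card_map_of_injective (Subgroup.subtype_injective _)
  obtain ⟨a, ha, e⟩ := CfsgLib.Coprime.sz_conj_rel (N := fittingHallOf S) (H := U) (K := Ucg)
    ((U_le hP).trans (le_normalizer_fittingHallOf S))
    ((hUle.trans (Subgroup.commutator_le_self S)).trans (le_normalizer_fittingHallOf S))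
    (coprime_U_H hP).symm hcard (by rw [hsup]; exact hUle)
    (Or.inl (CfsgLib.Coprime.isSolvable_of_le (fittingHallOf_le S) (maximal_solvable hG hS)))
  refine (Subgroup.eq_bot_iff_forall _).mpr fun x hx => ?_
  have hxa : a * x * a⁻¹ ∈ fittingHallOf S :=
    (fittingHallOf S).mul_mem ((fittingHallOf S).mul_mem ha hx.1) ((fittingHallOf S).inv_mem ha)
  have hxm : a * x * a⁻¹ ∈ (fittingHall ↥⁅S, S⁆).map ⁅S, S⁆.subtype := hM'.ge hxa
  obtain ⟨z, hz, hze⟩ := hxm
  have hv : (v₀ : G) ∈ Ucg := mem_map_of_mem _ (hU₀le hv₀)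
  rw [← e, CfsgLib.Coprime.mem_conj_smul] at hv
  have hc := mem_centralizer_iff.mp hx.2 _ hv
  have hz1 : z = 1 := hfpf v₀ hv₀ hv₀1 z hz (Subtype.ext (by
    show (v₀ : G) * (z : G) = (z : G) * (v₀ : G)
    rw [show (z : G) = a * x * a⁻¹ from hze]
    calc (v₀ : G) * (a * x * a⁻¹) = a * ((a⁻¹ * v₀ * a) * x) * a⁻¹ := by group
      _ = a * (x * (a⁻¹ * v₀ * a)) * a⁻¹ := by rw [hc]
      _ = a * x * a⁻¹ * v₀ := by group))
  rw [hz1, map_one, eq_comm, conj_eq_one_iff] at hze
  exact hze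

/-- The side data of a maximal subgroup of Type II with `|W₂|` prime. -/
theorem facts_of_typeII {S W₁ U W₂ : Subgroup G} (hG : IsMinSimpleOddOrder G) (hS : IsCoatom S)
    (hP : IsTypePWith S W₁ U W₂) (hII : IsOfTypeII S) (hp : (Nat.card W₂).Prime) :
    Facts S W₁ U W₂ := by
  set H := fittingHallOf S with hH
  have hU : H ⊓ centralizer (U : Set G) = ⊥ := centralizer_U_eq_bot_of_typeII hG hS hP hII
  have hq : (Nat.card W₁).Prime := by
    obtain ⟨W₁', U', W₂', hP', -, h3, -⟩ := hII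
    exact (card_compl_eq hP hP').1 ▸ h3
  have hW₂H : W₂ ≤ H := hP.W₂_le.trans inf_le_left
  have hW₁S : W₁ ≤ S := hP.W₁_compl.2.1
  have hfix : H ⊓ centralizer (W₁ : Set G) = W₂ := by
    obtain ⟨x, hx, hx1⟩ := (Subgroup.bot_or_exists_ne_one W₁).resolve_left hP.W₁_ne
    refine le_antisymm (fun y hy => ?_) fun y hy => ⟨hW₂H hy, mem_centralizer_iff.mpr fun z hz =>
      hP.selfNormalizing.2.2.2.1 z hz y hy⟩
    rw [← hP.W₂_centralizer x hx hx1]
    exact ⟨hP.U_compl.1 hy.1, mem_centralizer_singleton_iff.mpr (mem_centralizer_iff.mp hy.2 x hx).symm⟩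
  have hfpf : ∀ x ∈ W₁, x ≠ 1 → ∀ v ∈ U, x * v = v * x → v = 1 := by
    intro x hx hx1 v hv h
    have h1 : v ∈ W₂ := by
      rw [← hP.W₂_centralizer x hx hx1]
      exact ⟨hP.U_compl.2.1 hv, mem_centralizer_singleton_iff.mpr h.symm⟩
    have h2 : v ∈ H ⊓ U := ⟨hW₂H h1, hv⟩
    rwa [hH, hP.U_compl.2.2.1, mem_bot] at h2
  have hUn : ∀ x ∈ W₁, ∀ v ∈ U, x * v * x⁻¹ ∈ U := fun x hx v hv =>
    (mem_normalizer_iff.mp (hP.U_normal hx) v).mp hv
  have hcopH : (Nat.card H).Coprime (Nat.card ↥(U ⊔ W₁)) := by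
    have hW : (Nat.card W₁).Coprime (Nat.card H) := by
      have e : W₁.relIndex S * Nat.card W₁ = Nat.card S := relIndex_mul_card_of_le hW₁S
      rw [← card_mul_card_of_isComplIn hP.W₁_compl] at e
      exact ((Nat.eq_of_mul_eq_mul_right Nat.card_pos e) ▸ hP.W₁_hall).coprime_dvd_right
        (Subgroup.card_dvd_of_le hP.U_compl.1)
    refine ((Nat.Coprime.mul_left hW (coprime_U_H hP)).symm).coprime_dvd_right ?_
    rw [sup_comm]
    exact CfsgLib.Coprime.card_sup_dvd hP.U_normal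
  have formula : ∀ X : Subgroup G, X ≤ H → U ⊔ W₁ ≤ normalizer (X : Set G) →
      Nat.card X = Nat.card ↥(X ⊓ centralizer (W₁ : Set G)) ^ Nat.card W₁ := by
    intro X hX hn
    have h := CfsgLib.FT.card_centralizer_formula hP.W₁_ne hUn hfpf X hn
      (CfsgLib.Coprime.isSolvable_of_le (hX.trans (fittingHallOf_le S)) (maximal_solvable hG hS))
      (hcopH.coprime_dvd_left (Subgroup.card_dvd_of_le hX))
    have hb : X ⊓ centralizer (U : Set G) = ⊥ :=
      le_bot_iff.mp ((inf_le_inf_right _ hX).trans hU.le)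
    have hb' : X ⊓ centralizer ((U ⊔ W₁ : Subgroup G) : Set G) = ⊥ := le_bot_iff.mp
      ((inf_le_inf_left X (Subgroup.centralizer_le (show (U : Set G) ⊆ ((U ⊔ W₁ : Subgroup G) : Set G)
        from SetLike.coe_subset_coe.mpr le_sup_left))).trans hb.le)
    rwa [hb, hb', Subgroup.card_bot, one_pow, one_mul, mul_one] at h
  have hHn : U ⊔ W₁ ≤ normalizer (H : Set G) :=
    (sup_le (U_le hP) hW₁S).trans (le_normalizer_fittingHallOf S)
  have hcard : Nat.card H = Nat.card W₂ ^ Nat.card W₁ := by rw [formula H le_rfl hHn, hfix]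
  have whole : ∀ X : Subgroup G, X ≤ H → U ⊔ W₁ ≤ normalizer (X : Set G) → X ≠ ⊥ → X = H := by
    intro X hX hn hX1
    have hd := Subgroup.card_dvd_of_le ((inf_le_inf_right _ hX).trans hfix.le :
      X ⊓ centralizer (W₁ : Set G) ≤ W₂)
    have h := formula X hX hn
    rcases (Nat.dvd_prime hp).mp hd with h1 | h1
    · rw [h1, one_pow] at h
      exact absurd (Subgroup.eq_bot_of_card_eq _ h) hX1
    · exact Subgroup.eq_of_le_of_card_ge hX (by rw [h, h1, hcard])
  have hcomm : ∀ a ∈ H, ∀ b ∈ H, a * b = b * a := by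
    have hKn : U ⊔ W₁ ≤ normalizer ((⁅H, H⁆ : Subgroup G) : Set G) := le_normalizer_commutator hHn hHn
    have hbot : ⁅H, H⁆ = ⊥ := by
      by_contra hne
      have hH1 : H ≠ ⊥ := fun e => hne (le_bot_iff.mp ((Subgroup.commutator_le_self H).trans e.le))
      exact (CfsgLib.Base.commutator_self_lt_of_isSolvable hH1
        (CfsgLib.Coprime.isSolvable_of_le (fittingHallOf_le S) (maximal_solvable hG hS))).ne
        (whole _ (Subgroup.commutator_le_self H) hKn hne)
    intro a ha b hb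
    exact mem_centralizer_iff.mp (Subgroup.commutator_eq_bot_iff_le_centralizer.mp hbot hb) a ha
  have hexp : ∀ a ∈ H, a ^ Nat.card W₂ = 1 := by
    let X : Subgroup G :=
      { carrier := {a | a ∈ H ∧ a ^ Nat.card W₂ = 1}
        one_mem' := ⟨H.one_mem, one_pow _⟩
        mul_mem' := fun {a b} ha hb => ⟨H.mul_mem ha.1 hb.1, by
          rw [(show Commute a b from hcomm a ha.1 b hb.1).mul_pow, ha.2, hb.2, one_mul]⟩
        inv_mem' := fun {a} ha => ⟨H.inv_mem ha.1, by rw [inv_pow, ha.2, inv_one]⟩ }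
    have hXn : U ⊔ W₁ ≤ normalizer (X : Set G) := by
      intro w hw
      refine mem_normalizer_iff.mpr fun a => and_congr (mem_normalizer_iff.mp (hHn hw) a) ?_
      rw [conj_pow, conj_eq_one_iff]
    have hX1 : X ≠ ⊥ := by
      obtain ⟨y, hy, hy1⟩ := (Subgroup.bot_or_exists_ne_one W₂).resolve_left hP.selfNormalizing.2.1
      intro e
      have h1 : y ∈ X := ⟨hW₂H hy, congrArg Subtype.val (pow_card_eq_one' (x := (⟨y, hy⟩ : W₂)))⟩
      rw [e, mem_bot] at h1
      exact hy1 h1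
    exact fun a ha => ((whole X (fun b hb => hb.1) hXn hX1).ge ha).2
  exact facts_of hG hS hP (Or.inl hII) hp
    ⟨⟨⟨fun a b => Subtype.ext (hcomm a a.2 b b.2)⟩⟩, hexp⟩ hcard

end CfsgLib.FT.Route
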