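import Cfsg.Agent.Lib.FT.Route.Mass
import Cfsg.Agent.Lib.FT.PF13.Local
import Cfsg.Agent.Lib.FT.PF13.Count

/-!
# The pair inequality for two sides

For the two sides of a pair, with `D = (2 u + 1) ^ 2 / (4 u m)` on each side: `p D_S + q D_T ≥ 2`.
-/

set_option autoImplicit false
set_option linter.style.haveILetI false
set_option linter.unusedSectionVars false

namespace CfsgLib.FT.Route

open _root_.Subgroup Cfsg CfsgLib.Chars CfsgLib.CharsMore CfsgLib.FT.PF13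
open scoped ComplexConjugate

universe u

variable {G : Type u} [Group G] [Fintype G] {S T W₁ W₂ : Subgroup G}

theorem gen_pair {η : (W₁ →* ℂˣ) → (W₂ →* ℂˣ) → G → ℂ} (hη : Grid W₁ W₂ η) (a : W₁ →* ℂˣ)
    (b : W₂ →* ℂˣ) : IsGeneralizedCharacter G (η a 1 + η 1 b) :=
  mem_genChar.mp ((genChar G).add_mem (mem_genChar.mpr (hη.gen a 1)) (mem_genChar.mpr (hη.gen 1 b)))

section Side

variable (D : Side S W₁ W₂) [Fintype S]

theorem closed_HG : Closed (conjSet D.HG) := by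
  intro k hk g hg
  obtain ⟨x, hx⟩ := mem_conjSet.mp hg
  obtain ⟨hS, hH, hne⟩ := D.mem_HG.mp hx
  refine mem_conjSet.mpr ⟨x, D.mem_HG.mpr ⟨conj_pow (α := G) ▸ S.pow_mem hS k, ?_, ?_⟩⟩
  · rw [show (⟨x * g ^ k * x⁻¹, conj_pow (α := G) ▸ S.pow_mem hS k⟩ : S) = ⟨_, hS⟩ ^ k from
      Subtype.ext (by rw [SubmonoidClass.coe_pow]; exact conj_pow.symm)]
    exact D.loc.H.pow_mem hH k
  · rw [← conj_pow]
    exact fun h => hne ((powCoprime hk.symm).injective (a₁ := x * g * x⁻¹) (a₂ := 1) (by simpa using h))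

theorem disjoint_regSet : Disjoint (conjSet D.HG) (regSet W₁ W₂) := by
  rw [Finset.disjoint_left]
  intro g hg hR
  obtain ⟨k, hk⟩ := mem_conjSet.mp hR
  obtain ⟨x, hx, hx1, y, hy, -, e⟩ := mem_regFin.mp hk
  refine D.regular_notMem_conjSet hx hy hx1 ?_
  rw [← e]
  obtain ⟨z, hz⟩ := mem_conjSet.mp hg
  exact mem_conjSet.mpr ⟨z * k⁻¹, by simpa [mul_assoc] using hz⟩

variable {η : (W₁ →* ℂˣ) → (W₂ →* ℂˣ) → G → ℂ}

/-- `|S| mass ≥ |G| (m u - (2 u + 1) ^ 2 / 4)` on the conjugates of `H` without the identity for a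
generalised character separating two fixed differences. -/
theorem side_mass_of {f : G → ℂ} (hgen : IsGeneralizedCharacter G f) {b b' : W₂ →* ℂˣ} (hb : b ≠ 1)
    (hb'1 : b' ≠ 1) (hne : b ≠ b') (hΔ : classInner (D.dz (D.lam b) (D.lam b')) f = 1) :
    (Nat.card G : ℝ) * (4 * Nat.card D.loc.H * D.loc.u - (2 * (D.loc.u : ℝ) + 1) ^ 2) ≤
      4 * ((Nat.card S : ℝ) * mass f (-1) (conjSet D.HG)) := by
  classical
  haveI : Fintype D.loc.H := Fintype.ofFinite _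
  haveI : Fintype (D.loc.H →* ℂˣ) := Fintype.ofFinite _
  have hcomm : ∀ x y : D.loc.H, x * y = y * x := fun x y => Subtype.ext (D.loc.comm_H x.2 y.2)
  obtain ⟨F, hF, hsum⟩ := exists_fourier_int hcomm (D.gen_resH hgen)
  have hti : ∀ x : G, ∀ c ∈ D.HG, x * c * x⁻¹ ∈ D.HG → x ∈ S := by
    intro x c hc hxc
    obtain ⟨hS, hH, hne⟩ := D.mem_HG.mp hc
    obtain ⟨hS', hH', -⟩ := D.mem_HG.mp hxc
    exact D.ti x ⟨c, hS⟩ hH (fun e => hne (congrArg Subtype.val e)) hS' hH'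
  have hinv : ∀ x ∈ S, ∀ c ∈ D.HG, x * c * x⁻¹ ∈ D.HG := by
    intro x hx c hc
    obtain ⟨hS, hH, hne⟩ := D.mem_HG.mp hc
    exact D.mem_HG.mpr ⟨S.mul_mem (S.mul_mem hx hS) (S.inv_mem hx),
      D.loc.normal_H.conj_mem _ hH ⟨x, hx⟩, fun e => hne (conj_eq_one_iff.mp e)⟩
  have hconj := sum_conjSet S D.HG hinv hti (fun g => ‖f g‖ ^ 2 + (-1 : ℝ) * (f g).re) fun g x => by
    rw [isClassFunction_of_isGeneralized hgen g x]
  change (Nat.card S : ℝ) * mass f (-1) (conjSet D.HG) = _ at hconj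
  have hbij : ∀ φ : G → ℝ, ∑ g ∈ D.HG, φ g =
      ∑ h ∈ (Finset.univ : Finset D.loc.H).erase 1, φ ((h : S) : G) := by
    intro φ
    refine (Finset.sum_bij (fun (h : D.loc.H) _ => ((h : S) : G))
      (fun h hh => D.coe_mem_HG (Finset.ne_of_mem_erase hh))
      (fun x _ y _ e => Subtype.ext (Subtype.ext e)) (fun g hg => ?_) fun h _ => rfl).symm
    obtain ⟨hS, hH, hne⟩ := D.mem_HG.mp hg
    exact ⟨⟨⟨g, hS⟩, hH⟩, Finset.mem_erase.mpr ⟨fun e => hne
      (congrArg (fun z : D.loc.H => ((z : S) : G)) e), Finset.mem_univ _⟩, rfl⟩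
  have hre : ∑ h ∈ (Finset.univ : Finset D.loc.H).erase 1, (D.resH f h).re =
      (((Fintype.card D.loc.H : ℤ) * F 1 - ∑ φ, F φ : ℤ) : ℝ) := by
    have h1 : ∑ h : D.loc.H, D.resH f h = (Fintype.card D.loc.H : ℂ) * F 1 := by
      rw [← hF 1, Chars.inner_def, Nat.card_eq_fintype_card, ← mul_assoc,
        mul_inv_cancel₀ (Nat.cast_ne_zero.mpr Fintype.card_pos.ne'), one_mul]
      simp
    have h2 : D.resH f 1 = ((∑ φ, F φ : ℤ) : ℂ) := by
      rw [fourier hcomm (D.resH f) 1]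
      push_cast
      exact Finset.sum_congr rfl fun φ _ => by rw [hF, map_one, Units.val_one, mul_one]
    have h3 : (∑ h ∈ (Finset.univ : Finset D.loc.H).erase 1, D.resH f h) =
        (((Fintype.card D.loc.H : ℤ) * F 1 - ∑ φ, F φ : ℤ) : ℂ) := by
      rw [Finset.sum_erase_eq_sub (Finset.mem_univ _), h1, h2]
      push_cast
      rfl
    rw [← Complex.re_sum, h3, Complex.intCast_re]
  have hmass : ∑ g ∈ D.HG, (‖f g‖ ^ 2 + (-1 : ℝ) * (f g).re) =
      (((Fintype.card D.loc.H : ℤ) * ∑ φ, F φ ^ 2 - (∑ φ, F φ) ^ 2 -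
        ((Fintype.card D.loc.H : ℤ) * F 1 - ∑ φ, F φ) : ℤ) : ℝ) := by
    rw [hbij, Finset.sum_add_distrib, ← Finset.mul_sum,
      show ∑ h ∈ (Finset.univ : Finset D.loc.H).erase 1, ‖f ((h : S) : G)‖ ^ 2 = _ from hsum,
      show ∑ h ∈ (Finset.univ : Finset D.loc.H).erase 1, (f ((h : S) : G)).re = _ from hre]
    push_cast
    ring
  have horb : ∀ φ₀, ∀ φ ∈ D.loc.orbit φ₀, F φ = F φ₀ := by
    intro φ₀ φ hφ
    obtain ⟨g, rfl⟩ := D.loc.mem_orbit.mp hφ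
    have h := D.inner_resH_conjH hgen g φ₀
    rw [hF, hF] at h
    exact_mod_cast h
  have hd : ((F (D.lam b) - F (D.lam b') : ℤ) : ℂ) = 1 := by
    have hdiff : classInner (D.dz (D.lam b) (D.lam b')) f = ((F (D.lam b) - F (D.lam b') : ℤ) : ℂ) := by
      rw [D.inner_dz_eq hgen, ← inner_conj, hF, ← inner_conj (φ := D.resH f), hF, map_intCast,
        map_intCast, Int.cast_sub]
    rw [← hdiff, hΔ]
  have hd' : F (D.lam b) - F (D.lam b') = 1 := by exact_mod_cast hd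
  have honeorb : ∀ {c : W₂ →* ℂˣ}, c ≠ 1 → (1 : D.loc.H →* ℂˣ) ∉ D.loc.orbit (D.lam c) := by
    intro c hc h
    obtain ⟨g, hg⟩ := D.loc.mem_orbit.mp h
    have h1 : D.loc.conjH g⁻¹ (D.loc.conjH g (D.lam c)) = D.lam c := by
      rw [← D.loc.conjH_mul, inv_mul_cancel, D.loc.conjH_one]
    obtain ⟨z, hz, hne'⟩ := (D.lam_fixed hc).2
    exact hne' (by rw [← h1, hg]; rfl)
  have hlat := lattice (fun φ => F φ - F 1) 1 (sub_self _) (D.loc.orbit (D.lam b))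
    (D.loc.orbit (D.lam b')) ((D.lam_fixed hb).disjoint_orbit D.loc (D.lam_fixed hb'1) (D.lam_ne hne))
    (honeorb hb) (honeorb hb'1) ((D.lam_fixed hb).card_orbit D.loc)
    ((D.lam_fixed hb'1).card_orbit D.loc)
    (fun i hi => by rw [horb _ i hi]) (fun i hi => by rw [horb _ i hi])
    (fun e => by omega)
  rw [shift_identity, D.card_hom_H, ← Nat.card_eq_fintype_card (α := D.loc.H)] at *
  rw [hconj, hmass]
  have hlat' : (4 * (Nat.card D.loc.H : ℝ) * D.loc.u - (2 * (D.loc.u : ℝ) + 1) ^ 2) ≤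
      4 * (((Nat.card D.loc.H : ℤ) * ∑ φ, F φ ^ 2 - (∑ φ, F φ) ^ 2 -
        ((Nat.card D.loc.H : ℤ) * F 1 - ∑ φ, F φ) : ℤ) : ℝ) := by exact_mod_cast hlat
  refine le_trans (mul_le_mul_of_nonneg_left hlat' (Nat.cast_nonneg _)) (le_of_eq ?_)
  ring

/-- The case of `η a 1 + η 1 b`. -/
theorem side_mass (hη : Grid W₁ W₂ η) (a : W₁ →* ℂˣ) {b : W₂ →* ℂˣ} (hb : b ≠ 1) :
    (Nat.card G : ℝ) * (4 * Nat.card D.loc.H * D.loc.u - (2 * (D.loc.u : ℝ) + 1) ^ 2) ≤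
      4 * ((Nat.card S : ℝ) * mass (η a 1 + η 1 b) (-1) (conjSet D.HG)) := by
  classical
  haveI : Fintype (W₁ →* ℂˣ) := Fintype.ofFinite _
  haveI : Fintype (W₂ →* ℂˣ) := Fintype.ofFinite _
  -- two blocks
  obtain ⟨b', hb'⟩ : ∃ b', b' ∈ ((Finset.univ : Finset (W₂ →* ℂˣ)).erase 1).erase b := by
    refine Finset.card_pos.mp ?_
    rw [Finset.card_erase_of_mem (Finset.mem_erase.mpr ⟨hb, Finset.mem_univ _⟩),
      Finset.card_erase_of_mem (Finset.mem_univ _), Finset.card_univ, D.card_hom_W₂]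
    have := D.loc.two_lt_p
    omega
  have hb'1 : b' ≠ 1 := Finset.ne_of_mem_erase (Finset.mem_of_mem_erase hb')
  have hne : b ≠ b' := (Finset.ne_of_mem_erase hb').symm
  refine side_mass_of D (gen_pair hη a b) hb hb'1 hne ?_
  rw [Side.dz, D.ind_zeta_sub hη hb hb'1 hne, Chars.inner_add_right, inner_sum_left,
    inner_sum_left, Finset.sum_eq_zero fun i _ => by
      rw [Chars.inner_sub_left, hη.orth, hη.orth, if_neg fun e => hb e.2,
        if_neg fun e => hb'1 e.2, sub_zero],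
    Finset.sum_eq_single 1 (fun i _ hi => by
      rw [Chars.inner_sub_left, hη.orth, hη.orth, if_neg fun e => hi e.1, if_neg fun e => hi e.1,
        sub_self]) (by simp),
    Chars.inner_sub_left, hη.orth, hη.orth, if_pos ⟨rfl, rfl⟩, if_neg fun e => hne e.2.symm,
    zero_add, sub_zero]

end Side

/-- The pair inequality `2 ≤ p D_S + q D_T` multiplied by `4 u m u' m'`. -/
theorem pair_bound (D : Side S W₁ W₂) (E : Side T W₂ W₁) :
    8 * ((D.loc.u : ℝ) * Nat.card D.loc.H) * ((E.loc.u : ℝ) * Nat.card E.loc.H) ≤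
      (D.loc.p : ℝ) * (2 * D.loc.u + 1) ^ 2 * ((E.loc.u : ℝ) * Nat.card E.loc.H) +
        (D.loc.q : ℝ) * (2 * E.loc.u + 1) ^ 2 * ((D.loc.u : ℝ) * Nat.card D.loc.H) := by
  classical
  haveI : Fintype S := Fintype.ofFinite _
  haveI : Fintype T := Fintype.ofFinite _
  haveI : Fintype (W₁ →* ℂˣ) := Fintype.ofFinite _
  haveI : Fintype (W₂ →* ℂˣ) := Fintype.ofFinite _
  have hodd : Odd (Nat.card ↥(W₁ ⊔ W₂)) :=
    D.loc.odd.of_dvd_nat (Subgroup.card_dvd_of_le (sup_le D.W₁_le D.W₂_le))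
  obtain ⟨η, hη⟩ := exists_grid D.selfNorm hodd
  obtain ⟨a, ha⟩ : ∃ a : W₁ →* ℂˣ, a ≠ 1 :=
    Fintype.exists_ne_of_one_lt_card (by rw [D.card_hom_W₁]; exact D.loc.prime_q.one_lt) 1
  obtain ⟨b, hb⟩ : ∃ b : W₂ →* ℂˣ, b ≠ 1 :=
    Fintype.exists_ne_of_one_lt_card (by rw [D.card_hom_W₂]; exact D.loc.prime_p.one_lt) 1
  have hS := side_mass D hη a hb
  have hT := side_mass E (hη.swap D.selfNorm.2.2.2.1) b ha
  rw [add_comm (η 1 b) (η a 1)] at hT
  have hTW : Disjoint (conjSet E.HG) (regSet W₁ W₂) := by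
    have h := disjoint_regSet E
    rwa [show regSet W₂ W₁ = regSet W₁ W₂ by
      refine congrArg conjSet ?_
      ext g
      rw [mem_regFin, mem_regFin]
      constructor
      · rintro ⟨y, hy, hy1, x, hx, hx1, rfl⟩
        exact ⟨x, hx, hx1, y, hy, hy1, (D.selfNorm.2.2.2.1 x hx y hy).symm⟩
      · rintro ⟨x, hx, hx1, y, hy, hy1, rfl⟩
        exact ⟨y, hy, hy1, x, hx, hx1, D.selfNorm.2.2.2.1 x hx y hy⟩] at h
  have hpair := pair_ineq D.selfNorm hη ha hb (closed_HG D) (closed_HG E) (D.disjoint_HG E)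
    (disjoint_regSet D) hTW
  have hp : Nat.card W₂ = D.loc.p := D.card_W₂
  have hq : Nat.card W₁ = D.loc.q := D.card_W₁
  have hp' : (E.loc.q : ℝ) = D.loc.p := by rw [← E.card_W₁, hp]
  rw [hp, hq] at hpair
  rw [D.loc.card_L'] at hS
  rw [E.loc.card_L'] at hT
  push_cast at hpair hS hT
  rw [hp'] at hT
  set MS := mass (η a 1 + η 1 b) (-1) (conjSet D.HG)
  set MT := mass (η a 1 + η 1 b) (-1) (conjSet E.HG)
  have hG : (0 : ℝ) < Nat.card G := by exact_mod_cast Nat.card_pos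
  have h1 := mul_le_mul_of_nonneg_left hpair
    (show (0 : ℝ) ≤ 4 * ((D.loc.u : ℝ) * Nat.card D.loc.H) * ((E.loc.u : ℝ) * Nat.card E.loc.H) by
      positivity)
  have h2 := mul_le_mul_of_nonneg_left hS
    (show (0 : ℝ) ≤ (D.loc.p : ℝ) * ((E.loc.u : ℝ) * Nat.card E.loc.H) by positivity)
  have h3 := mul_le_mul_of_nonneg_left hT
    (show (0 : ℝ) ≤ (D.loc.q : ℝ) * ((D.loc.u : ℝ) * Nat.card D.loc.H) by positivity)
  refine le_of_mul_le_mul_left ?_ hG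
  linarith

end CfsgLib.FT.Route
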