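import Cfsg.Agent.Lib.FT.Route.NU
import Cfsg.Agent.Lib.FT.Route.SideMass
import Cfsg.Agent.Lib.FT.CoherentOrth
import Cfsg.Agent.Lib.FT.TypeOne.Main

/-!
# The coherent family of a Frobenius maximal subgroup with TI kernel
-/

set_option autoImplicit false
set_option linter.style.haveILetI false
set_option linter.unusedSectionVars false

namespace CfsgLib.FT.Route

open _root_.Subgroup Cfsg CfsgLib.OddOrder CfsgLib.FT.PF13 CfsgLib.Chars CfsgLib.CharsMore
  CfsgLib.Techniques
open scoped ComplexConjugate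

universe u

variable {G : Type u} [Group G] [Fintype G]

theorem FrobMax.centralizer_le {L : Subgroup G} (hL : FrobMax L) {z : G}
    (hz : z ∈ fittingHallOf L) (hz1 : z ≠ 1) : centralizer ({z} : Set G) ≤ L := fun c hc => by
  refine hL.ti c z hz hz1 ?_
  rw [mem_centralizer_singleton_iff.mp hc, mul_inv_cancel_right]
  exact hz

theorem FrobMax.typeA_eq {L : Subgroup G} (hL : FrobMax L) :
    FT.typeA L = (fittingHallOf L : Set G) \ {1} :=
  TypeOne.typeA_eq_of_frobenius hL.typeI hL.frob

theorem FrobMax.mem_typeA {L : Subgroup G} (hL : FrobMax L) {z : G} :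
    z ∈ FT.typeA L ↔ z ∈ fittingHallOf L ∧ z ≠ 1 := by
  rw [hL.typeA_eq, Set.mem_sdiff, Set.mem_singleton_iff, SetLike.mem_coe]

theorem FrobMax.supportR_eq {L : Subgroup G} (hL : FrobMax L) {z : G} (hz : z ∈ FT.typeA L) :
    supportR L z = ⊥ :=
  supportR_of_le (hL.centralizer_le (hL.mem_typeA.mp hz).1 (hL.mem_typeA.mp hz).2)

/-- The non-identity elements of the kernel. -/
noncomputable def kerFin (L : Subgroup G) : Finset G := by
  classical
  exact Finset.univ.filter fun g => g ∈ fittingHallOf L ∧ g ≠ 1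

theorem mem_kerFin {L : Subgroup G} {g : G} :
    g ∈ kerFin L ↔ g ∈ fittingHallOf L ∧ g ≠ 1 := by
  simp [kerFin]

/-- Their conjugates. -/
noncomputable def kerSet (L : Subgroup G) : Finset G := conjSet (kerFin L)

theorem FrobMax.mem_dadeSupp {L : Subgroup G} (hL : FrobMax L) {g : G} :
    g ∈ dadeSupp (FT.typeA L) (supportR L) ↔ g ∈ kerSet L := by
  constructor
  · rintro ⟨a, ha, x, u, hu, e⟩
    rw [hL.supportR_eq ha, mem_bot] at hu
    rw [hu, mul_one] at e
    exact mem_conjSet.mpr ⟨x, mem_kerFin.mpr (e.symm ▸ hL.mem_typeA.mp ha)⟩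
  · intro hg
    obtain ⟨x, hx⟩ := mem_conjSet.mp hg
    exact ⟨_, hL.mem_typeA.mpr (mem_kerFin.mp hx), x, 1, (supportR L _).one_mem, (mul_one _).symm⟩

theorem kerSet_closed (L : Subgroup G) : Closed (kerSet L) := by
  intro k hk g hg
  obtain ⟨x, hx⟩ := mem_conjSet.mp hg
  obtain ⟨h1, h2⟩ := mem_kerFin.mp hx
  refine mem_conjSet.mpr ⟨x, mem_kerFin.mpr ?_⟩
  rw [← conj_pow]
  exact ⟨pow_mem h1 k, fun e => h2 ((powCoprime hk.symm).injective
    (a₁ := x * g * x⁻¹) (a₂ := 1) (by simpa using e))⟩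

/-- Two such kernels meet trivially unless the maximal subgroups are equal. -/
theorem FrobMax.eq_of_meet {L M : Subgroup G} (hL : FrobMax L) (hM : FrobMax M)
    (hG : IsMinSimpleOddOrder G) {z : G} (hzL : z ∈ fittingHallOf L) (hzM : z ∈ fittingHallOf M)
    (hz1 : z ≠ 1) : L = M := by
  have key : ∀ {A B : Subgroup G}, FrobMax A → FrobMax B → z ∈ fittingHallOf A → z ∈ fittingHallOf B →
      fittingHallOf A ≤ fittingHallOf B := by
    intro A B hA hB hzA hzB
    haveI : Nontrivial (fittingHallOf A) := (Subgroup.nontrivial_iff_ne_bot _).mpr hA.ne_bot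
    haveI := isNilpotent_fittingHallOf A
    obtain ⟨w, hw, hw1⟩ := (Subgroup.bot_or_exists_ne_one _).resolve_left
      (Group.IsNilpotent.center_ne_bot (G := fittingHallOf A))
    have hc : ∀ a ∈ fittingHallOf A, a * (w : G) = w * a := fun a ha =>
      congrArg Subtype.val (mem_center_iff.mp hw ⟨a, ha⟩)
    have hwB : (w : G) ∈ fittingHallOf B := hB.frob z hzB hz1
      ⟨hB.centralizer_le hzB hz1 (mem_centralizer_singleton_iff.mpr (hc z hzA).symm),
        mem_centralizer_singleton_iff.mpr (hc z hzA).symm⟩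
    have hw1' : (w : G) ≠ 1 := fun e => hw1 (Subtype.ext e)
    exact fun a ha => hB.frob w hwB hw1'
      ⟨hB.centralizer_le hwB hw1' (mem_centralizer_singleton_iff.mpr (hc a ha)),
        mem_centralizer_singleton_iff.mpr (hc a ha)⟩
  have e : fittingHallOf L = fittingHallOf M :=
    le_antisymm (key hL hM hzL hzM) (key hM hL hzM hzL)
  have h1 := normalizer_eq_maximal hG hL.coatom (fittingHallOf_le L) hL.ne_bot
    (le_normalizer_fittingHallOf L)
  have h2 := normalizer_eq_maximal hG hM.coatom (fittingHallOf_le M) hM.ne_bot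
    (le_normalizer_fittingHallOf M)
  rw [← h1, ← h2, e]

theorem disjoint_dadeSupp {L M : Subgroup G} (hL : FrobMax L) (hM : FrobMax M)
    (hG : IsMinSimpleOddOrder G) (hconj : ∀ x : G, FrobMax (cj x M))
    (hne : ∀ x : G, cj x M ≠ L) :
    Disjoint (dadeSupp (FT.typeA L) (supportR L)) (dadeSupp (FT.typeA M) (supportR M)) := by
  refine Set.disjoint_left.mpr fun g hg hg' => ?_
  obtain ⟨x, hx⟩ := mem_conjSet.mp (hL.mem_dadeSupp.mp hg)
  obtain ⟨y, hy⟩ := mem_conjSet.mp (hM.mem_dadeSupp.mp hg')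
  obtain ⟨h1, h2⟩ := mem_kerFin.mp hx
  refine hne (x * y⁻¹) ((hL.eq_of_meet (hconj _) hG h1 ?_ h2).symm)
  rw [show fittingHallOf (cj (x * y⁻¹) M) = cj (x * y⁻¹) (fittingHallOf M) from map_fittingHallOf _ M,
    mem_cj]
  simpa [mul_assoc] using (mem_kerFin.mp hy).1

theorem card_fittingHall (L : Subgroup G) :
    Nat.card (fittingHall L) = Nat.card (fittingHallOf L) :=
  (CfsgLib.Base.card_map_subtype (fittingHall L)).symm

/-- The coherence data of `L`, with all members irreducible. -/
structure Family (L : Subgroup G) [Fintype L] (T : Finset (L → ℂ)) (ν : (L → ℂ) → G → ℂ)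
    (ζ : L → ℂ) : Prop where
  minimal : IsMinSimpleOddOrder G
  max : FrobMax L
  setup : CoherentSetup (FT.typeA L) L (supportR L) (fittingHall L) T ν ζ
  irr : ∀ φ ∈ T, IsIrrCharacter L φ

theorem exists_family {L : Subgroup G} [Fintype L] (hG : IsMinSimpleOddOrder G) (hL : FrobMax L) :
    ∃ T ν ζ, Family L T ν ζ := by
  classical
  obtain ⟨hirr, -, ν, hν, hag⟩ :=
    stmtS1542_of_local localFacts8 hG L hL.coatom hL.typeI hL.frob
  set K := fittingHall L with hK
  haveI : K.Normal := fittingHall_normal L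
  have hfin := inducedIrrAbove_finite K (⊥ : Subgroup L)
  have hsol : Group.IsSolvable K := by
    haveI := minSimple_solvable hG (H := L) hL.coatom.1
    infer_instance
  have hbot : (⊥ : Subgroup L) < K := bot_lt_iff_ne_bot.mpr fun e => hL.ne_bot (by
    rw [fittingHallOf, ← hK, e, Subgroup.map_bot])
  obtain ⟨θ, hθ, hθ1, hker, hdeg⟩ := exists_linear_above K hsol hbot
  have hmem : indFun K θ ∈ inducedIrrAbove K ⊥ := ⟨θ, hθ, hθ1, hker, rfl⟩
  refine ⟨hfin.toFinset, ν, indFun K θ, hG, hL, ⟨⟨dadeHypothesis_typeSet localFacts8 hG hL.coatom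
    (Or.inr (Or.inl rfl)), fun x => ?_, hfin.coe_toFinset⟩, ?_, ?_, hfin.mem_toFinset.mpr hmem,
    hirr _ hmem, ?_⟩, fun φ hφ => hirr φ (hfin.mem_toFinset.mp hφ)⟩
  · rw [hL.mem_typeA, TypeOne.mem_fittingHall_iff]
    simp
  · rw [hfin.coe_toFinset]; exact hν
  · rw [hfin.coe_toFinset]; exact hag
  · rw [indFun_one_apply, hdeg, mul_one]

variable {L : Subgroup G} [Fintype L] {T : Finset (L → ℂ)} {ν : (L → ℂ) → G → ℂ} {ζ : L → ℂ}
  (F : Family L T ν ζ)

/-- The function `β` of `L`. -/
noncomputable def beta (_F : Family L T ν ζ) : G → ℂ :=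
  betaFun (FT.typeA L) L (supportR L) (fittingHall L) ζ

include F

theorem Family.odd : Odd (Nat.card G) := minSimple_odd F.minimal

theorem Family.index_pos : 0 < (fittingHall L).index :=
  Nat.pos_of_ne_zero Subgroup.index_ne_zero_of_finite

theorem Family.inner_self {φ : L → ℂ} (hφ : φ ∈ T) : classInner φ φ = 1 :=
  inner_irr_self ⟨φ, F.irr φ hφ⟩

theorem Family.conj_mem {φ : L → ℂ} (hφ : φ ∈ T) : conjFun φ ∈ T := by
  rw [← Finset.mem_coe, F.setup.coe_eq]
  exact inducedIrrAbove_conj (fittingHall L) (F.setup.toKernelSetup.mem hφ)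

theorem Family.conj_ne {φ : L → ℂ} (hφ : φ ∈ T) : conjFun φ ≠ φ := fun h => by
  have hp : φ = fun _ => 1 := congrArg Subtype.val (eq_principal_of_real_of_odd
    (F.odd.of_dvd_nat (Subgroup.card_subgroup_dvd_card L)) ⟨φ, F.irr φ hφ⟩
    fun g => Complex.conj_eq_iff_im.mp (congrFun h g))
  have h1 := F.setup.toKernelSetup.inner_one hφ
  rw [hp, inner_one_one] at h1
  exact one_ne_zero h1

theorem Family.orth : ∀ φ ∈ T, ∀ ψ ∈ T, [Decidable (φ = ψ)] →
    classInner (ν φ) (ν ψ) = if φ = ψ then 1 else 0 := by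
  intro φ hφ ψ hψ _
  rw [F.setup.nu_inner hφ hψ]
  split_ifs with h
  · subst h; exact F.inner_self hφ
  · exact F.setup.toKernelSetup.inner_eq_zero hφ hψ h

theorem Family.nu_inner_one {φ : L → ℂ} (hφ : φ ∈ T) : classInner (ν φ) (fun _ => 1) = 0 := by
  have h := F.setup.inner_nu_one_eq hφ
  rw [F.setup.inner_nu_zeta_one F.odd, mul_zero, mul_eq_zero] at h
  exact h.resolve_left (Nat.cast_ne_zero.mpr F.index_pos.ne')

theorem Family.conj_nu_zeta : conjFun (ν ζ) = ν (conjFun ζ) := by
  obtain ⟨ψ, ε, hE⟩ := F.setup.exists_exceptional F.odd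
  rw [hE.apply_zeta, hE.apply_conj]
  funext g
  show conj ((ε : ℂ) * (ψ : G → ℂ) g) = _
  rw [map_mul, map_intCast]
  rfl

theorem Family.gen_beta : IsGeneralizedCharacter G (beta F) := F.setup.beta_gen

/-- `β + ν ζ` is real. -/
theorem Family.conj_beta_add : conjFun (beta F + ν ζ) = beta F + ν ζ := by
  have hre : conjFun (indOne (fittingHall L)) = indOne (fittingHall L) := by
    rw [indOne, conjFun_indFun (fittingHall L), show conjFun (fun _ : fittingHall L => (1 : ℂ)) =
      fun _ => 1 from funext fun _ => map_one _]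
  have h1 : conjFun (beta F) + ν (conjFun ζ) = beta F + ν ζ := by
    have h := F.setup.dade_sub_conj
    have h2 : conjFun (beta F) = beta F + dadeIsometry (FT.typeA L) L (supportR L) (ζ - conjFun ζ) := by
      rw [beta, betaFun, conjFun_dadeIsometry, ← dadeIsometry_add]
      congr 1
      funext x
      show conj (indOne (fittingHall L) x - ζ x) = _
      rw [map_sub, show conj (indOne (fittingHall L) x) = indOne (fittingHall L) x from congrFun hre x]
      simp [conjFun]
    rw [h2, h]
    abel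
  refine Eq.trans ?_ h1
  funext g
  show conj (beta F g + ν ζ g) = conj (beta F g) + ν (conjFun ζ) g
  rw [map_add, ← F.conj_nu_zeta]
  rfl

theorem Family.dade_zero {α : L → ℂ} {g : G} (hg : g ∉ kerSet L) :
    dadeIsometry (FT.typeA L) L (supportR L) α g = 0 :=
  dadeIsometry_eq_zero F.setup.dade fun h => hg (F.max.mem_dadeSupp.mp h)

theorem Family.beta_zero {g : G} (hg : g ∉ kerSet L) : beta F g = 0 := F.dade_zero hg

/-- A function vanishing on the conjugates of the kernel is orthogonal to the images. -/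
theorem Family.inner_dade_zero {f : G → ℂ} (hf : ∀ g ∈ kerSet L, f g = 0) (α : L → ℂ) :
    classInner f (dadeIsometry (FT.typeA L) L (supportR L) α) = 0 := by
  rw [Chars.inner_def, Finset.sum_eq_zero, mul_zero]
  intro g _
  by_cases hg : g ∈ kerSet L
  · rw [hf g hg, zero_mul]
  · rw [F.dade_zero hg, map_zero, mul_zero]

theorem Family.inner_beta_zero {f : G → ℂ} (hf : ∀ g ∈ kerSet L, f g = 0) :
    classInner f (beta F) = 0 := F.inner_dade_zero hf _

/-- The coefficients at the members are proportional to the degrees. -/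
theorem Family.coef_eq {f : G → ℂ}
    (hf : ∀ α : L → ℂ, classInner f (dadeIsometry (FT.typeA L) L (supportR L) α) = 0)
    {φ : L → ℂ} (hφ : φ ∈ T) :
    ((fittingHall L).index : ℂ) * classInner f (ν φ) = (charDegree φ : ℂ) * classInner f (ν ζ) := by
  have h := hf (((fittingHall L).index : ℂ) • φ - (charDegree φ : ℂ) • ζ)
  rw [F.setup.dade_comb hφ F.setup.zeta_mem _ _ (by
      rw [F.setup.toKernelSetup.apply_one hφ, F.setup.zeta_deg]; ring),
    Chars.inner_sub_right, Chars.inner_smul_right, Chars.inner_smul_right, map_natCast, map_natCast,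
    sub_eq_zero] at h
  exact h

/-- Bessel over the coherent image: a nonzero coefficient bounds the order of the kernel. -/
theorem Family.card_le {f : G → ℂ} (hgen : IsGeneralizedCharacter G f) {n : ℤ}
    (hn : classInner f f = n)
    (hf : ∀ φ ∈ T, ((fittingHall L).index : ℂ) * classInner f (ν φ) =
      (charDegree φ : ℂ) * classInner f (ν ζ))
    (hc : classInner f (ν ζ) ≠ 0) :
    (Nat.card (fittingHallOf L) : ℤ) - 1 ≤ (fittingHall L).index * n := by
  classical
  obtain ⟨c, hcz⟩ := inner_int hgen (F.setup.nu_gen F.setup.zeta_mem)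
  choose z hz using fun φ : T => inner_int hgen (F.setup.nu_gen φ.2)
  have hb := (bessel (Finset.univ : Finset T) (fun φ => ν φ.1) (fun i _ j _ => by
    rw [F.orth _ i.2 _ j.2]
    by_cases h : i = j
    · rw [if_pos (congrArg Subtype.val h), if_pos h]
    · rw [if_neg (fun e => h (Subtype.ext e)), if_neg h]) f z (fun φ _ => hz φ) hn).1
  set e := (fittingHall L).index with he
  have hcoef : ∀ φ : T, (e : ℤ) * z φ = (charDegree φ.1 : ℤ) * c := by
    intro φ
    have h := hf φ.1 φ.2
    rw [hz φ, hcz] at h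
    exact_mod_cast h
  have hw := sum_weight_apply (fittingHall L) F.setup.coe_eq 1 (fittingHall L).one_mem
  rw [if_pos rfl, ← he, ← (fittingHall L).card_mul_index, ← he, card_fittingHall] at hw
  have hdeg : ∑ φ : T, ((charDegree φ.1 : ℤ)) ^ 2 = (Nat.card (fittingHallOf L) : ℤ) * e - e := by
    apply Int.cast_injective (α := ℂ)
    push_cast
    push_cast at hw
    rw [← hw, ← Finset.sum_coe_sort T]
    refine Finset.sum_congr rfl fun φ _ => ?_
    rw [F.setup.toKernelSetup.apply_one φ.2, F.inner_self φ.2, div_one, sq]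
  have hsum : (e : ℤ) ^ 2 * ∑ φ : T, z φ ^ 2 =
      c ^ 2 * ((Nat.card (fittingHallOf L) : ℤ) * e - e) := by
    rw [← hdeg, Finset.mul_sum, Finset.mul_sum]
    exact Finset.sum_congr rfl fun φ _ => by
      rw [← mul_pow, hcoef φ, mul_pow, mul_comm]
  have hc1 : 1 ≤ c ^ 2 := by
    refine Int.add_one_le_of_lt (pow_two_pos_of_ne_zero fun h0 => hc ?_)
    rw [hcz, h0, Int.cast_zero]
  have hh : (0 : ℤ) ≤ (Nat.card (fittingHallOf L) : ℤ) - 1 := by
    have := Nat.card_pos (α := fittingHallOf L)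
    omega
  have he0 : (0 : ℤ) < e := by exact_mod_cast F.index_pos
  refine le_of_mul_le_mul_left ?_ he0
  nlinarith [mul_le_mul_of_nonneg_left hb (sq_nonneg (e : ℤ)),
    mul_le_mul_of_nonneg_right hc1 (mul_nonneg he0.le hh)]

/-- On the kernel a function orthogonal to the members is the constant `⟨f, β⟩`. -/
theorem Family.apply_kernel {f : G → ℂ} (hf : IsClassFunction G f)
    (horth : ∀ φ ∈ T, classInner f (ν φ) = 0) {z : G} (hz : z ∈ fittingHallOf L) (hz1 : z ≠ 1) :
    f z = classInner f (beta F) := by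
  have hzA : ((⟨z, fittingHallOf_le L hz⟩ : L) : G) ∈ FT.typeA L := F.max.mem_typeA.mpr ⟨hz, hz1⟩
  have h := F.setup.invDade_of_orth hf horth hzA
  rw [invDade_of_mem hzA, F.max.supportR_eq hzA] at h
  simp only [Subgroup.coe_bot, finsum_mem_singleton, mul_one, Subgroup.card_bot, Nat.cast_one,
    inv_one, one_mul] at h
  exact h

/-- The mass of a function orthogonal to the members on the conjugates of the kernel. -/
theorem Family.mass_kerSet {f : G → ℂ} (hgen : IsGeneralizedCharacter G f) (t : ℝ) {m : ℤ}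
    (hm : classInner f (beta F) = m) (horth : ∀ φ ∈ T, classInner f (ν φ) = 0) :
    (Nat.card L : ℝ) * mass f t (kerSet L) =
      (Nat.card G : ℝ) * (((Nat.card (fittingHallOf L) : ℝ) - 1) * ((m : ℝ) ^ 2 + t * m)) := by
  classical
  have hcf := isClassFunction_of_isGeneralized hgen
  rw [mass, kerSet, sum_conjSet L (kerFin L) (fun x hx a ha => ?_) (fun x a ha hxa =>
    F.max.ti x a (mem_kerFin.mp ha).1 (mem_kerFin.mp ha).2 (mem_kerFin.mp hxa).1) _
    fun g x => by rw [hcf g x]]
  · congr 1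
    rw [Finset.sum_congr rfl fun g hg => show ‖f g‖ ^ 2 + t * (f g).re = (m : ℝ) ^ 2 + t * m by
      rw [F.apply_kernel hcf horth (mem_kerFin.mp hg).1 (mem_kerFin.mp hg).2, hm,
        Complex.norm_intCast, sq_abs, Complex.intCast_re],
      Finset.sum_const, nsmul_eq_mul]
    congr 1
    haveI : Fintype (fittingHallOf L) := Fintype.ofFinite _
    rw [show kerFin L = (Finset.univ.filter fun g => g ∈ fittingHallOf L).erase 1 by
      ext g; simp [mem_kerFin, and_comm], Finset.card_erase_of_mem (by simp [one_mem]),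
      ← Fintype.card_subtype, Nat.card_eq_fintype_card, Nat.cast_sub Fintype.card_pos, Nat.cast_one]
  · obtain ⟨h1, h2⟩ := mem_kerFin.mp ha
    exact mem_kerFin.mpr ⟨(mem_normalizer_iff.mp (le_normalizer_fittingHallOf L hx) a).mp h1,
      fun e => h2 (conj_eq_one_iff.mp e)⟩

omit F in
/-- For two families with disjoint supports one of the kernels is bounded. -/
theorem Family.bridge {M : Subgroup G} [Fintype M] {T' : Finset (M → ℂ)} {ν' : (M → ℂ) → G → ℂ}
    {ζ' : M → ℂ} (F : Family L T ν ζ) (F' : Family M T' ν' ζ')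
    (hdisj : Disjoint (dadeSupp (FT.typeA L) (supportR L)) (dadeSupp (FT.typeA M) (supportR M))) :
    (Nat.card (fittingHallOf L) : ℤ) - 1 ≤ (fittingHall L).index * (fittingHall M).index ∨
      (Nat.card (fittingHallOf M) : ℤ) - 1 ≤ (fittingHall L).index * (fittingHall M).index := by
  have key : ∀ {A B : Subgroup G} [Fintype A] [Fintype B] {TA : Finset (A → ℂ)}
      {νA : (A → ℂ) → G → ℂ} {ζA : A → ℂ} {TB : Finset (B → ℂ)} {νB : (B → ℂ) → G → ℂ} {ζB : B → ℂ}
      (FA : Family A TA νA ζA) (FB : Family B TB νB ζB),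
      Disjoint (dadeSupp (FT.typeA A) (supportR A)) (dadeSupp (FT.typeA B) (supportR B)) →
      classInner (betaFun (FT.typeA A) A (supportR A) (fittingHall A) ζA) (νB ζB) ≠ 0 →
      (Nat.card (fittingHallOf B) : ℤ) - 1 ≤ (fittingHall B).index * (fittingHall A).index := by
    intro A B _ _ TA νA ζA TB νB ζB FA FB hd hne
    have hone : ∀ φ ∈ TB, classInner (fun _ => (1 : ℂ)) (νB φ) = 0 := fun φ hφ => by
      rw [← inner_conj, FB.nu_inner_one hφ, map_zero]
    have hval : ∀ φ ∈ TB, classInner (beta FA - fun _ => 1) (νB φ) = classInner (beta FA) (νB φ) :=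
      fun φ hφ => by rw [Chars.inner_sub_left, hone φ hφ, sub_zero]
    refine FB.card_le (f := beta FA - fun _ => 1)
      (isGeneralized_sub FA.gen_beta (mem_genChar.mp (genChar_of_isCharacter isCharacter_one)))
      ?_ ?_ (by rw [hval _ FB.setup.zeta_mem]; exact hne)
    · have h1 : classInner (beta FA) (fun _ => 1) = 1 := FA.setup.inner_beta_one
      rw [Chars.inner_sub_left, Chars.inner_sub_right, Chars.inner_sub_right, h1, inner_one_one,
        show classInner (fun _ => (1 : ℂ)) (beta FA) = 1 by rw [← inner_conj, h1, map_one],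
        show classInner (beta FA) (beta FA) = _ from FA.setup.inner_beta_self]
      push_cast
      ring
    · intro φ hφ
      rw [hval φ hφ, hval ζB FB.setup.zeta_mem]
      exact FB.coef_eq (fun α => FT.inner_dade_disjoint FA.setup.dade FB.setup.dade hd _ α) hφ
  rcases F.setup.nonorth F'.setup F.odd hdisj with h | h
  · exact Or.inr (mul_comm ((fittingHall M).index : ℤ) _ ▸ key F F' hdisj h)
  · exact Or.inl (key F' F hdisj.symm h)

end CfsgLib.FT.Route
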