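import Cfsg.Agent.Lib.FT.Route.FrobChars
import Cfsg.Agent.Lib.FT.StepA.Generic

/-!
# The grid and the coherent family of a Frobenius maximal subgroup

The images of the members are orthogonal to the grid, and the coefficients `⟨η a 1, β⟩`, `⟨η 1 b, β⟩`
are `0` or `1`, never both `1`.
-/

set_option autoImplicit false
set_option linter.style.haveILetI false
set_option linter.unusedSectionVars false

namespace CfsgLib.FT.Route

open _root_.Subgroup Cfsg CfsgLib.OddOrder CfsgLib.FT.PF13 CfsgLib.Chars CfsgLib.CharsMore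
  CfsgLib.Techniques
open scoped ComplexConjugate

universe u

variable {G : Type u} [Group G] [Fintype G]

theorem inner_conjFun (f g : G → ℂ) :
    classInner (conjFun f) (conjFun g) = conj (classInner f g) := by
  simp only [Chars.inner_def, conjFun, map_mul, map_inv₀, map_natCast, map_sum]

/-- Two real generalised characters, one orthogonal to `1`, have an even inner product. -/
theorem even_inner_of_real (hodd : Odd (Nat.card G)) {D R : G → ℂ}
    (hD : IsGeneralizedCharacter G D) (hR : IsGeneralizedCharacter G R) (hDr : conjFun D = D)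
    (hRr : conjFun R = R) (hR1 : classInner R (fun _ => 1) = 0) :
    ∃ k : ℤ, classInner D R = ((2 * k : ℤ) : ℂ) := by
  classical
  haveI := irrFintype G
  choose m hm using (isGeneralized_iff_inner.mp hD).2
  choose k hk using (isGeneralized_iff_inner.mp hR).2
  have hsum : classInner D R = ((∑ χ : IrrCharacter G, m χ * k χ : ℤ) : ℂ) := by
    rw [inner_eq_sum (isClassFunction_of_isGeneralized hD)]
    push_cast
    exact Finset.sum_congr rfl fun χ _ => by rw [hm, hk, map_intCast]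
  have hsym : ∀ {θ : G → ℂ} {z : IrrCharacter G → ℤ}, conjFun θ = θ →
      (∀ χ : IrrCharacter G, classInner θ (χ : G → ℂ) = (z χ : ℂ)) →
      ∀ χ : IrrCharacter G, z (conjIrr χ) = z χ := by
    intro θ z hr hz χ
    have h := inner_conjFun θ (χ : G → ℂ)
    rw [hr, hz, show conjFun (χ : G → ℂ) = (conjIrr χ : G → ℂ) from rfl, hz, map_intCast] at h
    exact_mod_cast h
  have hp : k (principal G) = 0 := by
    have h := hk (principal G)
    rw [show ((principal G : IrrCharacter G) : G → ℂ) = fun _ => 1 from rfl, hR1] at h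
    exact_mod_cast h.symm
  have h2 : ((∑ χ : IrrCharacter G, m χ * k χ : ℤ) : ZMod 2) = 0 := by
    push_cast
    rw [← Finset.add_sum_erase _ _ (Finset.mem_univ (principal G)), hp, Int.cast_zero, mul_zero,
      zero_add]
    refine Finset.sum_involution (fun χ _ => conjIrr χ) (fun χ _ => ?_) (fun χ hχ _ => ?_)
      (fun χ hχ => ?_) (fun χ _ => conjIrr_conjIrr χ)
    · rw [hsym hDr hm, hsym hRr hk]
      exact (by decide : ∀ a : ZMod 2, a + a = 0) _
    · intro h
      exact (Finset.ne_of_mem_erase hχ)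
        (eq_principal_of_real_of_odd hodd χ ((conjIrr_eq_iff χ).mp h))
    · refine Finset.mem_erase.mpr ⟨fun h => Finset.ne_of_mem_erase hχ ?_, Finset.mem_univ _⟩
      rw [← conjIrr_conjIrr χ, h, conjIrr_principal]
  obtain ⟨j, hj⟩ := (ZMod.intCast_zmod_eq_zero_iff_dvd _ 2).mp h2
  exact ⟨j, by rw [hsum]; exact congrArg Int.cast hj⟩

variable {W₁ W₂ : Subgroup G}

theorem hom_pow_pred {X : Subgroup G} (a : X →* ℂˣ) : a ^ (Nat.card G - 1) = a⁻¹ := by
  refine MonoidHom.ext fun x => ?_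
  show a x ^ (Nat.card G - 1) = (a x)⁻¹
  refine eq_inv_of_mul_eq_one_left ?_
  rw [← pow_succ, Nat.sub_add_cancel (Nat.card_pos (α := G)), ← map_pow,
    show x ^ Nat.card G = 1 from Subtype.ext (by simp [pow_card_eq_one']), map_one]

/-- Complex conjugation inverts the indices of the grid. -/
theorem conj_eta {η : (W₁ →* ℂˣ) → (W₂ →* ℂˣ) → G → ℂ} (hη : Grid W₁ W₂ η) (a : W₁ →* ℂˣ)
    (b : W₂ →* ℂˣ) : conjFun (η a b) = η a⁻¹ b⁻¹ := by
  funext g
  have hk : (Nat.card G - 1).Coprime (Nat.card G) := by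
    conv => arg 2; rw [show Nat.card G = Nat.card G - 1 + 1 by
      have := Nat.card_pos (α := G); omega]
    simp
  have hσ : ∀ z : ℂ, z ^ Nat.card G = 1 → Complex.conjAe.toRingEquiv z = z ^ (Nat.card G - 1) := by
    intro z hz
    show conj z = _
    have hn : ‖z‖ = 1 := Complex.norm_eq_one_of_pow_eq_one hz Nat.card_pos.ne'
    rw [← Complex.inv_eq_conj hn]
    refine (eq_inv_of_mul_eq_one_left ?_).symm
    rw [← pow_succ, Nat.sub_add_cancel Nat.card_pos, hz]
  show conj (η a b g) = _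
  rw [← hom_pow_pred a, ← hom_pow_pred b]
  exact hη.galois _ Complex.conjAe.toRingEquiv hk hσ a b g

theorem regSet_symm (hcomm : ∀ a ∈ W₁, ∀ b ∈ W₂, a * b = b * a) :
    regSet W₂ W₁ = regSet W₁ W₂ := by
  refine congrArg conjSet ?_
  ext g
  rw [mem_regFin, mem_regFin]
  constructor
  · rintro ⟨y, hy, hy1, x, hx, hx1, rfl⟩
    exact ⟨x, hx, hx1, y, hy, hy1, (hcomm x hx y hy).symm⟩
  · rintro ⟨x, hx, hx1, y, hy, hy1, rfl⟩
    exact ⟨y, hy, hy1, x, hx, hx1, hcomm x hx y hy⟩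

variable {S : Subgroup G}

theorem pow_eq_one_of_mem_kerSet {L : Subgroup G} {g : G} (hg : g ∈ kerSet L) :
    g ^ Nat.card (fittingHallOf L) = 1 := by
  obtain ⟨x, hx⟩ := mem_conjSet.mp hg
  have h : (x * g * x⁻¹) ^ Nat.card (fittingHallOf L) = 1 :=
    congrArg Subtype.val (pow_card_eq_one' (x := (⟨_, (mem_kerFin.mp hx).1⟩ : fittingHallOf L)))
  rwa [conj_pow, conj_eq_one_iff] at h

theorem disjoint_ker_regSet (D : Side S W₁ W₂) [Fintype S] {L : Subgroup G}
    (hq : ¬ D.loc.q ∣ Nat.card (fittingHallOf L)) : Disjoint (kerSet L) (regSet W₁ W₂) := by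
  rw [Finset.disjoint_left]
  intro g hg hR
  obtain ⟨k, hk⟩ := mem_conjSet.mp hR
  obtain ⟨x, hx, hx1, y, hy, -, e⟩ := mem_regFin.mp hk
  refine D.loc.reg_pow_ne (D.mem_W₁_loc hx (D.W₁_le hx)) (fun h => hx1 (congrArg Subtype.val h))
    (D.mem_W₂_loc hy (D.W₂_le hy)) (D.loc.prime_q.coprime_iff_not_dvd.mpr hq) (Subtype.ext ?_)
  show (x * y) ^ _ = (1 : G)
  rw [← e, conj_pow, pow_eq_one_of_mem_kerSet hg, mul_one, mul_inv_cancel]

theorem disjoint_ker_HG (D : Side S W₁ W₂) [Fintype S] (hC : D.loc.C = ⊥) {L : Subgroup G}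
    (hp : ¬ D.loc.p ∣ Nat.card (fittingHallOf L)) : Disjoint (kerSet L) (conjSet D.HG) := by
  rw [Finset.disjoint_left]
  intro g hg hH
  have h1 := orderOf_dvd_of_pow_eq_one (D.pow_card_H_eq_one hH)
  rw [D.loc.card_H, hC, Subgroup.card_bot, mul_one] at h1
  have h2 := orderOf_dvd_of_pow_eq_one (pow_eq_one_of_mem_kerSet hg)
  have h3 := Nat.eq_one_of_dvd_coprimes
    ((D.loc.prime_p.coprime_iff_not_dvd.mpr hp).pow_left D.loc.q) h1 h2
  obtain ⟨x, hx⟩ := mem_conjSet.mp hg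
  refine (mem_kerFin.mp hx).2 ?_
  rw [orderOf_eq_one_iff.mp h3, mul_one, mul_inv_cancel]

/-- The hypotheses on the kernel used with a side. -/
structure Apart (D : Side S W₁ W₂) (L : Subgroup G) : Prop where
  C_bot : D.loc.C = ⊥
  not_p : ¬ D.loc.p ∣ Nat.card (fittingHallOf L)
  not_q : ¬ D.loc.q ∣ Nat.card (fittingHallOf L)

theorem Apart.dade_regular {D : Side S W₁ W₂} {L : Subgroup G} (h : Apart D L) [Fintype S]
    {x y : G} (hx : x ∈ W₁) (hy : y ∈ W₂) (hx1 : x ≠ 1) (hy1 : y ≠ 1) : x * y ∉ kerSet L := fun hk =>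
  Finset.disjoint_left.mp (disjoint_ker_regSet D h.not_q) hk
    (self_mem_conjSet (mem_regFin.mpr ⟨x, hx, hx1, y, hy, hy1, rfl⟩))

variable {L : Subgroup G} [Fintype L] {Ts : Finset (L → ℂ)} {ν : (L → ℂ) → G → ℂ} {ζ : L → ℂ}
  (F : Family L Ts ν ζ) {η : (W₁ →* ℂˣ) → (W₂ →* ℂˣ) → G → ℂ}

include F in
/-- The images of the members are orthogonal to the grid. -/
theorem Family.inner_grid (D : Side S W₁ W₂) [Fintype S] (hD : Apart D L) (hη : Grid W₁ W₂ η)
    {φ : L → ℂ} (hφ : φ ∈ Ts) (a : W₁ →* ℂˣ) (b : W₂ →* ℂˣ) : classInner (ν φ) (η a b) = 0 := by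
  classical
  haveI : Fintype (W₁ →* ℂˣ) := Fintype.ofFinite _
  haveI : Fintype (W₂ →* ℂˣ) := Fintype.ofFinite _
  have hc := F.conj_mem hφ
  have hd := F.setup.dade_comb hφ hc 1 1 (by
    rw [show conjFun φ 1 = conj (φ 1) from rfl, F.setup.toKernelSetup.apply_one hφ, map_natCast])
  simp only [Nat.cast_one, one_smul] at hd
  have hzero := StepA.grid_zero_of_norm_two hη
    (by rw [D.card_hom_W₁]; exact D.loc.two_lt_q) (by rw [D.card_hom_W₂]; exact D.loc.two_lt_p)
    (isGeneralized_sub (F.setup.nu_gen hφ) (F.setup.nu_gen hc))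
    (fun x y hx hy hx1 hy1 => by
      rw [← hd]; exact F.dade_zero (hD.dade_regular hx hy hx1 hy1))
    (by rw [Chars.inner_sub_left, F.nu_inner_one hφ, F.nu_inner_one hc, sub_zero])
    (by
      rw [Chars.inner_sub_left, Chars.inner_sub_right, Chars.inner_sub_right, F.orth _ hφ _ hφ,
        F.orth _ hφ _ hc, F.orth _ hc _ hφ, F.orth _ hc _ hc, if_pos rfl, if_pos rfl,
        if_neg (F.conj_ne hφ).symm, if_neg (F.conj_ne hφ)]
      norm_num) a b
  rw [Chars.inner_sub_left, sub_eq_zero] at hzero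
  obtain ⟨c, hc'⟩ := inner_int (F.setup.nu_gen hφ) (hη.gen a b)
  have hb := (bessel ({φ, conjFun φ} : Finset (L → ℂ)) ν (fun i hi j hj => F.orth i
      (by rcases Finset.mem_insert.mp hi with rfl | hi
          · exact hφ
          · rwa [Finset.mem_singleton.mp hi]) j
      (by rcases Finset.mem_insert.mp hj with rfl | hj
          · exact hφ
          · rwa [Finset.mem_singleton.mp hj]))
    (η a b) (fun _ => c) (fun i hi => ?_) (n := 1)
    (by rw [hη.orth, if_pos ⟨rfl, rfl⟩, Int.cast_one])).1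
  · rw [Finset.sum_pair (F.conj_ne hφ).symm] at hb
    have h0 : c = 0 := by
      by_contra h
      nlinarith [Int.add_one_le_of_lt (pow_two_pos_of_ne_zero h)]
    rw [hc', h0, Int.cast_zero]
  · rcases Finset.mem_insert.mp hi with rfl | hi
    · rw [← inner_conj, hc', map_intCast]
    · rw [Finset.mem_singleton.mp hi, ← inner_conj, ← hzero, hc', map_intCast]

include F in
theorem Family.inner_grid' (D : Side S W₁ W₂) [Fintype S] (hD : Apart D L) (hη : Grid W₁ W₂ η)
    {φ : L → ℂ} (hφ : φ ∈ Ts) (a : W₁ →* ℂˣ) (b : W₂ →* ℂˣ) : classInner (η a b) (ν φ) = 0 := by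
  rw [← inner_conj, F.inner_grid D hD hη hφ a b, map_zero]

/-- The regular mass of `η 1 b` at `t = -1`. -/
theorem mass_regSet_single (hW : IsSelfNormalizingCyclic W₁ W₂) (hη : Grid W₁ W₂ η)
    {b : W₂ →* ℂˣ} (hb : b ≠ 1) :
    ((Nat.card W₁ * Nat.card W₂ : ℕ) : ℝ) * mass (η 1 b) (-1) (regSet W₁ W₂) =
      (Nat.card G : ℝ) * (((Nat.card W₁ : ℝ) - 1) * Nat.card W₂) := by
  classical
  haveI : Fintype W₁ := Fintype.ofFinite _
  haveI : Fintype W₂ := Fintype.ofFinite _
  rw [mass_regSet hW (hη.gen 1 b)]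
  congr 1
  have key : ∀ x ∈ (Finset.univ : Finset W₁).erase 1, ∀ y ∈ (Finset.univ : Finset W₂).erase 1,
      ‖η 1 b ((x : G) * (y : G))‖ ^ 2 + (-1 : ℝ) * (η 1 b ((x : G) * (y : G))).re =
        1 - (b y : ℂ).re := by
    intro x hx y hy
    rw [hη.eq_on 1 b _ _ x.2 y.2 (fun e => Finset.ne_of_mem_erase hx (Subtype.ext e))
      (fun e => Finset.ne_of_mem_erase hy (Subtype.ext e)), MonoidHom.one_apply, Units.val_one,
      one_mul, Complex.norm_eq_one_of_pow_eq_one (n := Nat.card W₂) ?_ Nat.card_pos.ne']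
    · ring
    · rw [← Units.val_pow_eq_pow_val, ← map_pow, pow_card_eq_one', map_one, Units.val_one]
  rw [Finset.sum_congr rfl fun x hx => Finset.sum_congr rfl fun y hy => key x hx y hy]
  simp only [Finset.sum_const, nsmul_eq_mul, Finset.sum_sub_distrib, mul_one, ← Complex.re_sum,
    sum_erase_hom hb, card_erase_one, Complex.neg_re, Complex.one_re]
  ring

theorem quad_ge_two {m : ℤ} (h0 : m ≠ 0) (h1 : m ≠ 1) : 2 ≤ m ^ 2 - m := by
  rcases le_or_gt m 0 with h | h
  · nlinarith [show m ≤ -1 by omega]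
  · nlinarith [show 2 ≤ m by omega]

include F in
theorem Family.card_L : (Nat.card L : ℝ) =
    (Nat.card (fittingHallOf L) : ℝ) * (fittingHall L).index := by
  rw [← card_fittingHall, ← Nat.cast_mul, (fittingHall L).card_mul_index]

include F in
/-- `⟨η 1 b, β⟩ ∈ {0, 1}`. -/
theorem Family.coef_col (D : Side S W₁ W₂) [Fintype S] (hD : Apart D L) (hη : Grid W₁ W₂ η)
    (hu : 8 ≤ D.loc.u) (hm : D.loc.u * (D.loc.p - 1) + 1 = Nat.card D.loc.H)
    (he : (fittingHall L).index ≤ D.loc.p * D.loc.q) (hh : 7 ≤ Nat.card (fittingHallOf L))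
    {b : W₂ →* ℂˣ} (hb : b ≠ 1) :
    classInner (η 1 b) (beta F) = 0 ∨ classInner (η 1 b) (beta F) = 1 := by
  classical
  haveI : Fintype (W₂ →* ℂˣ) := Fintype.ofFinite _
  haveI : Fintype (W₁ →* ℂˣ) := Fintype.ofFinite _
  obtain ⟨m, hmd⟩ := inner_int (hη.gen 1 b) F.gen_beta
  by_contra hcon
  push Not at hcon
  have hm2 : (2 : ℝ) ≤ (m : ℝ) ^ 2 + (-1 : ℝ) * m := by
    have h := quad_ge_two (m := m) (fun e => hcon.1 (by rw [hmd, e, Int.cast_zero]))
      (fun e => hcon.2 (by rw [hmd, e, Int.cast_one]))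
    have h' : ((2 : ℤ) : ℝ) ≤ ((m ^ 2 - m : ℤ) : ℝ) := by exact_mod_cast h
    push_cast at h'
    linarith
  obtain ⟨b', hb'⟩ : ∃ b', b' ∈ ((Finset.univ : Finset (W₂ →* ℂˣ)).erase 1).erase b := by
    refine Finset.card_pos.mp ?_
    rw [Finset.card_erase_of_mem (Finset.mem_erase.mpr ⟨hb, Finset.mem_univ _⟩),
      Finset.card_erase_of_mem (Finset.mem_univ _), Finset.card_univ, D.card_hom_W₂]
    have := D.loc.two_lt_p
    omega
  have hb'1 : b' ≠ 1 := Finset.ne_of_mem_erase (Finset.mem_of_mem_erase hb')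
  have hne : b ≠ b' := (Finset.ne_of_mem_erase hb').symm
  have hS := side_mass_of D (hη.gen 1 b) hb hb'1 hne (by
    rw [Side.dz, D.ind_zeta_sub hη hb hb'1 hne, inner_sum_left,
      Finset.sum_eq_single 1 (fun a _ ha => by
        rw [Chars.inner_sub_left, hη.orth, hη.orth, if_neg fun e => ha e.1, if_neg fun e => ha e.1,
          sub_self]) (by simp),
      Chars.inner_sub_left, hη.orth, hη.orth, if_pos ⟨rfl, rfl⟩, if_neg fun e => hne e.2.symm,
      sub_zero])
  have hL := F.mass_kerSet (hη.gen 1 b) (-1) hmd fun φ hφ => F.inner_grid' D hD hη hφ 1 b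
  have hW := mass_regSet_single D.selfNorm hη hb
  have htot := mass_le_total (t := -1) (hη.gen 1 b) (by norm_num)
    (((closed_HG D).union (kerSet_closed L)).union (regSet_closed D.selfNorm.2.2.2.1))
  rw [show mass (η 1 b) (-1) (conjSet D.HG ∪ kerSet L ∪ regSet W₁ W₂) =
      mass (η 1 b) (-1) (conjSet D.HG) + mass (η 1 b) (-1) (kerSet L) +
        mass (η 1 b) (-1) (regSet W₁ W₂) by
    rw [mass, Finset.sum_union (Finset.disjoint_union_left.mpr
      ⟨disjoint_regSet D, disjoint_ker_regSet D hD.not_q⟩),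
      Finset.sum_union (disjoint_ker_HG D hD.C_bot hD.not_p).symm]
    rfl, ← hη.map_one, hη.orth, hη.orth, if_pos ⟨rfl, rfl⟩, if_neg fun e => hb e.2, mul_zero,
    add_zero, Complex.one_re, mul_one] at htot
  rw [D.loc.card_L'] at hS
  rw [F.card_L] at hL
  rw [D.card_W₁, D.card_W₂] at hW
  push_cast at hS hW
  -- masses to one inequality
  set MS := mass (η 1 b) (-1) (conjSet D.HG)
  set ML := mass (η 1 b) (-1) (kerSet L)
  set MW := mass (η 1 b) (-1) (regSet W₁ W₂)
  set N : ℝ := (Nat.card G : ℝ)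
  set P : ℝ := (Nat.card D.loc.H : ℝ)
  set u : ℝ := (D.loc.u : ℝ)
  set q : ℝ := (D.loc.q : ℝ)
  set p : ℝ := (D.loc.p : ℝ)
  set h : ℝ := (Nat.card (fittingHallOf L) : ℝ)
  set e : ℝ := ((fittingHall L).index : ℝ)
  have hN : (0 : ℝ) < N := Nat.cast_pos.mpr Nat.card_pos
  have hq3 : (3 : ℝ) ≤ q := Nat.ofNat_le_cast.mpr D.loc.two_lt_q
  have hp3 : (3 : ℝ) ≤ p := Nat.ofNat_le_cast.mpr D.loc.two_lt_p
  have hu8 : (8 : ℝ) ≤ u := Nat.ofNat_le_cast.mpr hu
  have hh7 : (7 : ℝ) ≤ h := Nat.ofNat_le_cast.mpr hh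
  have he' : e ≤ p * q := by
    have := Nat.cast_le (α := ℝ).mpr he
    rwa [Nat.cast_mul] at this
  have he0 : (0 : ℝ) < e := Nat.cast_pos.mpr F.index_pos
  have hP : u * (p - 1) + 1 = P := by
    have := congrArg (Nat.cast : ℕ → ℝ) hm
    push_cast [Nat.cast_sub (le_trans (by norm_num) D.loc.two_lt_p : 1 ≤ D.loc.p)] at this
    exact this
  have hP0 : 0 < P := by rw [← hP]; nlinarith
  have h1 : 4 * (P * u * q) * MS + 4 * (P * u * q) * ML + 4 * (P * u * q) * MW ≤
      4 * (P * u * q) * N := by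
    have := mul_le_mul_of_nonneg_left htot (show (0 : ℝ) ≤ 4 * (P * u * q) by positivity)
    linarith
  have h2 : 4 * (P * u * q) * MW = 4 * P * u * (N * (q - 1)) := by
    have : q * MW = N * (q - 1) := by
      refine mul_left_cancel₀ (show p ≠ 0 by linarith) ?_
      linarith
    linear_combination (4 * P * u) * this
  have h3 : N * (4 * P * u - (2 * u + 1) ^ 2) ≤ 4 * (P * u * q) * MS := by linarith
  have h4 : 4 * (P * u * q) * ML ≤ N * (2 * u + 1) ^ 2 := by linarith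
  have h5 : 4 * (P * u * q) * ((h - 1) * ((m : ℝ) ^ 2 + (-1 : ℝ) * m)) ≤ h * e * (2 * u + 1) ^ 2 := by
    refine le_of_mul_le_mul_left ?_ hN
    have := mul_le_mul_of_nonneg_left h4 (show (0 : ℝ) ≤ h * e by positivity)
    calc N * (4 * (P * u * q) * ((h - 1) * ((m : ℝ) ^ 2 + (-1 : ℝ) * m)))
        = 4 * (P * u * q) * (h * e * ML) := by rw [hL]; ring
      _ ≤ N * (h * e * (2 * u + 1) ^ 2) := by linarith
  have h6 : 8 * (P * u * q) * (h - 1) ≤ h * (p * q) * (2 * u + 1) ^ 2 := by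
    have a1 := mul_le_mul_of_nonneg_left (mul_le_mul_of_nonneg_left hm2 (show (0 : ℝ) ≤ h - 1 by linarith))
      (show (0 : ℝ) ≤ 4 * (P * u * q) by positivity)
    have a2 := mul_le_mul_of_nonneg_right (mul_le_mul_of_nonneg_left he' (show (0 : ℝ) ≤ h by linarith))
      (sq_nonneg (2 * u + 1))
    linarith
  have h7 : 8 * (P * u) * (h - 1) ≤ h * p * (2 * u + 1) ^ 2 :=
    le_of_mul_le_mul_left (by linarith) (show (0 : ℝ) < q by linarith)
  have h8 : 8 * (u * (p - 1) * u) * (h - 1) ≤ 8 * (P * u) * (h - 1) := by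
    refine mul_le_mul_of_nonneg_right (mul_le_mul_of_nonneg_left
      (mul_le_mul_of_nonneg_right (by linarith) (by linarith)) (by norm_num)) (by linarith)
  have h9 : 32 * (u * u) * (p * h) ≤ 8 * (u * (p - 1) * u) * (h - 1) * 7 := by
    have b1 : 4 * (p * h) ≤ 7 * ((p - 1) * (h - 1)) := by nlinarith
    have := mul_le_mul_of_nonneg_left b1 (show (0 : ℝ) ≤ 8 * (u * u) by positivity)
    linarith
  have h10 : 32 * (u * u) ≤ 7 * (2 * u + 1) ^ 2 :=
    le_of_mul_le_mul_right (by linarith) (show (0 : ℝ) < p * h by positivity)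
  nlinarith

include F in
/-- `⟨η a 1, β⟩` and `⟨η 1 b, β⟩` are not both `1`. -/
theorem Family.coef_not_both {T : Subgroup G} [Fintype T] (D : Side S W₁ W₂) [Fintype S]
    (E : Side T W₂ W₁) (hD : Apart D L) (hE : Apart E L) (hη : Grid W₁ W₂ η)
    (hu : 7 ≤ D.loc.u) (hv : 7 ≤ E.loc.u) (hm : D.loc.u * (D.loc.p - 1) + 1 = Nat.card D.loc.H)
    (hm' : E.loc.u * (E.loc.p - 1) + 1 = Nat.card E.loc.H)
    (he : (fittingHall L).index ≤ D.loc.p * D.loc.q) (hh : 7 ≤ Nat.card (fittingHallOf L))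
    {a : W₁ →* ℂˣ} {b : W₂ →* ℂˣ} (ha : a ≠ 1) (hb : b ≠ 1)
    (hma : classInner (η a 1) (beta F) = 1) (hnb : classInner (η 1 b) (beta F) = 1) : False := by
  classical
  have hη' := hη.swap D.selfNorm.2.2.2.1
  have hEp : E.loc.p = D.loc.q := by rw [← E.card_W₂, D.card_W₁]
  have hEq : E.loc.q = D.loc.p := by rw [← E.card_W₁, D.card_W₂]
  have hS := side_mass D hη a hb
  have hT := side_mass E hη' b ha
  rw [add_comm (η 1 b) (η a 1)] at hT
  have hL := F.mass_kerSet (f := η a 1 + η 1 b) (gen_pair hη a b) (-1) (m := 2)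
    (by rw [Chars.inner_add_left, hma, hnb]; norm_num)
    (fun φ hφ => by
      rw [Chars.inner_add_left, F.inner_grid' D hD hη hφ, F.inner_grid' D hD hη hφ, add_zero])
  have hTW : Disjoint (conjSet E.HG) (regSet W₁ W₂) := by
    have h := disjoint_regSet E
    rwa [regSet_symm D.selfNorm.2.2.2.1] at h
  have hpair := pair_ineq D.selfNorm hη ha hb ((closed_HG D).union (kerSet_closed L)) (closed_HG E)
    (Finset.disjoint_union_left.mpr ⟨D.disjoint_HG E, disjoint_ker_HG E hE.C_bot hE.not_p⟩)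
    (Finset.disjoint_union_left.mpr ⟨disjoint_regSet D, disjoint_ker_regSet D hD.not_q⟩) hTW
  rw [show mass (η a 1 + η 1 b) (-1) (conjSet D.HG ∪ kerSet L) =
      mass (η a 1 + η 1 b) (-1) (conjSet D.HG) + mass (η a 1 + η 1 b) (-1) (kerSet L) by
    rw [mass, Finset.sum_union (disjoint_ker_HG D hD.C_bot hD.not_p).symm]; rfl] at hpair
  rw [D.loc.card_L'] at hS
  rw [E.loc.card_L', hEq] at hT
  rw [F.card_L] at hL
  rw [D.card_W₁, D.card_W₂] at hpair
  push_cast at hS hT hpair hL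
  set MS := mass (η a 1 + η 1 b) (-1) (conjSet D.HG)
  set MT := mass (η a 1 + η 1 b) (-1) (conjSet E.HG)
  set ML := mass (η a 1 + η 1 b) (-1) (kerSet L)
  set N : ℝ := (Nat.card G : ℝ)
  set P : ℝ := (Nat.card D.loc.H : ℝ)
  set M : ℝ := (Nat.card E.loc.H : ℝ)
  set u : ℝ := (D.loc.u : ℝ)
  set v : ℝ := (E.loc.u : ℝ)
  set q : ℝ := (D.loc.q : ℝ)
  set p : ℝ := (D.loc.p : ℝ)
  set h : ℝ := (Nat.card (fittingHallOf L) : ℝ)
  set e : ℝ := ((fittingHall L).index : ℝ)
  have hN : (0 : ℝ) < N := Nat.cast_pos.mpr Nat.card_pos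
  have hq3 : (3 : ℝ) ≤ q := Nat.ofNat_le_cast.mpr D.loc.two_lt_q
  have hp3 : (3 : ℝ) ≤ p := Nat.ofNat_le_cast.mpr D.loc.two_lt_p
  have hu7 : (7 : ℝ) ≤ u := Nat.ofNat_le_cast.mpr hu
  have hv7 : (7 : ℝ) ≤ v := Nat.ofNat_le_cast.mpr hv
  have hh7 : (7 : ℝ) ≤ h := Nat.ofNat_le_cast.mpr hh
  have he' : e ≤ p * q := by
    have := Nat.cast_le (α := ℝ).mpr he
    rwa [Nat.cast_mul] at this
  have he0 : (0 : ℝ) < e := Nat.cast_pos.mpr F.index_pos
  have hP : u * (p - 1) + 1 = P := by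
    have := congrArg (Nat.cast : ℕ → ℝ) hm
    push_cast [Nat.cast_sub (le_trans (by norm_num) D.loc.two_lt_p : 1 ≤ D.loc.p)] at this
    exact this
  have hM : v * (q - 1) + 1 = M := by
    have := congrArg (Nat.cast : ℕ → ℝ) hm'
    rw [hEp] at this
    push_cast [Nat.cast_sub (le_trans (by norm_num) D.loc.two_lt_q : 1 ≤ D.loc.q)] at this
    exact this
  have hP0 : 0 < P := by rw [← hP]; nlinarith
  have hM0 : 0 < M := by rw [← hM]; nlinarith
  -- the three regions
  have r3 : 12 * N ≤ 7 * (p * q * ML) := by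
    have a0 : h * e * ML = N * ((h - 1) * 2) := by linarith
    have a1 : 6 * (h * e) ≤ 7 * ((h - 1) * (p * q)) := by
      have := mul_le_mul_of_nonneg_left he' (show (0 : ℝ) ≤ h by linarith)
      nlinarith
    refine le_of_mul_le_mul_left ?_ (show (0 : ℝ) < h * e by positivity)
    calc h * e * (12 * N) = 2 * N * (6 * (h * e)) := by ring
      _ ≤ 2 * N * (7 * ((h - 1) * (p * q))) := mul_le_mul_of_nonneg_left a1 (by linarith)
      _ = 7 * (p * q) * (h * e * ML) := by rw [a0]; ring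
      _ = h * e * (7 * (p * q * ML)) := by ring
  have side : ∀ {P u p q MS : ℝ}, 3 ≤ p → 7 ≤ u → 0 < P → u * (p - 1) + 1 = P →
      N * (4 * P * u - (2 * u + 1) ^ 2) ≤ 4 * (P * u * q * MS) →
      N * (p - 7 / 4) ≤ p * q * MS := by
    intro P u p q MS hp hu hP0 hP hS
    have b1 : p * (2 * u + 1) ^ 2 ≤ 7 / 4 * (4 * P * u) := by
      rw [← hP]
      nlinarith
    refine le_of_mul_le_mul_left ?_ (show (0 : ℝ) < 4 * P * u by positivity)
    have b2 := mul_le_mul_of_nonneg_left b1 hN.le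
    have b3 := mul_le_mul_of_nonneg_left hS (show (0 : ℝ) ≤ p by linarith)
    linarith
  have r1 := side (q := q) (MS := MS) hp3 hu7 hP0 hP (by linarith)
  have r2 := side (q := p) (MS := MT) hq3 hv7 hM0 hM (by linarith)
  linarith

end CfsgLib.FT.Route
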