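import Cfsg.Agent.Lib.FT.PF13.Grid
import Cfsg.Agent.Lib.FT.PF13.Tools
import Cfsg.Agent.Lib.CharsMore.CyclicTI
import Cfsg.Agent.Lib.CharsMore.CoherenceBasic
import Cfsg.Agent.Lib.Coprime.Basic

/-!
# The endgame inequalities: masses of generalised characters

`mass f t E = ∑_{g ∈ E} (|f g| ^ 2 + t Re (f g))` is nonnegative on every set closed under powers
prime to `|G|` when `|t| ≤ 1`, so the masses of disjoint regions add up to at most the total.  The
lattice lemma bounds the mass of a region from below and the regular elements of `W₁ W₂` are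
evaluated exactly.
-/

set_option autoImplicit false
set_option linter.style.haveILetI false
set_option linter.unusedSectionVars false

namespace CfsgLib.FT.Route

open _root_.Subgroup Cfsg CfsgLib.Chars CfsgLib.CharsMore CfsgLib.FT.PF13
open scoped ComplexConjugate

universe u

/-- Lattice lemma: an integer vector with `n i₀ = 0` and different constant values on two blocks of
size `u` avoiding `i₀`. -/
theorem lattice {ι : Type*} [Fintype ι] (n : ι → ℤ) (i₀ : ι) (h0 : n i₀ = 0) (A B : Finset ι)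
    (hAB : Disjoint A B) (hA0 : i₀ ∉ A) (hB0 : i₀ ∉ B) {u : ℕ} (hAc : A.card = u) (hBc : B.card = u)
    {s t : ℤ} (hA : ∀ i ∈ A, n i = s) (hB : ∀ i ∈ B, n i = t) (hst : s ≠ t) :
    4 * (Fintype.card ι : ℤ) * u - (2 * u + 1) ^ 2 ≤
      4 * ((Fintype.card ι : ℤ) * ∑ i, n i ^ 2 - (∑ i, n i) ^ 2 + ∑ i, n i) := by
  classical
  have hM : (0 : ℝ) < Fintype.card ι := Nat.cast_pos.mpr (Fintype.card_pos_iff.mpr ⟨i₀⟩)
  obtain ⟨x, hx⟩ : ∃ x : ℝ, x = ((∑ i, n i : ℤ) : ℝ) / Fintype.card ι := ⟨_, rfl⟩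
  obtain ⟨j, hj⟩ : ∃ j : ℤ, j = round x := ⟨_, rfl⟩
  obtain ⟨e, he⟩ : ∃ e : ℝ, e = |x - j| := ⟨_, rfl⟩
  have he2 : e ≤ 1 / 2 := by rw [he, hj]; exact abs_sub_round x
  have he0 : 0 ≤ e := he ▸ abs_nonneg _
  have hterm : ∀ i, e ^ 2 ≤ ((n i : ℝ) - x) ^ 2 := by
    intro i
    refine sq_le_sq.mpr ?_
    rw [abs_of_nonneg he0, abs_sub_comm (n i : ℝ) x, he, hj]
    exact round_le x (n i)
  have hfar : ∀ i, n i ≠ j → (1 - e) ^ 2 ≤ ((n i : ℝ) - x) ^ 2 := by
    intro i hi
    refine sq_le_sq.mpr ?_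
    have h1 : (1 : ℝ) ≤ |(n i : ℝ) - j| := by exact_mod_cast Int.one_le_abs (sub_ne_zero.mpr hi)
    have h2 := abs_sub_le (n i : ℝ) x j
    rw [abs_of_nonneg (by linarith : (0 : ℝ) ≤ 1 - e)]
    rw [← he] at h2
    linarith
  have hzero : e ^ 2 - e ≤ x ^ 2 + x := by
    have hneg : e ^ 2 - e ≤ 0 := by nlinarith
    rcases le_or_gt 0 x with h | h
    · nlinarith
    rcases le_or_gt x (-1) with h' | h'
    · nlinarith
    · have hb := abs_le.mp (he ▸ he2 : |x - j| ≤ 1 / 2)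
      have hj0 : j ≤ 0 := by
        by_contra hj0
        have : (1 : ℝ) ≤ j := by exact_mod_cast (show (1 : ℤ) ≤ j by omega)
        linarith
      have hj1 : -1 ≤ j := by
        by_contra hj1
        have : (j : ℝ) ≤ -2 := by exact_mod_cast (show j ≤ -2 by omega)
        linarith
      rcases (show j = 0 ∨ j = -1 by omega) with rfl | rfl
      · rw [Int.cast_zero, sub_zero, abs_of_neg h] at he
        rw [he]
        nlinarith
      · rw [Int.cast_neg, Int.cast_one, sub_neg_eq_add, abs_of_nonneg (by linarith)] at he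
        rw [he]
        nlinarith
  obtain ⟨C, hC, hi0, hCc⟩ : ∃ C : Finset ι, (∀ i ∈ C, n i ≠ j) ∧ i₀ ∉ C ∧ C.card = u := by
    by_cases hsj : s = j
    · exact ⟨B, fun i hi => by rw [hB i hi]; exact fun e => hst (hsj.trans e.symm), hB0, hBc⟩
    · exact ⟨A, fun i hi => by rw [hA i hi]; exact hsj, hA0, hAc⟩
  have hlow : (Fintype.card ι : ℝ) * e ^ 2 - (2 * u + 1) * e + u ≤
      ∑ i, ((n i : ℝ) - x) ^ 2 + x := by
    have hCsub : C ⊆ Finset.univ.erase i₀ := fun i hi =>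
      Finset.mem_erase.mpr ⟨fun h => hi0 (h ▸ hi), Finset.mem_univ _⟩
    have h1 : (u : ℝ) * (1 - e) ^ 2 ≤ ∑ i ∈ C, ((n i : ℝ) - x) ^ 2 := by
      have h := Finset.sum_le_sum fun i hi => hfar i (hC i hi)
      rwa [Finset.sum_const, nsmul_eq_mul, hCc] at h
    have h2 : ((Finset.univ.erase i₀ \ C).card : ℝ) * e ^ 2 ≤
        ∑ i ∈ Finset.univ.erase i₀ \ C, ((n i : ℝ) - x) ^ 2 := by
      have h := Finset.sum_le_sum (s := Finset.univ.erase i₀ \ C) fun i _ => hterm i
      rwa [Finset.sum_const, nsmul_eq_mul] at h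
    have hcard : ((Finset.univ.erase i₀ \ C).card : ℝ) = (Fintype.card ι : ℝ) - 1 - u := by
      have h := Finset.card_sdiff_add_card_eq_card hCsub
      rw [hCc, Finset.card_erase_of_mem (Finset.mem_univ _), Finset.card_univ] at h
      have hpos : 1 ≤ Fintype.card ι := Fintype.card_pos_iff.mpr ⟨i₀⟩
      have h' : (((Finset.univ.erase i₀ \ C).card + u + 1 : ℕ) : ℝ) = (Fintype.card ι : ℝ) := by
        exact_mod_cast (show (Finset.univ.erase i₀ \ C).card + u + 1 = Fintype.card ι by omega)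
      push_cast at h'
      linarith
    rw [← Finset.add_sum_erase _ _ (Finset.mem_univ i₀), h0, Int.cast_zero,
      ← Finset.sum_sdiff hCsub, zero_sub, neg_sq]
    rw [hcard] at h2
    nlinarith
  have hvar : (Fintype.card ι : ℝ) * (∑ i, ((n i : ℝ) - x) ^ 2 + x) =
      (((Fintype.card ι : ℤ) * ∑ i, n i ^ 2 - (∑ i, n i) ^ 2 + ∑ i, n i : ℤ) : ℝ) := by
    simp only [sub_sq, Finset.sum_add_distrib, Finset.sum_sub_distrib, ← Finset.sum_mul,
      ← Finset.mul_sum, Finset.sum_const, Finset.card_univ, nsmul_eq_mul]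
    push_cast at hx ⊢
    rw [hx]
    field_simp
    ring
  have hsq : 4 * (Fintype.card ι : ℝ) * u - (2 * u + 1) ^ 2 ≤
      4 * ((Fintype.card ι : ℝ) * (∑ i, ((n i : ℝ) - x) ^ 2 + x)) := by
    nlinarith [mul_le_mul_of_nonneg_left hlow hM.le,
      sq_nonneg (2 * (Fintype.card ι : ℝ) * e - (2 * u + 1))]
  rw [hvar] at hsq
  exact_mod_cast hsq

/-- The same identity between coefficients and shifted coefficients. -/
theorem shift_identity {ι : Type*} [Fintype ι] (F : ι → ℤ) (c : ℤ) :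
    (Fintype.card ι : ℤ) * ∑ i, (F i - c) ^ 2 - (∑ i, (F i - c)) ^ 2 + ∑ i, (F i - c) =
      (Fintype.card ι : ℤ) * ∑ i, F i ^ 2 - (∑ i, F i) ^ 2 -
        ((Fintype.card ι : ℤ) * c - ∑ i, F i) := by
  simp only [sub_sq, Finset.sum_add_distrib, Finset.sum_sub_distrib, ← Finset.sum_mul,
    ← Finset.mul_sum, Finset.sum_const, Finset.card_univ, nsmul_eq_mul]
  ring

variable {G : Type u} [Group G] [Fintype G]

/-- `∑ (|f g| ^ 2 + t Re (f g))` over a set. -/
noncomputable def mass (f : G → ℂ) (t : ℝ) (E : Finset G) : ℝ :=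
  ∑ g ∈ E, (‖f g‖ ^ 2 + t * (f g).re)

/-- Closed under powers prime to the order of the group. -/
def Closed (E : Finset G) : Prop :=
  ∀ k : ℕ, k.Coprime (Nat.card G) → ∀ g ∈ E, g ^ k ∈ E

theorem Closed.of_pow_mem {E : Finset G} (hE : Closed E) {k : ℕ} (hk : k.Coprime (Nat.card G))
    {g : G} (h : g ^ k ∈ E) : g ∈ E := by
  classical
  have hinj : Function.Injective fun x : G => x ^ k := (powCoprime hk.symm).injective
  have himg : E.image (fun x => x ^ k) = E := Finset.eq_of_subset_of_card_le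
    (Finset.image_subset_iff.mpr fun x hx => hE k hk x hx)
    (le_of_eq (Finset.card_image_of_injective _ hinj).symm)
  rw [← himg] at h
  obtain ⟨x, hx, e⟩ := Finset.mem_image.mp h
  rwa [← hinj e]

theorem closed_univ : Closed (Finset.univ : Finset G) := fun _ _ _ _ => Finset.mem_univ _

theorem Closed.union [DecidableEq G] {A B : Finset G} (hA : Closed A) (hB : Closed B) :
    Closed (A ∪ B) := fun k hk g hg =>
  (Finset.mem_union.mp hg).elim (fun h => Finset.mem_union_left _ (hA k hk g h))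
    fun h => Finset.mem_union_right _ (hB k hk g h)

theorem Closed.sdiff [DecidableEq G] {A B : Finset G} (hA : Closed A) (hB : Closed B) :
    Closed (A \ B) := fun k hk g hg => Finset.mem_sdiff.mpr
  ⟨hA k hk g (Finset.mem_sdiff.mp hg).1, fun h => (Finset.mem_sdiff.mp hg).2 (hB.of_pow_mem hk h)⟩

/-- The Galois lemma. -/
theorem mass_nonneg {f : G → ℂ} (hf : IsGeneralizedCharacter G f) {t : ℝ} (ht : |t| ≤ 1)
    {E : Finset G} (hE : Closed E) : 0 ≤ mass f t E := by
  classical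
  haveI : NeZero (Nat.card G) := ⟨Nat.card_pos.ne'⟩
  have hN : ((E.filter fun g => f g ≠ 0).card : ℝ) ≤ ∑ g ∈ E.filter (fun g => f g ≠ 0), ‖f g‖ ^ 2 := by
    refine card_le_sum_normSq hf _ (fun g hg => (Finset.mem_filter.mp hg).2) fun k hk g hg => ?_
    obtain ⟨h1, h2⟩ := Finset.mem_filter.mp hg
    refine Finset.mem_filter.mpr ⟨hE k hk g h1, fun h => h2 ?_⟩
    obtain ⟨σ, hσ⟩ := CharApps.exists_galois_pow (Nat.card G) hk
    rw [← gen_galois_apply hf σ hσ g] at h
    exact (map_eq_zero_iff σ σ.injective).mp h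
  have hpt : ∀ g, -(t * (f g).re) ≤ (‖f g‖ ^ 2 + 1) / 2 := by
    intro g
    have h1 : |t * (f g).re| ≤ ‖f g‖ := by
      rw [abs_mul]
      exact le_trans (mul_le_of_le_one_left (abs_nonneg _) ht) (Complex.abs_re_le_norm _)
    have h2 := neg_abs_le (t * (f g).re)
    nlinarith [sq_nonneg (‖f g‖ - 1)]
  have hsum : mass f t E = ∑ g ∈ E.filter (fun g => f g ≠ 0), (‖f g‖ ^ 2 + t * (f g).re) :=
    (Finset.sum_subset (Finset.filter_subset _ _) fun g hg hg' => by
      have h0 : f g = 0 := by simpa [hg] using hg'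
      simp [h0]).symm
  rw [hsum, Finset.sum_add_distrib]
  have h3 := Finset.sum_le_sum (s := E.filter fun g => f g ≠ 0) fun g _ => hpt g
  rw [Finset.sum_neg_distrib, ← Finset.sum_div, Finset.sum_add_distrib, Finset.sum_const,
    nsmul_eq_mul, mul_one] at h3
  linarith

/-- The mass of a closed region is at most the total mass. -/
theorem mass_le_total {f : G → ℂ} (hf : IsGeneralizedCharacter G f) {t : ℝ} (ht : |t| ≤ 1)
    {E : Finset G} (hE : Closed E) :
    mass f t E ≤ (Nat.card G : ℝ) * (classInner f f + t * classInner f (fun _ => 1)).re := by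
  classical
  have h := mass_nonneg hf ht (closed_univ.sdiff hE)
  have hs : mass f t Finset.univ = mass f t (Finset.univ \ E) + mass f t E :=
    (Finset.sum_sdiff (Finset.subset_univ E)).symm
  have hc : (Nat.card G : ℝ) ≠ 0 := Nat.cast_ne_zero.mpr Nat.card_pos.ne'
  have e1 : (Nat.card G : ℝ) * (classInner f f).re = ∑ g : G, ‖f g‖ ^ 2 := by
    rw [inner_self_eq, Complex.ofReal_re]
    field_simp
  have e2 : (Nat.card G : ℝ) * (classInner f (fun _ => 1)).re = ∑ g : G, (f g).re := by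
    rw [Chars.inner_def]
    simp only [map_one, mul_one]
    rw [show ((Nat.card G : ℂ))⁻¹ = (((Nat.card G : ℝ)⁻¹ : ℝ) : ℂ) by push_cast; rfl,
      Complex.re_ofReal_mul, Complex.re_sum, ← mul_assoc, mul_inv_cancel₀ hc, one_mul]
  have htot : mass f t Finset.univ =
      (Nat.card G : ℝ) * (classInner f f + t * classInner f (fun _ => 1)).re := by
    rw [Complex.add_re, Complex.re_ofReal_mul, mul_add, e1, mul_left_comm, e2, Finset.mul_sum,
      mass, Finset.sum_add_distrib]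
  linarith

/-! ### The regular elements of `W₁ W₂` -/

variable {W₁ W₂ : Subgroup G}

/-- The regular elements of `W₁ W₂`. -/
noncomputable def regFin (W₁ W₂ : Subgroup G) : Finset G := by
  classical
  exact Finset.univ.filter fun g => ∃ x ∈ W₁, x ≠ 1 ∧ ∃ y ∈ W₂, y ≠ 1 ∧ g = x * y

theorem mem_regFin {g : G} :
    g ∈ regFin W₁ W₂ ↔ ∃ x ∈ W₁, x ≠ 1 ∧ ∃ y ∈ W₂, y ≠ 1 ∧ g = x * y := by
  simp [regFin]

/-- Their conjugates. -/
noncomputable def regSet (W₁ W₂ : Subgroup G) : Finset G := conjSet (regFin W₁ W₂)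

theorem regSet_closed (hcomm : ∀ a ∈ W₁, ∀ b ∈ W₂, a * b = b * a) : Closed (regSet W₁ W₂) := by
  intro k hk g hg
  obtain ⟨z, hz⟩ := mem_conjSet.mp hg
  obtain ⟨x, hx, hx1, y, hy, hy1, e⟩ := mem_regFin.mp hz
  have hne : ∀ w : G, w ≠ 1 → w ^ k ≠ 1 := fun w hw h =>
    hw ((powCoprime hk.symm).injective (a₁ := w) (a₂ := 1) (by simpa using h))
  exact mem_conjSet.mpr ⟨z, mem_regFin.mpr ⟨x ^ k, W₁.pow_mem hx k, hne x hx1, y ^ k,
    W₂.pow_mem hy k, hne y hy1, by rw [← conj_pow, e, (show Commute x y from hcomm x hx y hy).mul_pow]⟩⟩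

theorem card_W (hW : IsSelfNormalizingCyclic W₁ W₂) :
    Nat.card ↥(W₁ ⊔ W₂) = Nat.card W₁ * Nat.card W₂ := by
  have hn : W₁ ≤ normalizer (W₂ : Set G) := fun x hx =>
    centralizer_le_normalizer _ (mem_centralizer_iff.mpr fun y hy => (hW.2.2.2.1 x hx y hy).symm)
  exact CfsgLib.Coprime.card_sup_of_inf_eq_bot hn hW.2.2.1

theorem sum_regFin [Fintype W₁] [Fintype W₂] [DecidableEq G] (hW : IsSelfNormalizingCyclic W₁ W₂)
    (F : G → ℝ) :
    ∑ g ∈ regFin W₁ W₂, F g = ∑ x ∈ (Finset.univ : Finset W₁).erase 1,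
      ∑ y ∈ (Finset.univ : Finset W₂).erase 1, F ((x : G) * (y : G)) := by
  rw [← Finset.sum_product']
  refine (Finset.sum_bij (fun z _ => (z.1 : G) * (z.2 : G)) (fun z hz => ?_)
    (fun a _ b _ e => ?_) (fun g hg => ?_) fun z _ => rfl).symm
  · obtain ⟨h1, h2⟩ := Finset.mem_product.mp hz
    exact mem_regFin.mpr ⟨_, z.1.2, fun e => Finset.ne_of_mem_erase h1 (Subtype.ext e), _, z.2.2,
      fun e => Finset.ne_of_mem_erase h2 (Subtype.ext e), rfl⟩
  · have h2 : (b.1 : G)⁻¹ * a.1 = (b.2 : G) * (a.2 : G)⁻¹ := by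
      rw [inv_mul_eq_iff_eq_mul, ← mul_assoc, ← e, mul_inv_cancel_right]
    have h3 : (b.1 : G)⁻¹ * a.1 ∈ W₁ ⊓ W₂ := ⟨W₁.mul_mem (W₁.inv_mem b.1.2) a.1.2,
      h2 ▸ W₂.mul_mem b.2.2 (W₂.inv_mem a.2.2)⟩
    rw [hW.2.2.1, mem_bot, inv_mul_eq_one] at h3
    refine Prod.ext (Subtype.ext h3.symm) (Subtype.ext ?_)
    simp only [h3] at e
    exact mul_left_cancel e
  · obtain ⟨x, hx, hx1, y, hy, hy1, rfl⟩ := mem_regFin.mp hg
    exact ⟨(⟨x, hx⟩, ⟨y, hy⟩), Finset.mem_product.mpr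
      ⟨Finset.mem_erase.mpr ⟨fun e => hx1 (congrArg Subtype.val e), Finset.mem_univ _⟩,
        Finset.mem_erase.mpr ⟨fun e => hy1 (congrArg Subtype.val e), Finset.mem_univ _⟩⟩, rfl⟩

theorem regFin_subset {g : G} (hW : IsSelfNormalizingCyclic W₁ W₂) (hg : g ∈ regFin W₁ W₂) :
    g ∈ regularPart W₁ W₂ := by
  obtain ⟨x, hx, hx1, y, hy, hy1, rfl⟩ := mem_regFin.mp hg
  refine ⟨mul_mem_sup hx hy, ?_⟩
  rintro (h | h)
  · have h' : y ∈ W₁ ⊓ W₂ := ⟨by simpa using W₁.mul_mem (W₁.inv_mem hx) h, hy⟩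
    rw [hW.2.2.1, mem_bot] at h'
    exact hy1 h'
  · have h' : x ∈ W₁ ⊓ W₂ := ⟨hx, by simpa using W₂.mul_mem h (W₂.inv_mem hy)⟩
    rw [hW.2.2.1, mem_bot] at h'
    exact hx1 h'

/-- The mass on the conjugates of the regular elements. -/
theorem mass_regSet (hW : IsSelfNormalizingCyclic W₁ W₂) [Fintype W₁] [Fintype W₂] [DecidableEq G] {f : G → ℂ}
    (hf : IsGeneralizedCharacter G f) (t : ℝ) :
    ((Nat.card W₁ * Nat.card W₂ : ℕ) : ℝ) * mass f t (regSet W₁ W₂) =
      (Nat.card G : ℝ) * ∑ x ∈ (Finset.univ : Finset W₁).erase 1,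
        ∑ y ∈ (Finset.univ : Finset W₂).erase 1,
          (‖f ((x : G) * (y : G))‖ ^ 2 + t * (f ((x : G) * (y : G))).re) := by
  classical
  rw [← sum_regFin hW fun g => ‖f g‖ ^ 2 + t * (f g).re, ← card_W hW, mass, regSet]
  refine sum_conjSet (W₁ ⊔ W₂) _ (fun w hw a ha => ?_) (fun z a ha hza => ?_) _ fun g z => ?_
  · have hm := (regFin_subset hW ha).1
    have h := congrArg Subtype.val (comm_of_selfNorm hW ⟨w, hw⟩ ⟨a, hm⟩)
    rwa [show w * a * w⁻¹ = a by
      rw [show w * a = a * w from h, mul_inv_cancel_right]]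
  · by_contra hz
    exact regularPart_TI hW z hz a (regFin_subset hW ha) (regFin_subset hW hza)
  · rw [isClassFunction_of_isGeneralized hf g z]

theorem sum_erase_hom {X : Subgroup G} [Fintype X] [DecidableEq X]
    {a : X →* ℂˣ} (ha : a ≠ 1) :
    ∑ x ∈ (Finset.univ : Finset X).erase 1, (a x : ℂ) = -1 := by
  have h := inner_lin a 1
  rw [Chars.inner_def, if_neg ha, mul_eq_zero] at h
  have h' := h.resolve_left (inv_ne_zero (Nat.cast_ne_zero.mpr Nat.card_pos.ne'))
  simp only [MonoidHom.one_apply, Units.val_one, map_one, mul_one] at h'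
  rw [← Finset.add_sum_erase _ _ (Finset.mem_univ (1 : X)), map_one, Units.val_one] at h'
  linear_combination h'

theorem card_erase_one {X : Subgroup G} [Fintype X] [DecidableEq X] :
    (((Finset.univ : Finset X).erase 1).card : ℝ) = (Nat.card X : ℝ) - 1 := by
  rw [Finset.card_erase_of_mem (Finset.mem_univ _), Finset.card_univ, Nat.card_eq_fintype_card,
    Nat.cast_sub Fintype.card_pos, Nat.cast_one]

variable {η : (W₁ →* ℂˣ) → (W₂ →* ℂˣ) → G → ℂ}

/-- The regular mass of `η a 1 + η 1 b` at `t = -1`. -/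
theorem mass_regSet_pair (hW : IsSelfNormalizingCyclic W₁ W₂) (hη : Grid W₁ W₂ η)
    {a : W₁ →* ℂˣ} {b : W₂ →* ℂˣ} (ha : a ≠ 1) (hb : b ≠ 1) :
    ((Nat.card W₁ * Nat.card W₂ : ℕ) : ℝ) * mass (η a 1 + η 1 b) (-1) (regSet W₁ W₂) =
      (Nat.card G : ℝ) * (2 * (Nat.card W₁ * Nat.card W₂ : ℕ) - Nat.card W₁ - Nat.card W₂ + 2) := by
  classical
  haveI : Fintype W₁ := Fintype.ofFinite _
  haveI : Fintype W₂ := Fintype.ofFinite _
  have hgen : IsGeneralizedCharacter G (η a 1 + η 1 b) :=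
    mem_genChar.mp ((genChar G).add_mem (mem_genChar.mpr (hη.gen a 1)) (mem_genChar.mpr (hη.gen 1 b)))
  rw [mass_regSet hW hgen]
  congr 1
  have hsa := sum_erase_hom ha
  have hsb := sum_erase_hom hb
  have hsb' : ∑ y ∈ (Finset.univ : Finset W₂).erase 1, conj (b y : ℂ) = -1 := by
    rw [← map_sum, hsb, map_neg, map_one]
  have hunit : ∀ {X : Subgroup G} (c : X →* ℂˣ) (x : X), Complex.normSq (c x : ℂ) = 1 := by
    intro X c x
    rw [Complex.normSq_eq_norm_sq, Complex.norm_eq_one_of_pow_eq_one (n := Nat.card X) ?_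
      Nat.card_pos.ne', one_pow]
    rw [← Units.val_pow_eq_pow_val, ← map_pow, pow_card_eq_one', map_one, Units.val_one]
  have key : ∀ x ∈ (Finset.univ : Finset W₁).erase 1, ∀ y ∈ (Finset.univ : Finset W₂).erase 1,
      ‖(η a 1 + η 1 b) ((x : G) * (y : G))‖ ^ 2 + (-1 : ℝ) * ((η a 1 + η 1 b) ((x : G) * (y : G))).re =
        (2 + 2 * ((a x : ℂ) * conj (b y : ℂ)).re - (a x : ℂ).re - (b y : ℂ).re) := by
    intro x hx y hy
    have hx1 : (x : G) ≠ 1 := fun e => Finset.ne_of_mem_erase hx (Subtype.ext e)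
    have hy1 : (y : G) ≠ 1 := fun e => Finset.ne_of_mem_erase hy (Subtype.ext e)
    rw [Pi.add_apply, hη.eq_on a 1 _ _ x.2 y.2 hx1 hy1, hη.eq_on 1 b _ _ x.2 y.2 hx1 hy1,
      MonoidHom.one_apply, MonoidHom.one_apply, Units.val_one, mul_one, one_mul,
      ← Complex.normSq_eq_norm_sq, Complex.normSq_add, Complex.add_re, hunit, hunit]
    ring
  rw [Finset.sum_congr rfl fun x hx => Finset.sum_congr rfl fun y hy => key x hx y hy]
  simp only [Finset.sum_add_distrib, Finset.sum_sub_distrib, ← Finset.mul_sum, Finset.sum_const,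
    nsmul_eq_mul, ← Complex.re_sum, ← Finset.sum_mul, hsa, hsb, hsb']
  simp only [card_erase_one, mul_neg, neg_mul, mul_one, one_mul, neg_neg, Complex.neg_re,
    Complex.one_re, Finset.sum_const, nsmul_eq_mul]
  push_cast
  ring

/-- Two disjoint closed regions off the regular elements share what `η a 1 + η 1 b` leaves. -/
theorem pair_ineq (hW : IsSelfNormalizingCyclic W₁ W₂) (hη : Grid W₁ W₂ η)
    {a : W₁ →* ℂˣ} {b : W₂ →* ℂˣ} (ha : a ≠ 1) (hb : b ≠ 1) {RS RT : Finset G}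
    (hS : Closed RS) (hT : Closed RT) (hST : Disjoint RS RT)
    (hSW : Disjoint RS (regSet W₁ W₂)) (hTW : Disjoint RT (regSet W₁ W₂)) :
    ((Nat.card W₁ * Nat.card W₂ : ℕ) : ℝ) *
        (mass (η a 1 + η 1 b) (-1) RS + mass (η a 1 + η 1 b) (-1) RT) ≤
      (Nat.card G : ℝ) * ((Nat.card W₁ : ℝ) + Nat.card W₂ - 2) := by
  classical
  set f := η a 1 + η 1 b with hf
  have hgen : IsGeneralizedCharacter G f :=
    mem_genChar.mp ((genChar G).add_mem (mem_genChar.mpr (hη.gen a 1)) (mem_genChar.mpr (hη.gen 1 b)))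
  have h := mass_le_total (t := -1) hgen (by norm_num)
    ((hS.union hT).union (regSet_closed hW.2.2.2.1))
  rw [show mass f (-1) (RS ∪ RT ∪ regSet W₁ W₂) =
      mass f (-1) RS + mass f (-1) RT + mass f (-1) (regSet W₁ W₂) by
    rw [mass, Finset.sum_union (Finset.disjoint_union_left.mpr ⟨hSW, hTW⟩), Finset.sum_union hST]
    rfl] at h
  have e1 : classInner f f = 2 := by
    rw [hf, Chars.inner_add_left, Chars.inner_add_right, Chars.inner_add_right, hη.orth, hη.orth,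
      hη.orth, hη.orth, if_pos ⟨rfl, rfl⟩, if_neg fun e => ha e.1, if_neg fun e => ha e.1.symm,
      if_pos ⟨rfl, rfl⟩]
    norm_num
  have e2 : classInner f (fun _ => 1) = 0 := by
    rw [hf, ← hη.map_one, Chars.inner_add_left, hη.orth, hη.orth, if_neg fun e => ha e.1,
      if_neg fun e => hb e.2, add_zero]
  rw [e1, e2, mul_zero, add_zero, show ((2 : ℂ)).re = 2 by norm_num] at h
  have hreg := mass_regSet_pair hW hη ha hb
  rw [← hf] at hreg
  push_cast at hreg ⊢
  nlinarith [mul_le_mul_of_nonneg_left h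
    (show (0 : ℝ) ≤ (Nat.card W₁ : ℝ) * Nat.card W₂ by positivity)]

end CfsgLib.FT.Route
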