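import Cfsg.Agent.Lib.FT.Route.TypeOneMax

/-!
# The maximal subgroup over the normaliser of `U` and its complement
-/

set_option autoImplicit false
set_option linter.style.haveILetI false
set_option linter.unusedSectionVars false

namespace CfsgLib.FT.Route

open _root_.Subgroup Cfsg CfsgLib.OddOrder CfsgLib.FT.BG15 CfsgLib.FT.PF13 CfsgLib.Techniques

universe u

variable {G : Type u} [Group G] [Finite G]

theorem FrobMax.ne_bot {L : Subgroup G} (hL : FrobMax L) : fittingHallOf L ≠ ⊥ := fun h => by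
  obtain ⟨⟨-, -, hne, -⟩, -⟩ := hL.typeI
  exact hne ((map_eq_bot_iff_of_injective _ L.subtype_injective).mp h)

theorem FrobMax.fpf {L E : Subgroup G} (hL : FrobMax L)
    (hE : IsComplIn (fittingHallOf L) E L) : Base.IsFPF E (fittingHallOf L) := by
  refine ⟨hE.2.1.trans (le_normalizer_fittingHallOf L), fun a ha ha1 =>
    (Subgroup.eq_bot_iff_forall _).mpr fun v hv => ?_⟩
  by_contra hv1
  have h : a ∈ fittingHallOf L ⊓ E :=
    ⟨hL.frob v hv.1 hv1 ⟨hE.2.1 ha, mem_centralizer_singleton_iff.mpr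
      (mem_centralizer_singleton_iff.mp hv.2).symm⟩, ha⟩
  rw [hE.2.2.1, mem_bot] at h
  exact ha1 h

/-- A subgroup of prime order outside the kernel lies in a complement. -/
theorem FrobMax.exists_compl {L W : Subgroup G} (hL : FrobMax L) {q : ℕ} [Fact q.Prime]
    (hW : IsPGroup q W) (hWL : W ≤ L) (hq : ¬ q ∣ Nat.card (fittingHallOf L)) :
    ∃ E, IsComplIn (fittingHallOf L) E L ∧ W ≤ E := by
  obtain ⟨⟨-, -, -, -, U₀, -, hc, -, -⟩, -⟩ := hL.typeI
  have hint : fittingHallOf L ⊓ U₀.map L.subtype = ⊥ := by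
    rw [fittingHallOf, ← map_inf _ _ _ L.subtype_injective, disjoint_iff.mp hc.disjoint, Subgroup.map_bot]
  have hcard : Nat.card (fittingHallOf L) * Nat.card ↥(U₀.map L.subtype) = Nat.card L := by
    rw [fittingHallOf, CfsgLib.Base.card_map_subtype, CfsgLib.Base.card_map_subtype, hc.card_mul_card]
  have hidx : (U₀.map L.subtype).relIndex L = Nat.card (fittingHallOf L) :=
    Nat.eq_of_mul_eq_mul_right Nat.card_pos
      ((relIndex_mul_card_of_le (map_subtype_le U₀)).trans hcard.symm)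
  obtain ⟨g, hg, hle⟩ := TypeOne.exists_conj_mem_le (E := U₀.map L.subtype) hW hWL (by rwa [hidx])
  have hEL : cj g⁻¹ (U₀.map L.subtype) ≤ L := by
    exact (cj_mono (map_subtype_le U₀)).trans (cj_eq_self_of_mem (L.inv_mem hg)).le
  refine ⟨cj g⁻¹ (U₀.map L.subtype), ⟨fittingHallOf_le L, hEL, ?_, ?_⟩, ?_⟩
  · rw [← cj_eq_bot_iff (g := g), cj_inf, cj_cj_inv,
      mem_normalizer_iff_cj.mp (le_normalizer_fittingHallOf L hg)]
    exact hint
  · intro m hm
    obtain ⟨a, ha, b, hb, e⟩ := (⟨fittingHallOf_le L, map_subtype_le U₀, hint, fun m hm => by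
      have h1 : (⟨m, hm⟩ : L) ∈ ((fittingHall L ⊔ U₀ : Subgroup L) : Set L) :=
        hc.sup_eq_top ▸ mem_top _
      rw [Subgroup.normal_mul, Set.mem_mul] at h1
      obtain ⟨a, ha, b, hb, e⟩ := h1
      exact ⟨a, mem_map_of_mem _ ha, b, mem_map_of_mem _ hb, (congrArg Subtype.val e).symm⟩⟩ :
        IsComplIn (fittingHallOf L) (U₀.map L.subtype) L).2.2.2 (g * m * g⁻¹)
      (L.mul_mem (L.mul_mem hg hm) (L.inv_mem hg))
    refine ⟨g⁻¹ * a * g, by
      simpa using (mem_normalizer_iff.mp (le_normalizer_fittingHallOf L (L.inv_mem hg)) a).mp ha,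
      g⁻¹ * b * g, by rw [mem_cj]; simpa [mul_assoc] using hb, ?_⟩
    calc m = g⁻¹ * (g * m * g⁻¹) * g := by group
      _ = g⁻¹ * a * g * (g⁻¹ * b * g) := by rw [e]; group
  · intro w hw
    rw [mem_cj, inv_inv]
    exact hle ⟨w, hw, rfl⟩

namespace PairData

variable {S T W₁ W₂ U V : Subgroup G} (P : PairData S T W₁ W₂ U V)
include P

theorem centralizer_W₁ :
    normalizer (W₁ : Set G) = centralizer (W₁ : Set G) ∧
      centralizer (W₁ : Set G) = fittingHallOf T ⊔ W₂ :=
  normalizer_W₁_eq P.facts P.facts'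

theorem W₂_le_normalizer : W₂ ≤ normalizer (fittingHallOf T : Set G) :=
  P.facts'.W₁_le.trans (le_normalizer_fittingHallOf T)

theorem coprime_TF_W₂ : (Nat.card (fittingHallOf T)).Coprime (Nat.card W₂) := by
  rw [P.facts'.card_H]
  exact ((Nat.coprime_primes P.facts.prime_q P.facts.prime_p).mpr P.facts.ne.symm).pow_left _

/-- An element of order `p` centralising `W₁` generates a `T_F`-conjugate of `W₂`. -/
theorem zpowers_eq_conj {z : G} (hz : z ∈ centralizer (W₁ : Set G))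
    (ho : orderOf z = Nat.card W₂) : ∃ y ∈ fittingHallOf T, cj y W₂ = zpowers z := by
  rw [P.centralizer_W₁.2] at hz
  obtain ⟨y, hy, e⟩ := CfsgLib.Coprime.sz_conj_rel (N := fittingHallOf T) (H := W₂) (K := zpowers z)
    P.W₂_le_normalizer
    (zpowers_le.mpr (sup_le Subgroup.le_normalizer P.W₂_le_normalizer hz))
    P.coprime_TF_W₂ (by rw [Nat.card_zpowers, ho]) (zpowers_le.mpr hz)
    (Or.inl (CfsgLib.Coprime.isSolvable_of_le (fittingHallOf_le T)
      (maximal_solvable P.minimal P.facts'.coatom)))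
  refine ⟨y, hy, ?_⟩
  rw [← e]
  ext w
  rw [mem_cj, CfsgLib.Coprime.mem_conj_smul]

theorem TF_le_centralizer : fittingHallOf T ≤ centralizer (W₁ : Set G) := by
  rw [P.centralizer_W₁.2]; exact le_sup_left

theorem eq_W₁_of_order_q {E K : Subgroup G} (h : Base.IsFPF E K) (hK : K ≠ ⊥) (hW : W₁ ≤ E) {x : G}
    (hx : x ∈ E) (hxq : x ^ Nat.card W₁ = 1) (hc : x ∈ centralizer (W₁ : Set G)) : x ∈ W₁ := by
  obtain ⟨w, hw, hw1⟩ := (Subgroup.bot_or_exists_ne_one W₁).resolve_left P.facts.hP.W₁_ne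
  have ho : orderOf w = Nat.card W₁ := ((Nat.dvd_prime P.facts.prime_q).mp
    (W₁.orderOf_dvd_natCard hw)).resolve_left fun h => hw1 (orderOf_eq_one_iff.mp h)
  exact zpowers_le.mpr hw
    (h.mem_zpowers_of_commute hK P.facts.prime_q (hW hw) hx ho hxq (mem_centralizer_iff.mp hc w hw))

/-- A fixed point free group over `W₁` is `W₁` or `W₁` times a conjugate of `W₂`. -/
theorem compl_cases {E K : Subgroup G} (h : Base.IsFPF E K) (hK : K ≠ ⊥) (hW : W₁ ≤ E) :
    E = W₁ ∨ ∃ y ∈ fittingHallOf T, cj y W₂ ≤ E ∧ E = W₁ ⊔ cj y W₂ := by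
  have hE : E ≠ ⊥ := fun e => P.facts.hP.W₁_ne (le_bot_iff.mp (hW.trans e.le))
  obtain ⟨z, hz, hz1⟩ := (Subgroup.bot_or_exists_ne_one (center E)).resolve_left (h.center_ne_bot hK hE)
  obtain ⟨r, hr, hrd⟩ := Nat.exists_prime_and_dvd (n := orderOf z) fun e => hz1 (orderOf_eq_one_iff.mp e)
  set w : E := z ^ (orderOf z / r)
  have hwo : orderOf (w : G) = r := by
    rw [orderOf_coe]; exact orderOf_pow_orderOf_div (orderOf_pos z).ne' hrd
  have hwc : ∀ x ∈ E, x * (w : G) = w * x := fun x hx =>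
    congrArg Subtype.val (mem_center_iff.mp (pow_mem hz _ : w ∈ center E) ⟨x, hx⟩)
  have hwW : (w : G) ∈ centralizer (W₁ : Set G) :=
    mem_centralizer_iff.mpr fun x hx => hwc x (hW hx)
  -- `E` centralises `W₁`
  suffices hcent : E ≤ centralizer (W₁ : Set G) by
    rw [P.centralizer_W₁.2] at hcent
    by_cases hET : E ≤ fittingHallOf T
    · refine Or.inl (le_antisymm (fun x hx => P.eq_W₁_of_order_q h hK hW hx
        (P.facts'.exp_H x (hET hx)) ?_) hW)
      exact P.TF_le_centralizer (hET hx)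
    · obtain ⟨x, hx, hxT⟩ := SetLike.not_le_iff_exists.mp hET
      have hx' := hcent hx
      rw [← P.centralizer_W₁.2] at hx'
      obtain ⟨b, hb, a, ha, e⟩ := (CfsgLib.Coprime.mem_sup_iff_of_le_normalizer P.W₂_le_normalizer).mp
        ((sup_comm (fittingHallOf T) W₂).le (hcent hx))
      have hdvd : Nat.card W₂ ∣ orderOf x := by
        by_contra hnd
        have hcop : (orderOf x).Coprime (Nat.card W₂) :=
          (P.facts.prime_p.coprime_iff_not_dvd.mpr hnd).symm
        obtain ⟨m, hm⟩ := exists_pow_eq_self_of_coprime (G := G) (x := x) (n := Nat.card W₂) hcop.symm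
        refine hxT (hm ▸ pow_mem (?_ : x ^ Nat.card W₂ ∈ fittingHallOf T) m)
        haveI : ((fittingHallOf T).subgroupOf (fittingHallOf T ⊔ W₂)).Normal :=
          normal_subgroupOf_of_le_normalizer (sup_le Subgroup.le_normalizer P.W₂_le_normalizer)
        have h1 := pow_index_mem ((fittingHallOf T).subgroupOf (fittingHallOf T ⊔ W₂)) ⟨x, hcent hx⟩
        have h2 : ((fittingHallOf T).subgroupOf (fittingHallOf T ⊔ W₂)).index = Nat.card W₂ := by
          refine Nat.eq_of_mul_eq_mul_right (Nat.card_pos (α := fittingHallOf T)) ?_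
          show (fittingHallOf T).relIndex _ * _ = _
          rw [relIndex_mul_card_of_le le_sup_left, sup_comm,
            CfsgLib.Coprime.card_sup_of_inf_eq_bot P.W₂_le_normalizer
              (CfsgLib.Coprime.inf_eq_bot_of_coprime P.coprime_TF_W₂.symm)]
        rw [h2] at h1
        exact h1
      obtain ⟨y, hy, hyz⟩ := P.zpowers_eq_conj (z := x ^ (orderOf x / Nat.card W₂))
        (pow_mem hx' _) (orderOf_pow_orderOf_div (orderOf_pos x).ne' hdvd)
      have hyE : cj y W₂ ≤ E := hyz ▸ zpowers_le.mpr (E.pow_mem hx _)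
      refine Or.inr ⟨y, hy, hyE, le_antisymm (fun e he => ?_) (sup_le hW hyE)⟩
      obtain ⟨b, hb, a, ha, rfl⟩ := (CfsgLib.Coprime.mem_sup_iff_of_le_normalizer P.W₂_le_normalizer).mp
        ((sup_comm (fittingHallOf T) W₂).le (hcent he))
      set b' := y * b * y⁻¹
      have hb' : b' ∈ cj y W₂ := conj_mem_cj.mpr hb
      have hrest : b'⁻¹ * (b * a) ∈ fittingHallOf T := by
        rw [show b'⁻¹ * (b * a) = y * (b⁻¹ * y⁻¹ * b) * a by simp only [b']; group]
        refine mul_mem (mul_mem hy ?_) ha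
        have := (mem_normalizer_iff.mp (P.W₂_le_normalizer (W₂.inv_mem hb)) y⁻¹).mp (inv_mem hy)
        simpa using this
      have h1 : b'⁻¹ * (b * a) ∈ W₁ := P.eq_W₁_of_order_q h hK hW
        (E.mul_mem (E.inv_mem (hyE hb')) he) (P.facts'.exp_H _ hrest) (P.TF_le_centralizer hrest)
      rw [show b * a = b' * (b'⁻¹ * (b * a)) by group]
      exact mul_mem (mem_sup_right hb') (mem_sup_left h1)
  by_cases hrq : r = Nat.card W₁
  · have hwW₁ : (w : G) ∈ W₁ := P.eq_W₁_of_order_q h hK hW w.2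
      (by rw [← hrq, ← hwo]; exact pow_orderOf_eq_one _) hwW
    intro x hx
    refine mem_centralizer_iff.mpr fun v hv => ?_
    haveI := Fact.mk P.facts.prime_q
    have hw1 : (⟨(w : G), hwW₁⟩ : W₁) ≠ 1 := fun e => hr.one_lt.ne' (by
      rw [← hwo, show (w : G) = 1 from congrArg Subtype.val e, orderOf_one])
    obtain ⟨k, hk⟩ := mem_zpowers_iff.mp
      (mem_zpowers_of_prime_card (g' := (⟨v, hv⟩ : W₁)) rfl hw1)
    rw [← show (w : G) ^ k = v from congrArg Subtype.val hk]
    exact ((show Commute x (w : G) from hwc x hx).zpow_right k).eq.symm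
  · have hrp : r = Nat.card W₂ := by
      have h1 := hwW
      rw [P.centralizer_W₁.2] at h1
      have h2 := (fittingHallOf T ⊔ W₂).orderOf_dvd_natCard h1
      rw [sup_comm, CfsgLib.Coprime.card_sup_of_inf_eq_bot P.W₂_le_normalizer
        (CfsgLib.Coprime.inf_eq_bot_of_coprime P.coprime_TF_W₂.symm), hwo, P.facts'.card_H] at h2
      rcases hr.dvd_mul.mp h2 with h3 | h3
      · exact (Nat.prime_dvd_prime_iff_eq hr P.facts.prime_p).mp h3
      · exact absurd ((Nat.prime_dvd_prime_iff_eq hr P.facts.prime_q).mp (hr.dvd_of_dvd_pow h3)) hrq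
    obtain ⟨y, hy, hyz⟩ := P.zpowers_eq_conj hwW (hwo.trans hrp)
    intro x hx
    -- `x` is in `y (S_F W₁) y⁻¹`
    have hxc : y⁻¹ * x * y ∈ fittingHallOf S ⊔ W₁ := by
      rw [← P.symm.centralizer_W₁.2]
      refine mem_centralizer_iff.mpr fun v hv => ?_
      have hv' : y * v * y⁻¹ ∈ zpowers (w : G) := hyz ▸ conj_mem_cj.mpr hv
      obtain ⟨k, hk⟩ := mem_zpowers_iff.mp hv'
      have hc := ((show Commute x (w : G) from hwc x hx).zpow_right k).eq
      rw [hk] at hc
      calc v * (y⁻¹ * x * y) = y⁻¹ * (y * v * y⁻¹ * x) * y := by group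
        _ = y⁻¹ * (x * (y * v * y⁻¹)) * y := by rw [hc]
        _ = y⁻¹ * x * y * v := by group
    obtain ⟨c, hc, a, ha, e⟩ := (CfsgLib.Coprime.mem_sup_iff_of_le_normalizer
      P.symm.W₂_le_normalizer).mp ((sup_comm (fittingHallOf S) W₁).le hxc)
    have hyc : y * c = c * y := (mem_centralizer_iff.mp (P.TF_le_centralizer hy) c hc).symm
    have hxe : x = c * (y * a * y⁻¹) := by
      calc x = y * (y⁻¹ * x * y) * y⁻¹ := by group
        _ = y * (c * a) * y⁻¹ := by rw [← e]
        _ = c * (y * a * y⁻¹) := by rw [← mul_assoc, hyc]; group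
    have haE : y * a * y⁻¹ ∈ E := by
      rw [show y * a * y⁻¹ = c⁻¹ * x by rw [hxe, inv_mul_cancel_left]]
      exact E.mul_mem (E.inv_mem (hW hc)) hx
    have haz : y * a * y⁻¹ ∈ zpowers (w : G) := h.mem_zpowers_of_commute hK hr w.2 haE hwo
      (by rw [hrp, conj_pow, P.facts.exp_H a ha, mul_one, mul_inv_cancel]) (hwc _ haE).symm
    rw [hxe]
    haveI := Fact.mk P.facts.prime_q
    haveI : IsCyclic W₁ := P.facts.hP.W₁_cyclic
    refine mul_mem (mem_centralizer_iff.mpr fun v hv => ?_) (zpowers_le.mpr hwW haz)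
    exact congrArg Subtype.val (mul_comm' (⟨v, hv⟩ : W₁) ⟨c, hc⟩)

theorem isPGroup_SF : IsPGroup (Nat.card W₂) (fittingHallOf S) :=
  IsPGroup.of_card P.facts.card_H

theorem normalizer_SF : normalizer (fittingHallOf S : Set G) = S := by
  refine normalizer_eq_maximal P.minimal P.facts.coatom (fittingHallOf_le S) ?_
    (le_normalizer_fittingHallOf S)
  intro e
  have h := P.facts.card_H
  rw [e, Subgroup.card_bot] at h
  exact (Nat.one_lt_pow P.facts.prime_q.ne_zero P.facts.prime_p.one_lt).ne h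

/-- An element of order `p` is conjugate into `S_F`. -/
theorem exists_conj_SF {z : G} (ho : orderOf z = Nat.card W₂) :
    ∃ c, c⁻¹ * z * c ∈ fittingHallOf S := by
  haveI := Fact.mk P.facts.prime_p
  obtain ⟨Q, hQ⟩ := P.isPGroup_SF.exists_le_sylow
  have hQS : (Q : Subgroup G) = fittingHallOf S := by
    by_contra hne
    have hlt : (fittingHallOf S).subgroupOf (Q : Subgroup G) < ⊤ :=
      lt_top_iff_ne_top.mpr fun h => hne (le_antisymm (subgroupOf_eq_top.mp h) hQ)
    haveI := Q.isPGroup'.isNilpotent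
    obtain ⟨x, hx, hxS⟩ := SetLike.exists_of_lt
      ((Group.normalizerCondition_of_isNilpotent (G := (Q : Subgroup G))) _ hlt)
    refine hxS (mem_subgroupOf.mpr ?_)
    have hxn : (x : G) ∈ normalizer (fittingHallOf S : Set G) := by
      refine mem_normalizer_iff.mpr fun a => ⟨fun ha => ?_, fun ha => ?_⟩
      · exact mem_subgroupOf.mp ((mem_normalizer_iff.mp hx ⟨a, hQ ha⟩).mp ha)
      · have haQ : a ∈ (Q : Subgroup G) := by
          have := Q.1.mul_mem (Q.1.mul_mem (Q.1.inv_mem x.2) (hQ ha)) x.2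
          simpa [mul_assoc] using this
        exact (mem_normalizer_iff.mp hx ⟨a, haQ⟩).mpr ha
    rw [P.normalizer_SF] at hxn
    by_contra hxF
    obtain ⟨r, hr, hrd, k, hk⟩ := TypeOne.exists_pow_prime_order (le_normalizer_fittingHallOf S)
      (coprime_fittingHallOf S) hxn hxF
    obtain ⟨i, hi⟩ := IsPGroup.iff_orderOf.mp Q.isPGroup' x
    have h1 : r ∣ Nat.card W₂ ^ i := by
      rw [← hk, ← hi, ← orderOf_coe]
      exact orderOf_pow_dvd k
    rw [(Nat.prime_dvd_prime_iff_eq hr P.facts.prime_p).mp (hr.dvd_of_dvd_pow h1), P.facts.card_H] at hrd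
    exact hrd (dvd_pow_self _ P.facts.prime_q.ne_zero)
  obtain ⟨Q', hQ'⟩ := (IsPGroup.of_card (n := 1)
    (show Nat.card (zpowers z) = Nat.card W₂ ^ 1 by rw [Nat.card_zpowers, ho, pow_one])).exists_le_sylow
  obtain ⟨c, hc⟩ := MulAction.exists_smul_eq G Q Q'
  refine ⟨c, ?_⟩
  have h1 := hQ' (mem_zpowers z)
  rw [← hc, Sylow.coe_subgroup_smul, Subgroup.mem_pointwise_smul_iff_inv_smul_mem, hQS] at h1
  simpa [← map_inv, MulAut.smul_def] using h1

/-- `p` does not divide the order of the kernel of a maximal subgroup of Type I. -/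
theorem not_dvd_kernel {L : Subgroup G} (hL : FrobMax L) :
    ¬ Nat.card W₂ ∣ Nat.card (fittingHallOf L) := by
  intro hd
  haveI := Fact.mk P.facts.prime_p
  obtain ⟨z, hz⟩ := exists_prime_orderOf_dvd_card' (G := fittingHallOf L) (Nat.card W₂) hd
  have hzo : orderOf (z : G) = Nat.card W₂ := by rw [orderOf_coe, hz]
  have hz1 : (z : G) ≠ 1 := fun e => P.facts.prime_p.one_lt.ne' (by rw [← hzo, e, orderOf_one])
  obtain ⟨c, hc⟩ := P.exists_conj_SF hzo
  have hK : ∀ a ∈ fittingHallOf S, c * a * c⁻¹ ∈ fittingHallOf L := by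
    intro a ha
    have hcomm : c * a * c⁻¹ * (z : G) = z * (c * a * c⁻¹) := by
      calc c * a * c⁻¹ * (z : G) = c * (a * (c⁻¹ * z * c)) * c⁻¹ := by group
        _ = c * ((c⁻¹ * z * c) * a) * c⁻¹ := by rw [P.facts.comm_H a ha _ hc]
        _ = z * (c * a * c⁻¹) := by group
    refine hL.frob z z.2 hz1 ⟨hL.ti _ z z.2 hz1 ?_, mem_centralizer_singleton_iff.mpr hcomm⟩
    rw [hcomm, mul_inv_cancel_right]
    exact z.2
  have hSL : cj c S ≤ L := cj_le_iff.mpr fun s hs => by
    refine hL.ti _ z z.2 hz1 ?_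
    rw [show c * s * c⁻¹ * (z : G) * (c * s * c⁻¹)⁻¹ = c * (s * (c⁻¹ * z * c) * s⁻¹) * c⁻¹ by group]
    exact hK _ ((mem_normalizer_iff.mp (le_normalizer_fittingHallOf S hs) _).mp hc)
  have e := ((isCoatom_cj P.facts.coatom c).le_iff.mp hSL).resolve_left hL.coatom.1
  exact not_typeI_of_typeII P.minimal (isCoatom_cj P.facts.coatom c)
    ((isOfTypeII_map (MulAut.conj c) S).mpr P.typeII) (e ▸ hL.typeI)

theorem not_normalizer_U_le : ¬ normalizer (U : Set G) ≤ S := by
  obtain ⟨W₁', U', W₂', hP', -, -, -, -, hN, -⟩ := P.typeII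
  obtain ⟨a, haS, ha⟩ := exists_conj_U P.minimal P.facts.coatom P.facts.hP hP'
  have hU' : U' = cj a U := by
    ext x
    rw [mem_cj]
    exact ha x
  intro h
  refine hN ?_
  rw [hU', ← cj_normalizer, ← cj_eq_self_of_mem haS]
  exact cj_mono h

/-- The maximal subgroup over `N(U)`. -/
theorem exists_over_U : ∃ L : Subgroup G, FrobMax L ∧ normalizer (U : Set G) ≤ L ∧
    U ≤ fittingHallOf L := by
  have F := P.facts
  have hne : normalizer (U : Set G) ≠ ⊤ :=
    minSimple_normalizer_ne_top P.minimal F.U_ne (ne_top_of_le_maximal F.coatom (U_le F.hP))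
  obtain ⟨L, hL, hNL⟩ := exists_maximal_ge hne
  have hUWL : U ⊔ W₁ ≤ L := (sup_le Subgroup.le_normalizer F.hP.U_normal).trans hNL
  rcases P.trichotomy hL with hI | ⟨g, rfl⟩ | ⟨g, rfl⟩
  · exact ⟨L, P.frobMax hL hI, hNL, (P.U_le_kernel hL hI hUWL).1⟩
  · exfalso
    refine P.not_normalizer_U_le ?_
    have hU1 : cj g⁻¹ U ≤ ⁅S, S⁆ := cj_le_iff.mpr fun v hv => by
      have hvS : g⁻¹ * v * g⁻¹⁻¹ ∈ S := by rw [inv_inv]; exact mem_cj.mp (hUWL (mem_sup_left hv))
      by_contra hvD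
      obtain ⟨r, hr, hrD, k, hk⟩ := TypeOne.exists_pow_prime_order (M := S) (N := ⁅S, S⁆)
        (CfsgLib.OddOrder.le_normalizer_commutator Subgroup.le_normalizer Subgroup.le_normalizer)
        (by
          rw [show (⁅S, S⁆ : Subgroup G).relIndex S = Nat.card W₁ from Nat.eq_of_mul_eq_mul_right
            Nat.card_pos ((relIndex_mul_card_of_le (commutator_le_self S)).trans
              ((card_mul_card_of_isComplIn F.hP.W₁_compl).symm.trans (mul_comm _ _)))]
          exact F.coprime_q.symm) hvS hvD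
      have h1 : r ∣ Nat.card U := by
        rw [← hk, conj_pow, ← MulAut.conj_apply, ← MulEquiv.coe_toMonoidHom,
          orderOf_injective (MulAut.conj g⁻¹).toMonoidHom (MulAut.conj g⁻¹).injective]
        exact (orderOf_pow_dvd k).trans (U.orderOf_dvd_natCard hv)
      have h2 : r ∣ Nat.card S := by
        rw [← hk]; exact S.orderOf_dvd_natCard (S.pow_mem hvS k)
      rw [← card_mul_card_of_isComplIn F.hP.W₁_compl] at h2
      rcases hr.dvd_mul.mp h2 with h3 | h3
      · exact hrD h3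
      · exact F.q_coprime_U ((Nat.prime_dvd_prime_iff_eq hr F.prime_q).mp h3 ▸ h1)
    obtain ⟨s, hs, e⟩ := CfsgLib.Coprime.sz_conj_rel (N := fittingHallOf S) (H := U)
      (K := cj g⁻¹ U) ((U_le F.hP).trans (le_normalizer_fittingHallOf S))
      ((hU1.trans (commutator_le_self S)).trans (le_normalizer_fittingHallOf S))
      (coprime_U_H F.hP).symm (card_cj _ _) (by rw [derived_sup F.hP]; exact hU1)
      (Or.inl (CfsgLib.Coprime.isSolvable_of_le (fittingHallOf_le S) (maximal_solvable P.minimal F.coatom)))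
    have hgs : cj (g * s) U = U := by
      have e' : cj s U = cj g⁻¹ U := by
        rw [← e]
        ext w
        rw [mem_cj, CfsgLib.Coprime.mem_conj_smul]
      rw [cj_mul, e', cj_cj_inv]
    have h2 : g * s ∈ cj g S := hNL (mem_normalizer_iff_cj.mpr hgs)
    have hg : cj g S = S := by
      have h3 : cj (g * s) S = cj g S := by rw [cj_mul, cj_eq_self_of_mem (fittingHallOf_le S hs)]
      have h4 : cj (g * s)⁻¹ (cj g S) = cj g S := cj_eq_self_of_mem (inv_mem h2)
      rw [← h4, ← h3, cj_inv_cj]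
    rwa [hg] at hNL
  · exfalso
    have F' := P.facts'
    obtain ⟨x, hx, hx1⟩ := (Subgroup.bot_or_exists_ne_one W₁).resolve_left F.hP.W₁_ne
    have hxT : g⁻¹ * x * g ∈ T := mem_cj.mp (hUWL (mem_sup_right hx))
    have hxo : orderOf (g⁻¹ * x * g) = Nat.card W₁ := by
      rw [show g⁻¹ * x * g = MulAut.conj g⁻¹ x by simp, ← MulEquiv.coe_toMonoidHom]
      rw [orderOf_injective (MulAut.conj g⁻¹).toMonoidHom (MulAut.conj g⁻¹).injective]
      exact ((Nat.dvd_prime F.prime_q).mp (W₁.orderOf_dvd_natCard hx)).resolve_left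
        fun h => hx1 (orderOf_eq_one_iff.mp h)
    have hxQ : g⁻¹ * x * g ∈ fittingHallOf T := TypeOne.mem_of_prime_order
      (le_normalizer_fittingHallOf T) (coprime_fittingHallOf T) F.prime_q
      (by rw [F'.card_H]; exact dvd_pow_self _ F.prime_p.ne_zero) hxT hxo
    let f : U → U := fun v => ⟨(v : G) * x * (v : G)⁻¹ * x⁻¹, by
      rw [show (v : G) * x * (v : G)⁻¹ * x⁻¹ = v * (x * (v : G)⁻¹ * x⁻¹) by group]
      exact U.mul_mem v.2 ((mem_normalizer_iff.mp (F.hP.U_normal hx) _).mp (U.inv_mem v.2))⟩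
    obtain ⟨v, hv, hv1⟩ := (Subgroup.bot_or_exists_ne_one U).resolve_left F.U_ne
    have hfv : (f ⟨v, hv⟩ : G) ≠ 1 := by
      intro e
      refine hv1 (congrArg Subtype.val (F.loc.fpf_U (x := ⟨x, F.W₁_le hx⟩) (v := ⟨v, U_le F.hP hv⟩)
        hx (fun e' => hx1 (congrArg Subtype.val e')) hv (Subtype.ext ?_)))
      show x * v * x⁻¹ = v
      have e' : v * x * v⁻¹ * x⁻¹ = 1 := e
      have e'' : x = v * x * v⁻¹ := (mul_inv_eq_one.mp e').symm
      calc x * v * x⁻¹ = v * x * v⁻¹ * v * x⁻¹ := by rw [← e'']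
        _ = v := by group
    have hmem : g⁻¹ * (f ⟨v, hv⟩ : G) * g ∈ fittingHallOf T := by
      rw [show g⁻¹ * (v * x * v⁻¹ * x⁻¹) * g =
        (g⁻¹ * v * g) * (g⁻¹ * x * g) * (g⁻¹ * v * g)⁻¹ * (g⁻¹ * x * g)⁻¹ by group]
      exact mul_mem ((mem_normalizer_iff.mp (le_normalizer_fittingHallOf T
        (mem_cj.mp (hUWL (mem_sup_left hv)))) _).mp hxQ) (inv_mem hxQ)
    refine F.q_coprime_U (dvd_trans (dvd_of_eq ?_) (U.orderOf_dvd_natCard (f ⟨v, hv⟩).2))
    have h1 := orderOf_dvd_of_pow_eq_one (F'.exp_H _ hmem)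
    rw [show g⁻¹ * (f ⟨v, hv⟩ : G) * g = MulAut.conj g⁻¹ (f ⟨v, hv⟩ : G) by simp,
      ← MulEquiv.coe_toMonoidHom,
      orderOf_injective (MulAut.conj g⁻¹).toMonoidHom (MulAut.conj g⁻¹).injective] at h1
    exact (((Nat.dvd_prime F.prime_q).mp h1).resolve_left fun h => hfv (orderOf_eq_one_iff.mp h)).symm

end PairData

end CfsgLib.FT.Route
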