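import Cfsg.Agent.Lib.FT.Route.PairII
import Cfsg.Agent.Lib.FT.TypeOne.Wiring
import Cfsg.Agent.Lib.FT.LocalDischarge
import Cfsg.Agent.Lib.OddOrder.CyclicSubgroups
import Cfsg.Agent.Lib.Base.FPF

/-!
# The maximal subgroups outside a pair of Type II

All of them are Frobenius groups whose kernels are TI-subgroups.
-/

set_option autoImplicit false
set_option linter.style.haveILetI false
set_option linter.unusedSectionVars false

namespace CfsgLib.FT.Route

open _root_.Subgroup Cfsg CfsgLib.OddOrder CfsgLib.FT.BG15 CfsgLib.FT.PF13 CfsgLib.Techniques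

universe u

variable {G : Type u} [Group G] [Finite G]

/-- Two maximal subgroups of Type II forming a pair. -/
structure PairData (S T W₁ W₂ U V : Subgroup G) : Prop where
  facts : Facts S W₁ U W₂
  facts' : Facts T W₂ V W₁
  typeII : IsOfTypeII S
  typeII' : IsOfTypeII T

/-- A maximal subgroup that is a Frobenius group with a TI kernel. -/
structure FrobMax (L : Subgroup G) : Prop where
  coatom : IsCoatom L
  typeI : FT.IsOfTypeI L
  frob : ∀ x ∈ fittingHallOf L, x ≠ 1 → L ⊓ centralizer ({x} : Set G) ≤ fittingHallOf L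
  ti : ∀ g z : G, z ∈ fittingHallOf L → z ≠ 1 → g * z * g⁻¹ ∈ fittingHallOf L → g ∈ L

theorem not_typeI_of_typeII (hG : IsMinSimpleOddOrder G) {M : Subgroup G} (hM : IsCoatom M)
    (hII : IsOfTypeII M) : ¬ FT.IsOfTypeI M := fun hI => by
  obtain ⟨K, U, hKU⟩ := exists_decomposition localFacts8 hG hM
  exact ((localFacts8.s1381 hG M hM K U hKU).mp hII).1
    ((localFacts8.s1380 hG M hM K U hKU).mp hI).1

namespace PairData

variable {S T W₁ W₂ U V : Subgroup G} (P : PairData S T W₁ W₂ U V)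
include P

theorem minimal : IsMinSimpleOddOrder G := P.facts.minimal

theorem symm : PairData T S W₂ W₁ V U := ⟨P.facts', P.facts, P.typeII', P.typeII⟩

theorem not_conj (g : G) : cj g S ≠ T := by
  intro e
  have hd : cj g ⁅S, S⁆ = ⁅T, T⁆ := by rw [cj_commutator, e]
  have h1 := card_mul_card_of_isComplIn P.facts.hP.W₁_compl
  have h2 := card_mul_card_of_isComplIn P.facts'.hP.W₁_compl
  rw [← hd, card_cj, ← e, card_cj, ← h1] at h2
  exact P.facts.ne (Nat.eq_of_mul_eq_mul_left Nat.card_pos h2)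

theorem trichotomy {M : Subgroup G} (hM : IsCoatom M) :
    FT.IsOfTypeI M ∨ (∃ g, cj g S = M) ∨ ∃ g, cj g T = M := by
  rcases BG16.stmtS1385 P.minimal with hall |
    ⟨A, B, S', T', -, -, -, -, -, -, -, -, -, hall⟩
  · exact absurd (hall S P.facts.coatom) (not_typeI_of_typeII P.minimal P.facts.coatom P.typeII)
  refine (hall M hM).imp_right fun ⟨g, hg⟩ => ?_
  obtain ⟨a, ha⟩ := (hall S P.facts.coatom).resolve_left
    (not_typeI_of_typeII P.minimal P.facts.coatom P.typeII)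
  obtain ⟨b, hb⟩ := (hall T P.facts'.coatom).resolve_left
    (not_typeI_of_typeII P.minimal P.facts'.coatom P.typeII')
  rcases ha with ha | ha <;> rcases hb with hb | hb
  · exact absurd (show cj (b * a⁻¹) S = T by rw [cj_mul, ha, cj_inv_cj, hb]) (P.not_conj _)
  · rcases hg with hg | hg
    · exact Or.inl ⟨g * a⁻¹, by rw [cj_mul, ha, cj_inv_cj, hg]⟩
    · exact Or.inr ⟨g * b⁻¹, by rw [cj_mul, hb, cj_inv_cj, hg]⟩
  · rcases hg with hg | hg
    · exact Or.inr ⟨g * b⁻¹, by rw [cj_mul, hb, cj_inv_cj, hg]⟩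
    · exact Or.inl ⟨g * a⁻¹, by rw [cj_mul, ha, cj_inv_cj, hg]⟩
  · exact absurd (show cj (b * a⁻¹) S = T by rw [cj_mul, ha, cj_inv_cj, hb]) (P.not_conj _)

theorem noSupportedIn : TypeOne.NoSupportedIn G := by
  intro M hM h34 x hx
  exfalso
  obtain ⟨K, U₀, hKU⟩ := exists_decomposition localFacts8 P.minimal hM
  have hKU' : K ≠ ⊥ ∧ U₀ = ⊥ := by
    rcases h34 with h | h | h
    · exact ⟨((localFacts8.s1382 P.minimal M hM K U₀ hKU).mp (Or.inl h)).1,
        ((localFacts8.s1382 P.minimal M hM K U₀ hKU).mp (Or.inl h)).2.1⟩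
    · exact ⟨((localFacts8.s1382 P.minimal M hM K U₀ hKU).mp (Or.inr h)).1,
        ((localFacts8.s1382 P.minimal M hM K U₀ hKU).mp (Or.inr h)).2.1⟩
    · exact ⟨((TypeOne.localFacts12.s1383 P.minimal M hM K U₀ hKU).mp h).1,
        ((TypeOne.localFacts12.s1383 P.minimal M hM K U₀ hKU).mp h).2.1⟩
  rcases P.trichotomy hM with h | ⟨g, rfl⟩ | ⟨g, rfl⟩
  · exact hKU'.1 ((localFacts8.s1380 P.minimal M hM K U₀ hKU).mp h).1
  · exact ((localFacts8.s1381 P.minimal _ hM K U₀ hKU).mp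
      ((isOfTypeII_map (MulAut.conj g) S).mpr P.typeII)).2 hKU'.2
  · exact ((localFacts8.s1381 P.minimal _ hM K U₀ hKU).mp
      ((isOfTypeII_map (MulAut.conj g) T).mpr P.typeII')).2 hKU'.2

theorem frob {M : Subgroup G} (hM : IsCoatom M) (hI : FT.IsOfTypeI M) :
    ∀ x ∈ fittingHallOf M, x ≠ 1 → M ⊓ centralizer ({x} : Set G) ≤ fittingHallOf M :=
  TypeOne.frobenius_of_typeI TypeOne.localFacts12 (stmtS1542_of_local localFacts8) P.minimal
    P.noSupportedIn hM hI

/-- A Type I maximal subgroup over `U W₁`: `U` is in the kernel and `W₁` is not. -/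
theorem U_le_kernel {L : Subgroup G} (hL : IsCoatom L) (hI : FT.IsOfTypeI L) (hU : U ⊔ W₁ ≤ L) :
    U ≤ fittingHallOf L ∧ ¬ Nat.card W₁ ∣ Nat.card (fittingHallOf L) := by
  have hfrob := P.frob hL hI
  have F := P.facts
  have hUL : U ≤ L := le_sup_left.trans hU
  have hWL : W₁ ≤ L := le_sup_right.trans hU
  have hn := le_normalizer_fittingHallOf L
  have hcop := coprime_fittingHallOf L
  have hfpfU : ∀ x ∈ W₁, x ≠ 1 → ∀ v ∈ U, x * v = v * x → v = 1 := by
    intro x hx hx1 v hv h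
    refine congrArg Subtype.val (F.loc.fpf_U (x := ⟨x, F.W₁_le hx⟩) (v := ⟨v, U_le F.hP hv⟩) hx
      (fun e => hx1 (congrArg Subtype.val e)) hv (Subtype.ext ?_))
    show x * v * x⁻¹ = v
    rw [h, mul_inv_cancel_right]
  have hUn : ∀ x ∈ W₁, ∀ v ∈ U, x * v * x⁻¹ ∈ U := fun x hx v hv =>
    (mem_normalizer_iff.mp (F.hP.U_normal hx) v).mp hv
  -- `W₁` avoids the kernel
  have hWK : ∀ x ∈ W₁, x ∈ fittingHallOf L → x = 1 := by
    intro x hx hxK
    by_contra hx1
    let f : U → U := fun v => ⟨x * (v : G) * x⁻¹ * (v : G)⁻¹, U.mul_mem (hUn x hx v v.2) (U.inv_mem v.2)⟩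
    have hf : Function.Injective f := by
      intro a b e
      have e' : x * (a : G) * x⁻¹ * (a : G)⁻¹ = x * (b : G) * x⁻¹ * (b : G)⁻¹ := congrArg Subtype.val e
      have h1 : (a : G)⁻¹ * b = 1 := by
        refine hfpfU x hx hx1 _ (U.mul_mem (U.inv_mem a.2) b.2) ?_
        have e2 : x * (b : G) * x⁻¹ = x * (a : G) * x⁻¹ * ((a : G)⁻¹ * b) := by
          rw [← mul_assoc (x * (a : G) * x⁻¹), e', inv_mul_cancel_right]
        calc x * ((a : G)⁻¹ * b) = (x * (a : G) * x⁻¹)⁻¹ * (x * (b : G) * x⁻¹) * x := by group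
          _ = (a : G)⁻¹ * b * x := by rw [e2, inv_mul_cancel_left]
      exact Subtype.ext (inv_mul_eq_one.mp h1)
    have hUK : U ≤ fittingHallOf L := by
      intro v hv
      obtain ⟨w, hw⟩ := (Finite.injective_iff_surjective.mp hf) ⟨v, hv⟩
      have e : x * (w : G) * x⁻¹ * (w : G)⁻¹ = v := congrArg Subtype.val hw
      rw [← e, show x * (w : G) * x⁻¹ * (w : G)⁻¹ = x * ((w : G) * x⁻¹ * (w : G)⁻¹) by group]
      exact mul_mem hxK ((mem_normalizer_iff.mp (hn (hUL w.2)) _).mp (inv_mem hxK))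
    obtain ⟨v, hv, hv1⟩ := (Subgroup.bot_or_exists_ne_one U).resolve_left F.U_ne
    refine hv1 (hfpfU x hx hx1 v hv (CfsgLib.OddOrder.commute_of_isNilpotent
      (isNilpotent_fittingHallOf L) hxK (hUK hv) ?_).eq)
    have hxo : orderOf x = Nat.card W₁ := ((Nat.dvd_prime F.prime_q).mp
      (W₁.orderOf_dvd_natCard hx)).resolve_left fun h => hx1 (orderOf_eq_one_iff.mp h)
    rw [hxo]
    exact (F.prime_q.coprime_iff_not_dvd.mpr F.q_coprime_U).coprime_dvd_right
      (U.orderOf_dvd_natCard hv)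
  have hqh : ¬ Nat.card W₁ ∣ Nat.card (fittingHallOf L) := by
    intro hd
    obtain ⟨x, hx, hx1⟩ := (Subgroup.bot_or_exists_ne_one W₁).resolve_left F.hP.W₁_ne
    exact hx1 (hWK x hx (TypeOne.mem_of_prime_order hn hcop F.prime_q hd (hWL hx)
      (((Nat.dvd_prime F.prime_q).mp (W₁.orderOf_dvd_natCard hx)).resolve_left
        fun h => hx1 (orderOf_eq_one_iff.mp h))))
  refine ⟨fun v hv => ?_, hqh⟩
  by_contra hvK
  obtain ⟨r, hr, hrh, k, hk⟩ := TypeOne.exists_pow_prime_order hn hcop (hUL hv) hvK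
  haveI := Fact.mk hr
  let R : Subgroup G :=
    { carrier := {w | w ∈ U ∧ w ^ r = 1}
      one_mem' := ⟨U.one_mem, one_pow _⟩
      mul_mem' := fun {a b} ha hb => ⟨U.mul_mem ha.1 hb.1, by
        rw [(show Commute a b from F.U_comm a ha.1 b hb.1).mul_pow, ha.2, hb.2, one_mul]⟩
      inv_mem' := fun {a} ha => ⟨U.inv_mem ha.1, by rw [inv_pow, ha.2, inv_one]⟩ }
  have hRn : ∀ x ∈ W₁, ∀ w ∈ R, x * w * x⁻¹ ∈ R := fun x hx w hw =>
    ⟨hUn x hx w hw.1, by rw [conj_pow, hw.2, mul_one, mul_inv_cancel]⟩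
  have hRK : ∀ w ∈ R, w ≠ 1 → w ∉ fittingHallOf L := by
    intro w hw hw1 hwK
    refine hrh ?_
    have := (fittingHallOf L).orderOf_dvd_natCard hwK
    rwa [orderOf_eq_prime hw.2 hw1] at this
  have hRh : (Nat.card (fittingHallOf L)).Coprime (Nat.card ↥(R ⊔ W₁)) := by
    refine Nat.Coprime.coprime_dvd_right (CfsgLib.Coprime.card_sup_dvd (H := W₁) (N := R) ?_ |>
      (sup_comm W₁ R ▸ ·)) (Nat.Coprime.mul_right ?_ ?_)
    · exact fun x hx => mem_normalizer_iff.mpr fun w => ⟨hRn x hx w, fun h => by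
        simpa [mul_assoc] using hRn x⁻¹ (W₁.inv_mem hx) _ h⟩
    · exact (F.prime_q.coprime_iff_not_dvd.mpr hqh).symm
    · refine Nat.coprime_of_dvd fun s hs h1 h2 => hrh ?_
      haveI := Fact.mk hs
      obtain ⟨w, hw⟩ := exists_prime_orderOf_dvd_card' (G := R) s h2
      have h3 : orderOf (w : G) ∣ r := orderOf_dvd_of_pow_eq_one w.2.2
      rw [orderOf_coe, hw, Nat.prime_dvd_prime_iff_eq hs hr] at h3
      exact h3 ▸ h1
  have hsolv : Group.IsSolvable (fittingHallOf L) :=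
    CfsgLib.Coprime.isSolvable_of_le (fittingHallOf_le L) (maximal_solvable P.minimal hL)
  have hRL : R ⊔ W₁ ≤ L := sup_le (fun w hw => hUL hw.1) hWL
  have hf := CfsgLib.FT.card_centralizer_formula F.hP.W₁_ne hRn
    (fun x hx hx1 w hw e => hfpfU x hx hx1 w hw.1 e) (fittingHallOf L) (hRL.trans hn) hsolv hRh
  have hcent : ∀ (X : Subgroup G) (x : G), x ∈ X → x ∈ L → x ∉ fittingHallOf L →
      fittingHallOf L ⊓ centralizer (X : Set G) = ⊥ := by
    intro X x hx hxL hxK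
    refine (Subgroup.eq_bot_iff_forall _).mpr fun z hz => ?_
    by_contra hz1
    exact hxK (hfrob z hz.1 hz1 ⟨hxL, mem_centralizer_singleton_iff.mpr
      (mem_centralizer_iff.mp hz.2 x hx)⟩)
  obtain ⟨x, hx, hx1⟩ := (Subgroup.bot_or_exists_ne_one W₁).resolve_left F.hP.W₁_ne
  have hw : v ^ k ∈ R := ⟨U.pow_mem hv k, by rw [← hk]; exact pow_orderOf_eq_one _⟩
  have hw1 : v ^ k ≠ 1 := fun e => hr.one_lt.ne' (by rw [← hk, e, orderOf_one])
  have hwL : v ^ k ∈ L := hUL hw.1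
  rw [hcent (R ⊔ W₁) x (mem_sup_right hx) (hWL hx) (fun h => hx1 (hWK x hx h)),
    hcent W₁ x hx (hWL hx) (fun h => hx1 (hWK x hx h)), hcent R _ hw hwL (hRK _ hw hw1),
    Subgroup.card_bot, one_pow, one_mul, mul_one] at hf
  obtain ⟨⟨-, -, hne, -⟩, -⟩ := hI
  exact hne ((map_eq_bot_iff_of_injective _ L.subtype_injective).mp (Subgroup.eq_bot_of_card_eq _ hf))

/-- No Type I maximal subgroup meets `S` in a complement of `S_F` with a fixed point of an element
of its kernel. -/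
theorem false_of_fix {L : Subgroup G} (hL : IsCoatom L) (hI : FT.IsOfTypeI L)
    (hc : IsComplIn (fittingHallOf S) (L ⊓ S) S) {a x : G} (haK : a ∈ fittingHallOf L) (haS : a ∈ S)
    (ha1 : a ≠ 1) (hx : x ∈ fittingHallOf S) (hx1 : x ≠ 1) (hax : a * x = x * a) : False := by
  have F := P.facts
  have hn := le_normalizer_fittingHallOf S
  have hUW : U ⊔ W₁ ≤ S := sup_le (U_le F.hP) F.W₁_le
  have hint : fittingHallOf S ⊓ (U ⊔ W₁) = ⊥ := by
    refine (Subgroup.eq_bot_iff_forall _).mpr fun z hz => ?_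
    obtain ⟨w, hw, v, hv, rfl⟩ := (CfsgLib.Coprime.mem_sup_iff_of_le_normalizer F.hP.U_normal).mp
      ((sup_comm U W₁).le hz.2)
    have hv' : v ∈ ⁅S, S⁆ := F.hP.U_compl.2.1 hv
    have hw1 : w ∈ ⁅S, S⁆ ⊓ W₁ := ⟨by
      have := Subgroup.mul_mem _ (F.hP.U_compl.1 hz.1) (Subgroup.inv_mem _ hv')
      rwa [mul_inv_cancel_right] at this, hw⟩
    rw [F.hP.W₁_compl.2.2.1, mem_bot] at hw1
    rw [hw1, one_mul] at hz ⊢
    have hv1 : v ∈ fittingHallOf S ⊓ U := ⟨hz.1, hv⟩
    rwa [F.hP.U_compl.2.2.1, mem_bot] at hv1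
  have hcUW : Nat.card (fittingHallOf S) * Nat.card ↥(U ⊔ W₁) = Nat.card S := by
    rw [sup_comm, CfsgLib.Coprime.card_sup_of_inf_eq_bot F.hP.U_normal, mul_comm (Nat.card W₁),
      ← mul_assoc, card_mul_card_of_isComplIn F.hP.U_compl, card_mul_card_of_isComplIn F.hP.W₁_compl]
    refine le_bot_iff.mp ?_
    rw [← F.hP.W₁_compl.2.2.1, inf_comm]
    exact inf_le_inf_right _ F.hP.U_compl.2.1
  have hsup : fittingHallOf S ⊔ (U ⊔ W₁) = S :=
    Subgroup.eq_of_le_of_card_ge (sup_le (fittingHallOf_le S) hUW) (by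
      rw [sup_comm, CfsgLib.Coprime.card_sup_of_inf_eq_bot (hUW.trans hn) (by rw [inf_comm]; exact hint),
        mul_comm, hcUW])
  obtain ⟨s, hs, e⟩ := CfsgLib.Coprime.sz_conj_rel (N := fittingHallOf S) (H := U ⊔ W₁) (K := L ⊓ S)
    (hUW.trans hn) (inf_le_right.trans hn)
    (coprime_of_disjoint_fittingHallOf hUW hint).symm
    (Nat.eq_of_mul_eq_mul_left Nat.card_pos ((card_mul_card_of_isComplIn hc).trans hcUW.symm))
    (inf_le_right.trans hsup.ge)
    (Or.inl (CfsgLib.Coprime.isSolvable_of_le (fittingHallOf_le S) (maximal_solvable P.minimal F.coatom)))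
  have hsS : s ∈ S := fittingHallOf_le S hs
  set L' := cj s⁻¹ L with hL'
  have hUWL : U ⊔ W₁ ≤ L' := fun w hw => by
    rw [hL', mem_cj, inv_inv]
    have h : s * w * s⁻¹ ∈ L ⊓ S := by
      rw [← e, CfsgLib.Coprime.mem_conj_smul]
      simpa [mul_assoc] using hw
    exact h.1
  have hL'c : IsCoatom L' := isCoatom_cj hL _
  have hI' : FT.IsOfTypeI L' := (isOfTypeI_map _ L).mpr hI
  obtain ⟨hUK, hqh⟩ := P.U_le_kernel hL'c hI' hUWL
  set a' := s⁻¹ * a * s
  set x' := s⁻¹ * x * s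
  have haK' : a' ∈ fittingHallOf L' := by
    rw [hL', show fittingHallOf (cj s⁻¹ L) = cj s⁻¹ (fittingHallOf L) from map_fittingHallOf _ L,
      mem_cj]
    simpa [a', mul_assoc] using haK
  have haUW : a' ∈ U ⊔ W₁ := by
    have h : a ∈ L ⊓ S := ⟨fittingHallOf_le L haK, haS⟩
    rwa [← e, CfsgLib.Coprime.mem_conj_smul] at h
  obtain ⟨w, hw, v, hv, hwv⟩ := (CfsgLib.Coprime.mem_sup_iff_of_le_normalizer F.hP.U_normal).mp
    ((sup_comm U W₁).le haUW)
  have hwK : w ∈ fittingHallOf L' := by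
    have := mul_mem haK' (inv_mem (hUK hv))
    rwa [← hwv, mul_inv_cancel_right] at this
  have hw1 : w = 1 := by
    by_contra hw1
    refine hqh ?_
    have := (fittingHallOf L').orderOf_dvd_natCard hwK
    rwa [((Nat.dvd_prime F.prime_q).mp (W₁.orderOf_dvd_natCard hw)).resolve_left
      fun h => hw1 (orderOf_eq_one_iff.mp h)] at this
  rw [hw1, one_mul] at hwv
  have hxH : x' ∈ fittingHallOf S := by
    simpa [x'] using (mem_normalizer_iff.mp (hn (S.inv_mem hsS)) x).mp hx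
  have hC : (⟨v, U_le F.hP hv⟩ : S) ∈ F.loc.C := by
    refine F.loc.mem_C_of_irred (loc_irred F P.facts') (v := ⟨v, U_le F.hP hv⟩)
      (a := ⟨x', F.H_le hxH⟩) hv hxH (fun h => hx1 ?_) (Subtype.ext ?_)
    · have h' : x' = 1 := congrArg Subtype.val h
      calc x = s * x' * s⁻¹ := by simp [x', mul_assoc]
        _ = 1 := by rw [h']; simp
    · show v * x' = x' * v
      rw [hwv]
      calc a' * x' = s⁻¹ * (a * x) * s := by simp [a', x', mul_assoc]
        _ = s⁻¹ * (x * a) * s := by rw [hax]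
        _ = x' * a' := by simp [a', x', mul_assoc]
  rw [loc_C_eq_bot F P.facts', mem_bot] at hC
  refine ha1 ?_
  have hv1 : v = 1 := congrArg Subtype.val hC
  calc a = s * a' * s⁻¹ := by simp [a', mul_assoc]
    _ = 1 := by rw [← hwv, hv1]; simp

theorem centralizer_le_of_mem_kernel {L : Subgroup G} (hL : IsCoatom L) (hI : FT.IsOfTypeI L)
    {a : G} (ha : a ∈ fittingHallOf L) (ha1 : a ≠ 1) : centralizer ({a} : Set G) ≤ L := by
  by_contra hC
  have hdata : ∀ {N : Subgroup G}, IsCoatom N → FT.IsOfTypeI N → ∀ {b : G}, b ∈ fittingHallOf N →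
      b ≠ 1 → ¬ centralizer ({b} : Set G) ≤ N → ∀ M : Subgroup G, IsCoatom M →
      centralizer ({b} : Set G) ≤ M → IsComplIn (fittingHallOf M) (N ⊓ M) M ∧
        ∃ x ∈ fittingHallOf M, x ≠ 1 ∧ b * x = x * b := by
    intro N hN hNI b hb hb1 hbC M hM hbM
    have hbA : b ∈ FT.typeA N := by
      rw [FT.typeA, if_pos hNI]
      exact ⟨fittingHallOf_le N hb, hb1, b, hb, hb1, rfl⟩
    obtain ⟨h1, -, h3, -⟩ := (localFacts8.s1391 P.minimal N hN _ (Or.inl rfl)).2.2 b hbA hbC M hM hbM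
    refine ⟨h1, ?_⟩
    by_contra hx
    refine hbC fun c hc => ?_
    obtain ⟨y, hy, z, hz, rfl⟩ := h3.2.2.2 c hc
    have hy1 : y = 1 := by
      by_contra hy1
      exact hx ⟨y, hy.1, hy1, (mem_centralizer_singleton_iff.mp hy.2).symm⟩
    rw [hy1, one_mul]
    exact hz.1
  obtain ⟨M, hM, hCM⟩ := exists_maximal_ge
    (minSimple_centralizer_singleton_ne_top P.minimal ha1)
  have haM : a ∈ M := hCM (mem_centralizer_singleton_iff.mpr rfl)
  rcases P.trichotomy hM with hMI | ⟨g, hg⟩ | ⟨g, hg⟩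
  · obtain ⟨hcompl, x, hx, hx1, hax⟩ := hdata hL hI ha ha1 hC M hM hCM
    have haK : a ∈ fittingHallOf M ⊓ (L ⊓ M) :=
      ⟨P.frob hM hMI x hx hx1 ⟨haM, mem_centralizer_singleton_iff.mpr hax⟩,
        fittingHallOf_le L ha, haM⟩
    rw [hcompl.2.2.1, mem_bot] at haK
    exact ha1 haK
  all_goals
    have hb : g⁻¹ * a * g ∈ fittingHallOf (cj g⁻¹ L) := by
      rw [show fittingHallOf (cj g⁻¹ L) = cj g⁻¹ (fittingHallOf L) from map_fittingHallOf _ L, mem_cj]
      simpa [mul_assoc] using ha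
    have hb1 : g⁻¹ * a * g ≠ 1 := fun h => ha1 (by
      calc a = g * (g⁻¹ * a * g) * g⁻¹ := by group
        _ = 1 := by rw [h]; group)
    have hcen : ∀ c, c ∈ centralizer ({g⁻¹ * a * g} : Set G) →
        g * c * g⁻¹ ∈ centralizer ({a} : Set G) := fun c hc => mem_centralizer_singleton_iff.mpr (by
      calc g * c * g⁻¹ * a = g * (c * (g⁻¹ * a * g)) * g⁻¹ := by group
        _ = g * ((g⁻¹ * a * g) * c) * g⁻¹ := by rw [mem_centralizer_singleton_iff.mp hc]
        _ = a * (g * c * g⁻¹) := by group)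
    have hbC : ¬ centralizer ({g⁻¹ * a * g} : Set G) ≤ cj g⁻¹ L := fun h => hC fun c hc => by
      have h1 := h (show g⁻¹ * c * g ∈ centralizer ({g⁻¹ * a * g} : Set G) from
        mem_centralizer_singleton_iff.mpr (by
          calc g⁻¹ * c * g * (g⁻¹ * a * g) = g⁻¹ * (c * a) * g := by group
            _ = g⁻¹ * (a * c) * g := by rw [mem_centralizer_singleton_iff.mp hc]
            _ = g⁻¹ * a * g * (g⁻¹ * c * g) := by group))
      simpa [mem_cj, mul_assoc] using h1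
  · have hbM : centralizer ({g⁻¹ * a * g} : Set G) ≤ S := fun c hc => by
      have := hg ▸ hCM (hcen c hc)
      exact conj_mem_cj.mp this
    obtain ⟨hcompl, x, hx, hx1, hax⟩ := hdata (isCoatom_cj hL _) ((isOfTypeI_map _ L).mpr hI)
      hb hb1 hbC S P.facts.coatom hbM
    exact P.false_of_fix (isCoatom_cj hL _) ((isOfTypeI_map _ L).mpr hI) hcompl hb
      (hbM (mem_centralizer_singleton_iff.mpr rfl)) hb1 hx hx1 hax
  · have hbM : centralizer ({g⁻¹ * a * g} : Set G) ≤ T := fun c hc => by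
      have := hg ▸ hCM (hcen c hc)
      exact conj_mem_cj.mp this
    obtain ⟨hcompl, x, hx, hx1, hax⟩ := hdata (isCoatom_cj hL _) ((isOfTypeI_map _ L).mpr hI)
      hb hb1 hbC T P.facts'.coatom hbM
    exact P.symm.false_of_fix (isCoatom_cj hL _) ((isOfTypeI_map _ L).mpr hI) hcompl hb
      (hbM (mem_centralizer_singleton_iff.mpr rfl)) hb1 hx hx1 hax

/-- Every maximal subgroup of Type I is a Frobenius group with TI kernel. -/
theorem frobMax {L : Subgroup G} (hL : IsCoatom L) (hI : FT.IsOfTypeI L) : FrobMax L := by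
  refine ⟨hL, hI, P.frob hL hI, fun g z hz hz1 hgz => ?_⟩
  have hA : ∀ y, y ∈ fittingHallOf L → y ≠ 1 → y ∈ FT.typeA L := fun y hy hy1 => by
    rw [FT.typeA, if_pos hI]
    exact ⟨fittingHallOf_le L hy, hy1, y, hy, hy1, rfl⟩
  obtain ⟨m, hm, he⟩ := (localFacts8.s1391 P.minimal L hL _ (Or.inl rfl)).1 z (hA z hz hz1) g
    (hA _ hgz fun e => hz1 (conj_eq_one_iff.mp e))
  have hc : m⁻¹ * g ∈ centralizer ({z} : Set G) := mem_centralizer_singleton_iff.mpr (by
    calc m⁻¹ * g * z = m⁻¹ * (g * z * g⁻¹) * g := by group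
      _ = m⁻¹ * (m * z * m⁻¹) * g := by rw [he]
      _ = z * (m⁻¹ * g) := by group)
  have := L.mul_mem hm (P.centralizer_le_of_mem_kernel hL hI hz hz1 hc)
  rwa [mul_inv_cancel_left] at this

end PairData

end CfsgLib.FT.Route
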